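/-
Automorphisms of order prime to `p` of finite `p`-groups: cyclic fixed point facts and the theorem that an
automorphism fixing all elements of order dividing `p` (and `4` for `p = 2`) is trivial.
-/
import Cfsg.Agent.PGroups.Basic
import Mathlib

set_option autoImplicit false

namespace Cfsg.Agent.H62

universe u

/-- `n` is prime to `p` and has no prime divisor below `p`. -/
def PStrong (p n : ℕ) : Prop := n.Coprime p ∧ ∀ q : ℕ, q.Prime → q ∣ n → p ≤ q

theorem PStrong.coprime_totient {p n : ℕ} (hp : p.Prime) (h : PStrong p n) (a : ℕ) :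
    n.Coprime (Nat.totient (p ^ a)) := by
  rcases Nat.eq_zero_or_pos a with rfl | ha
  · simp
  rw [Nat.totient_prime_pow hp ha]
  refine (h.1.pow_right _).mul_right (Nat.coprime_of_dvd fun q hq hqn hqp => ?_)
  have := h.2 q hq hqn
  have := hp.one_lt
  have := Nat.le_of_dvd (by omega) hqp
  omega

theorem eq_one_of_pow_eq_one_of_pGroup {p : ℕ} {K : Type*} [Group K] (hK : IsPGroup p K) {n : ℕ}
    (hn : n.Coprime p) {x : K} (hx : x ^ n = 1) : x = 1 := by
  obtain ⟨k, hk⟩ := hK x
  have h1 : orderOf x ∣ Nat.gcd n (p ^ k) := Nat.dvd_gcd (orderOf_dvd_of_pow_eq_one hx) (orderOf_dvd_of_pow_eq_one hk)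
  rw [(hn.pow_right k).gcd_eq_one, Nat.dvd_one] at h1
  exact orderOf_eq_one_iff.mp h1

theorem mulAut_cyclic_eq_one {p : ℕ} (hp : p.Prime) {X : Type*} [Group X] [Finite X] [IsCyclic X] {k : ℕ}
    (hX : Nat.card X = p ^ k) {n : ℕ} (hn : PStrong p n) (a : MulAut X) (ha : a ^ n = 1) : a = 1 := by
  have h2 : a ^ Nat.card (MulAut X) = 1 := pow_card_eq_one'
  rw [IsCyclic.card_mulAut, hX] at h2
  have := Nat.dvd_gcd (orderOf_dvd_of_pow_eq_one ha) (orderOf_dvd_of_pow_eq_one h2)
  rw [(hn.coprime_totient hp k).gcd_eq_one, Nat.dvd_one] at this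
  exact orderOf_eq_one_iff.mp this

theorem push {U K : Type*} [Group U] [Group K] (a : MulAut U) (f : U →* K) {u c : U}
    (hu : a u = c * u) (hc : ∀ k : ℕ, f ((a ^ k) c) = f c) (k : ℕ) : f ((a ^ k) u) = f c ^ k * f u := by
  induction k with
  | zero => simp
  | succ k ih =>
    rw [pow_succ, MulAut.mul_apply, hu, map_mul, map_mul, hc, ih, pow_succ', mul_assoc]

/-- If the error term is fixed modulo the kernel, it lies in the kernel. -/
theorem push_eq_one {p : ℕ} {U K : Type*} [Group U] [Group K] (hK : IsPGroup p K) {n : ℕ} (hn : n.Coprime p)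
    (a : MulAut U) (ha : a ^ n = 1) (f : U →* K) {u c : U}
    (hu : a u = c * u) (hc : ∀ k : ℕ, f ((a ^ k) c) = f c) : f c = 1 := by
  have h := push a f hu hc n
  rw [ha, MulAut.one_apply] at h
  exact eq_one_of_pow_eq_one_of_pGroup hK hn (right_eq_mul.mp h)

/-- Conjugation by a normalizing element as an automorphism of the subgroup. -/
def conjAut {G : Type*} [Group G] (U : Subgroup G) {h : G} (hh : h ∈ Subgroup.normalizer (U : Set G)) : MulAut U :=
  U.normalizerMonoidHom ⟨h, hh⟩

theorem conjAut_coe {G : Type*} [Group G] (U : Subgroup G) {h : G} (hh : h ∈ Subgroup.normalizer (U : Set G))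
    (x : U) : (conjAut U hh x : G) = h * x * h⁻¹ := rfl

theorem conjAut_pow_orderOf {G : Type*} [Group G] (U : Subgroup G) {h : G}
    (hh : h ∈ Subgroup.normalizer (U : Set G)) : conjAut U hh ^ orderOf h = 1 := by
  have : (⟨h, hh⟩ : Subgroup.normalizer (U : Set G)) ^ orderOf h = 1 := Subtype.ext (pow_orderOf_eq_one h)
  rw [conjAut, ← map_pow, this, map_one]

theorem commute_of_normalizes_cyclic {p : ℕ} (hp : p.Prime) {G : Type*} [Group G] [Finite G] (X : Subgroup G)
    [IsCyclic X] {k : ℕ} (hX : Nat.card X = p ^ k) {h : G} (hn : PStrong p (orderOf h))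
    (hh : h ∈ Subgroup.normalizer (X : Set G)) {x : G} (hx : x ∈ X) : h * x * h⁻¹ = x := by
  have := mulAut_cyclic_eq_one hp hX hn (conjAut X hh) (conjAut_pow_orderOf X hh)
  have h2 := congrArg (fun a : MulAut X => ((a ⟨x, hx⟩ : X) : G)) this
  simpa [conjAut_coe] using h2

theorem pow_mul_comm_central {U : Type*} [Group U] {c u z : U} (hz : z ∈ Subgroup.center U)
    (h : u * c = c * u * z) (k : ℕ) : u ^ k * c = c * u ^ k * z ^ k := by
  induction k with
  | zero => simp
  | succ k ih =>
    have hzc : ∀ g, g * z = z * g := Subgroup.mem_center_iff.mp hz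
    calc u ^ (k + 1) * c = u * (u ^ k * c) := by rw [pow_succ', mul_assoc]
      _ = (u * c) * u ^ k * z ^ k := by rw [ih]; group
      _ = c * u * (z * u ^ k) * z ^ k := by rw [h]; group
      _ = c * u * (u ^ k * z) * z ^ k := by rw [hzc]
      _ = c * u ^ (k + 1) * z ^ (k + 1) := by rw [pow_succ' u, pow_succ' z]; group

theorem mul_pow_class_two {U : Type*} [Group U] {c u z : U} (hz : z ∈ Subgroup.center U)
    (h : u * c = c * u * z) (k : ℕ) : (c * u) ^ k = c ^ k * u ^ k * z ^ k.choose 2 := by
  induction k with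
  | zero => simp
  | succ k ih =>
    have hzc : ∀ g, g * z ^ k.choose 2 = z ^ k.choose 2 * g :=
      Subgroup.mem_center_iff.mp (Subgroup.pow_mem _ hz _)
    have hzk : ∀ g, g * z ^ k = z ^ k * g := Subgroup.mem_center_iff.mp (Subgroup.pow_mem _ hz _)
    calc (c * u) ^ (k + 1) = c ^ k * u ^ k * (z ^ k.choose 2 * (c * u)) := by rw [pow_succ, ih]; group
      _ = c ^ k * (u ^ k * c) * u * z ^ k.choose 2 := by rw [← hzc]; group
      _ = c ^ k * c * u ^ k * (z ^ k * u) * z ^ k.choose 2 := by rw [pow_mul_comm_central hz h]; group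
      _ = c ^ k * c * (u ^ k * u) * (z ^ k * z ^ k.choose 2) := by rw [← hzk]; group
      _ = c ^ (k + 1) * u ^ (k + 1) * z ^ (k + 1).choose 2 := by
        rw [← pow_succ, ← pow_succ, ← pow_add, Nat.choose_succ_succ' k 1, Nat.choose_one_right]

/-- An automorphism of order prime to `p` fixing every element of order dividing `p`, and of order dividing `4`
if `p = 2`, is trivial. -/
theorem fix_all {p : ℕ} [Fact p.Prime] {U : Type u} [Group U] [Finite U] (hU : IsPGroup p U)
    (a : MulAut U) {n : ℕ} (hn : n.Coprime p) (ha : a ^ n = 1)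
    (h1 : ∀ x : U, x ^ p = 1 → a x = x) (h4 : p = 2 → ∀ x : U, x ^ 4 = 1 → a x = x) : a = 1 := by
  induction h : Nat.card U using Nat.strong_induction_on generalizing U with
  | _ m ih =>
  subst h
  ext u
  by_contra hu
  have hnt : Nontrivial U := ⟨⟨_, _, hu⟩⟩
  have hfix : ∀ L : Subgroup U, L ≠ ⊤ → (∀ x ∈ L, a x ∈ L) → ∀ x ∈ L, a x = x := by
    intro L hL hinv x hx
    have hmap : L.map (a : U ≃* U).toMonoidHom = L :=
      Subgroup.eq_of_le_of_card_ge (by rintro _ ⟨y, hy, rfl⟩; exact hinv y hy)
        (Subgroup.card_map_of_injective (MulEquiv.injective a)).ge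
    let b : MulAut L := (a.subgroupMap L).trans (MulEquiv.subgroupCongr hmap)
    have hb : ∀ (k : ℕ) (y : L), ((b ^ k) y : U) = (a ^ k) y := by
      intro k y
      induction k generalizing y with
      | zero => rfl
      | succ k ihk => rw [pow_succ, pow_succ, MulAut.mul_apply, MulAut.mul_apply, ihk]; rfl
    have hbn : b ^ n = 1 := by ext y; rw [hb, ha]; rfl
    have hlt : Nat.card L < Nat.card U :=
      lt_of_le_of_ne (Subgroup.card_le_card_group L) fun e => hL (Subgroup.eq_top_of_card_eq L e)
    have := ih (Nat.card L) hlt (hU.to_subgroup L) b hbn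
      (fun y hy => Subtype.ext (h1 y (congrArg Subtype.val hy)))
      (fun hp y hy => Subtype.ext (h4 hp y (congrArg Subtype.val hy))) rfl
    exact congrArg Subtype.val (DFunLike.congr_fun this ⟨x, hx⟩)
  obtain ⟨M, hM, -⟩ := (eq_top_or_exists_le_coatom (⊥ : Subgroup U)).resolve_left bot_ne_top
  have hΦ : frattini U ≠ ⊤ := fun e => hM.1 (top_le_iff.mp (e ▸ frattini_le_coatom hM))
  have hΦfix : ∀ x ∈ frattini U, a x = x :=
    hfix _ hΦ fun x hx => (SetLike.ext_iff.mp ((inferInstance : (frattini U).Characteristic).fixed a) x).mpr hx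
  have hcomm : ∀ v : U, ∀ z ∈ frattini U, a v * v⁻¹ * z = z * (a v * v⁻¹) := by
    intro v z hz
    have hz' : v⁻¹ * z * v ∈ frattini U := by
      simpa using (inferInstance : (frattini U).Normal).conj_mem z hz v⁻¹
    have h := hΦfix _ hz'
    rw [map_mul, map_mul, map_inv, hΦfix z hz] at h
    calc a v * v⁻¹ * z = a v * (v⁻¹ * z * v) * v⁻¹ := by group
      _ = a v * ((a v)⁻¹ * z * a v) * v⁻¹ := by rw [h]
      _ = z * (a v * v⁻¹) := by group
  have hcn : ∀ c : U, a c = c → c = a u * u⁻¹ → c = 1 := fun c hc hcu =>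
    push_eq_one (p := p) hU hn a ha (MonoidHom.id U) (u := u) (by rw [hcu]; group) fun k => by
      induction k with
      | zero => rfl
      | succ k ihk => rw [pow_succ, MulAut.mul_apply, hc]; exact ihk
  apply hu
  show a u = (1 : MulAut U) u
  rw [MulAut.one_apply]
  suffices a (a u * u⁻¹) = a u * u⁻¹ from mul_inv_eq_one.mp (hcn _ this rfl)
  set S : Set U := Set.range (fun v => a v * v⁻¹) with hS
  by_cases hK : frattini U ⊔ Subgroup.closure S = ⊤
  · have hcen : frattini U ≤ Subgroup.center U := by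
      intro z hz
      rw [Subgroup.mem_center_iff]
      intro g
      by_cases hab : ∀ y ∈ frattini U, z * y = y * z
      · have hle : frattini U ⊔ Subgroup.closure S ≤ Subgroup.centralizer ({z} : Set U) := by
          refine sup_le (fun y hy => ?_) ((Subgroup.closure_le _).mpr ?_)
          · exact Subgroup.mem_centralizer_singleton_iff.mpr (hab y hy).symm
          · rintro _ ⟨v, rfl⟩
            exact Subgroup.mem_centralizer_singleton_iff.mpr (hcomm v z hz)
        exact Subgroup.mem_centralizer_singleton_iff.mp (hle (hK ▸ Subgroup.mem_top g))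
      · exfalso
        apply hab
        intro y hy
        have hle : frattini U ⊔ Subgroup.closure S ≤ Subgroup.closure ((frattini U : Set U) ∪ S) := by
          rw [Subgroup.closure_union, Subgroup.closure_eq]
        have hgen : Subgroup.closure S = ⊤ := by
          by_contra hne
          obtain ⟨N, hN, hSN⟩ := (eq_top_or_exists_le_coatom (Subgroup.closure S)).resolve_left hne
          exact hN.1 (top_le_iff.mp (hK ▸ sup_le (frattini_le_coatom hN) hSN))
        have : Subgroup.closure S ≤ Subgroup.centralizer ({y} : Set U) := by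
          rw [Subgroup.closure_le]
          rintro _ ⟨v, rfl⟩
          exact Subgroup.mem_centralizer_singleton_iff.mpr (hcomm v y hy)
        exact Subgroup.mem_centralizer_singleton_iff.mp (this (hgen ▸ Subgroup.mem_top z))
    set c := a u * u⁻¹ with hc
    set z := u⁻¹ * c⁻¹ * u * c with hz
    have huc : u * c = c * u * z := by rw [hz]; group
    have hzΦ : z ∈ frattini U := by
      refine Cfsg.Agent.PGroups.commutator_le_frattini hU ?_
      have := Subgroup.commutator_mem_commutator (Subgroup.mem_top u⁻¹) (Subgroup.mem_top c⁻¹)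
      rw [commutatorElement_def, inv_inv, inv_inv] at this
      exact this
    have hzc := hcen hzΦ
    have hzp : z ^ p = 1 := by
      have h5 := pow_mul_comm_central hzc huc p
      rw [Subgroup.mem_center_iff.mp (hcen (Cfsg.Agent.PGroups.pow_mem_frattini hU u)) c] at h5
      exact left_eq_mul.mp h5
    have hcu : a u = c * u := by rw [hc]; group
    have key : ∀ m : ℕ, p ∣ m → p ∣ m.choose 2 → c ^ m = 1 := by
      intro m hm hm2
      obtain ⟨d, rfl⟩ := hm
      obtain ⟨e, he⟩ := hm2
      have hf : (a u) ^ (p * d) = u ^ (p * d) := by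
        rw [← map_pow]
        exact hΦfix _ (pow_mul u p d ▸ Subgroup.pow_mem _ (Cfsg.Agent.PGroups.pow_mem_frattini hU u) d)
      rw [hcu, mul_pow_class_two hzc huc, he, pow_mul z, hzp, one_pow, mul_one] at hf
      exact mul_eq_right.mp hf
    by_cases hp2 : p = 2
    · subst hp2
      exact h4 rfl _ (key 4 (by norm_num) (by decide))
    · refine h1 _ (key p dvd_rfl ?_)
      exact Nat.Prime.dvd_choose_self (Fact.out : p.Prime) two_ne_zero
        (lt_of_le_of_ne (Fact.out : p.Prime).two_le (Ne.symm hp2))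
  · refine hfix _ hK (fun x hx => ?_) _ (Subgroup.mem_sup_right (Subgroup.subset_closure ⟨u, rfl⟩))
    have : (frattini U ⊔ Subgroup.closure S) ≤ (frattini U ⊔ Subgroup.closure S).comap (a : U ≃* U).toMonoidHom := by
      refine sup_le (fun y hy => ?_) ((Subgroup.closure_le _).mpr ?_)
      · exact Subgroup.mem_sup_left (by simpa [hΦfix y hy] using hy)
      · rintro _ ⟨v, rfl⟩
        refine Subgroup.mem_sup_right (Subgroup.subset_closure ⟨a v, ?_⟩)
        simp
    exact this hx

end Cfsg.Agent.H62
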