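import Cfsg.Prelude.Def_BaumannBlocks
import Cfsg.Agent.H31.JSub
import Cfsg.Agent.H31.Stable
import Cfsg.Agent.Coprime.Commutator
import Cfsg.Agent.Coprime.Action
import Cfsg.Agent.PGroups.Basic

/-!
Blocks relative to the Baumann subgroup: a `p`-group normalized by `B(T)` and by a block normalizes
the block.
-/

set_option autoImplicit false
set_option linter.style.haveILetI false

namespace Cfsg.Agent.H62.Blocks

open Subgroup
open scoped commutatorElement

universe u

variable {G : Type u} [Group G]

theorem map_centralizer_equiv (f : MulAut G) (X : Subgroup G) :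
    (centralizer (X : Set G)).map f.toMonoidHom = centralizer (X.map f.toMonoidHom : Set G) := by
  ext x
  constructor
  · rintro ⟨y, hy, rfl⟩
    refine mem_centralizer_iff.mpr ?_
    rintro _ ⟨z, hz, rfl⟩
    rw [← map_mul, ← map_mul, mem_centralizer_iff.mp hy z hz]
  · intro hx
    refine ⟨f.symm x, mem_centralizer_iff.mpr fun z hz => f.injective ?_, f.apply_symm_apply x⟩
    have := mem_centralizer_iff.mp hx (f z) (mem_map_of_mem f.toMonoidHom hz)
    simpa using this

/-- `Ω₁(Z(J(T)))`. -/
noncomputable abbrev omegaZJ (p : ℕ) (T : Subgroup G) : Subgroup G :=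
  Cfsg.omegaOne p (Cfsg.centerThompsonOf p T)

theorem omegaZJ_map (p : ℕ) (T : Subgroup G) (g : G) :
    (omegaZJ p T).map (MulAut.conj g).toMonoidHom = omegaZJ p (T.map (MulAut.conj g).toMonoidHom) := by
  rw [omegaZJ, omegaZJ, H31.omegaOne_map (MulAut.conj g).injective]
  unfold Cfsg.centerThompsonOf
  rw [H31.map_inf_centralizer (MulAut.conj g).injective, H31.conj_thompsonSubgroupOf]

theorem baumann_map (p : ℕ) (T : Subgroup G) (g : G) :
    (Cfsg.baumannSubgroupOf p T).map (MulAut.conj g).toMonoidHom =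
      Cfsg.baumannSubgroupOf p (T.map (MulAut.conj g).toMonoidHom) := by
  unfold Cfsg.baumannSubgroupOf
  rw [Subgroup.map_inf _ _ _ (MulAut.conj g).injective, map_centralizer_equiv]
  congr 3
  exact omegaZJ_map p T g

theorem baumann_le (p : ℕ) (T : Subgroup G) : Cfsg.baumannSubgroupOf p T ≤ T := inf_le_left

theorem thompson_le_baumann (p : ℕ) (T : Subgroup G) :
    Cfsg.thompsonSubgroupOf p T ≤ Cfsg.baumannSubgroupOf p T := by
  refine le_inf (H31.thompsonSubgroupOf_le p T) fun j hj => mem_centralizer_iff.mpr fun x hx => ?_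
  exact (mem_centralizer_iff.mp (mem_inf.mp (H31.omegaOne_le p _ hx)).2 j hj).symm

theorem normalizer_le_normalizer_baumann (p : ℕ) (T : Subgroup G) :
    normalizer (T : Set G) ≤ normalizer (Cfsg.baumannSubgroupOf p T : Set G) := fun g hg => by
  apply H31.mem_normalizer_of_map_conj
  rw [baumann_map, H31.map_conj_eq_of_mem_normalizer hg]

variable [Finite G] {p : ℕ} [hp : Fact p.Prime]

/-- The Baumann subgroup depends only on a Sylow subgroup containing it. -/
theorem baumann_eq_of_le (T T' : Sylow p G)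
    (h : Cfsg.baumannSubgroupOf p (T : Subgroup G) ≤ (T' : Subgroup G)) :
    Cfsg.baumannSubgroupOf p (T' : Subgroup G) = Cfsg.baumannSubgroupOf p (T : Subgroup G) := by
  obtain ⟨g, hg⟩ := MulAction.exists_smul_eq G T T'
  have hT' : (T : Subgroup G).map (MulAut.conj g).toMonoidHom = (T' : Subgroup G) := by
    rw [← hg, Sylow.coe_subgroup_smul, pointwise_smul_def]
    rfl
  have hJ : Cfsg.thompsonSubgroupOf p (T : Subgroup G) = Cfsg.thompsonSubgroupOf p (T' : Subgroup G) := by
    refine eq_of_le_of_card_ge ?_ ?_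
    · rw [H31.thompsonSubgroupOf_eq p (T : Subgroup G)]
      refine sSup_le fun A hA => H31.le_thompsonSubgroupOf ?_
      exact (H31.maxIn_sylow_iff T').mpr ⟨(H31.le_thompsonSubgroupOf hA).trans
        ((thompson_le_baumann p _).trans h), ((H31.maxIn_sylow_iff T).mp hA).2⟩
    · rw [← hT', ← H31.conj_thompsonSubgroupOf, card_map_of_injective (MulAut.conj g).injective]
  have hX : omegaZJ p (T : Subgroup G) = omegaZJ p (T' : Subgroup G) := by
    unfold omegaZJ Cfsg.centerThompsonOf
    rw [hJ]
  symm
  refine eq_of_le_of_card_ge (le_inf h ?_) ?_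
  · show Cfsg.baumannSubgroupOf p (T : Subgroup G) ≤ centralizer (omegaZJ p (T' : Subgroup G) : Set G)
    rw [← hX]
    exact inf_le_right
  · rw [← hT', ← baumann_map, card_map_of_injective (MulAut.conj g).injective]

/-- A `p`-group normalized by `B(T)` normalizes it. -/
theorem le_normalizer_baumann (T : Sylow p G) (P : Subgroup G) (hP : IsPGroup p P)
    (hBP : Cfsg.baumannSubgroupOf p (T : Subgroup G) ≤ normalizer (P : Set G)) :
    P ≤ normalizer (Cfsg.baumannSubgroupOf p (T : Subgroup G) : Set G) := by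
  obtain ⟨T', hT'⟩ := (hP.to_sup_of_normal_left' (T.isPGroup'.to_le (baumann_le p _)) hBP).exists_le_sylow
  rw [← baumann_eq_of_le T T' (le_sup_right.trans hT')]
  exact le_sup_left.trans (hT'.trans (le_normalizer.trans (normalizer_le_normalizer_baumann p _)))

omit hp in
/-- For `E = O^p(E)` acting on a `p`-group `R`, `[R, E, E] = [R, E]`. -/
theorem commutator_commutator_eq [Fact p.Prime] (E R : Subgroup G) (hres : Cfsg.pResidualOf p E = E)
    (hR : IsPGroup p R) (hER : E ≤ normalizer (R : Set G)) : ⁅⁅R, E⁆, E⁆ = ⁅R, E⁆ := by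
  refine le_antisymm (commutator_mono (Coprime.commutator_le_left_of_normalizer hER) le_rfl) ?_
  set D := ⁅⁅R, E⁆, E⁆
  have hD : E ≤ normalizer (D : Set G) := Subgroup.normalizer_commutator_ge_right _ E
  refine commutator_le.mpr fun r hr e he => ?_
  have hall : ∀ e : E, e ∈ Cfsg.pResidual p E → ∀ r ∈ R, ⁅r, (e : G)⁆ ∈ D := by
    intro e he
    induction he using Subgroup.closure_induction with
    | mem g hg =>
      intro r hr
      have hA : zpowers (g : G) ≤ E := zpowers_le.mpr g.2
      have hg' : Nat.Coprime (orderOf g) p := hg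
      have hcop : (Nat.card (zpowers (g : G))).Coprime (Nat.card R) := by
        rw [Nat.card_zpowers, Subgroup.orderOf_coe]
        obtain ⟨k, hk⟩ := IsPGroup.iff_card.mp hR
        rw [hk]
        exact hg'.pow_right k
      have h := Coprime.commutator_commutator_eq (hA.trans hER) hcop
        (Or.inl (Coprime.isSolvable_zpowers (g : G)))
      have hle : ⁅⁅R, zpowers (g : G)⁆, zpowers (g : G)⁆ ≤ D :=
        commutator_mono (commutator_mono le_rfl hA) hA
      rw [h] at hle
      exact hle (commutator_mem_commutator hr (mem_zpowers _))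
    | one => intro r _; simp
    | mul a b _ _ ha hb =>
      intro r hr
      have h1 : ⁅r, (a : G) * b⁆ = ⁅r, (a : G)⁆ * ((a : G) * ⁅r, (b : G)⁆ * (a : G)⁻¹) := by
        simp only [commutatorElement_def]; group
      rw [Subgroup.coe_mul, h1]
      exact mul_mem (ha r hr) (Coprime.conj_mem (hD a.2) (hb r hr))
    | inv a _ ha =>
      intro r hr
      have h1 : ⁅r, (a : G)⁻¹⁆ = (a : G)⁻¹ * ⁅r, (a : G)⁆⁻¹ * (a : G) := by
        simp only [commutatorElement_def]; group
      rw [InvMemClass.coe_inv, h1]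
      exact Coprime.conj_mem' (hD a.2) (inv_mem (ha r hr))
  obtain ⟨e', he', rfl⟩ := hres.ge he
  exact hall e' he' r hr

/-- A `p`-group normalized by `E` and by `B(T)` normalizes `E`, when `E = O^p(E) = [E, B(T)]`. -/
theorem le_normalizer_block (T : Sylow p G) (E P : Subgroup G) (hres : Cfsg.pResidualOf p E = E)
    (hEB : ⁅E, Cfsg.baumannSubgroupOf p (T : Subgroup G)⁆ = E) (hP : IsPGroup p P)
    (hBP : Cfsg.baumannSubgroupOf p (T : Subgroup G) ≤ normalizer (P : Set G))
    (hEP : E ≤ normalizer (P : Set G)) : P ≤ normalizer (E : Set G) := by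
  set B := Cfsg.baumannSubgroupOf p (T : Subgroup G)
  have hBE : B ≤ normalizer (E : Set G) := hEB ▸ Subgroup.normalizer_commutator_ge_right E B
  have hPB := le_normalizer_baumann T P hP hBP
  have hconj : ∀ (S : Subgroup G) (g : G), g ∈ S → g ∈ normalizer (S : Set G) := fun S g hg =>
    le_normalizer hg
  have hinf : ∀ (g : G) (C : Subgroup G), g ∈ normalizer (P : Set G) → g ∈ normalizer (C : Set G) →
      g ∈ normalizer ((P ⊓ normalizer (C : Set G) : Subgroup G) : Set G) := by
    intro g C h1 h2
    rw [mem_normalizer_iff]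
    intro y
    rw [mem_inf, mem_inf, mem_normalizer_iff.mp h1 y,
      mem_normalizer_iff.mp (hconj _ g h2) y]
  by_contra hne
  set P0 := P ⊓ normalizer (E : Set G) with hP0
  have hEP0 : E ≤ normalizer (P0 : Set G) := fun e he => hinf e E (hEP he) (le_normalizer he)
  have hBP0 : B ≤ normalizer (P0 : Set G) := fun b hb => hinf b E (hBP hb) (hBE hb)
  have hPBle : ⁅P, B⁆ ≤ P0 := by
    refine le_inf (Coprime.commutator_le_left_of_normalizer hBP) ?_
    exact ((le_normalizer_iff_commutator_le_right.mp hPB)).trans hBE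
  have hne' : P0.subgroupOf P ≠ ⊤ := fun h => hne ((subgroupOf_eq_top.mp h).trans inf_le_right)
  obtain ⟨x, hx, hxn⟩ := SetLike.exists_of_lt (PGroups.lt_normalizer hP hne')
  set P2 := P ⊓ normalizer (P0 : Set G)
  have hxP2 : (x : G) ∈ P2 := by
    refine ⟨x.2, mem_normalizer_iff.mpr fun y => ?_⟩
    constructor
    · intro hy
      have := (mem_normalizer_iff.mp hx ⟨y, hy.1⟩).mp (by simpa [mem_subgroupOf] using hy)
      simpa [mem_subgroupOf] using this
    · intro hy
      have hyP : y ∈ P := by
        have := mul_mem (mul_mem (P.inv_mem x.2) hy.1) x.2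
        simpa [mul_assoc] using this
      have := (mem_normalizer_iff.mp hx ⟨y, hyP⟩).mpr (by simpa [mem_subgroupOf] using hy)
      simpa [mem_subgroupOf] using this
  have hEP2 : E ≤ normalizer (P2 : Set G) := fun e he => hinf e P0 (hEP he) (hEP0 he)
  have hP2P0 : ⁅P2, E⁆ ≤ P0 := by
    have r1 : ⁅⁅E, P2⁆, B⁆ ≤ P0 := by
      refine (commutator_mono ?_ le_rfl).trans ((commutator_mono (inf_le_left : P2 ≤ P) le_rfl).trans hPBle)
      rw [commutator_comm]
      exact Coprime.commutator_le_left_of_normalizer hEP2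
    have r2 : ⁅⁅P2, B⁆, E⁆ ≤ P0 :=
      (commutator_mono ((commutator_mono (inf_le_left : P2 ≤ P) le_rfl).trans hPBle) le_rfl).trans
        (Coprime.commutator_le_left_of_normalizer hEP0)
    have h := Coprime.commutator_rotate_le hBP0 hEP0 (inf_le_right : P2 ≤ _) r1 r2
    rw [commutator_comm B E, hEB, commutator_comm] at h
    exact h
  have hfin : ⁅P2, E⁆ ≤ E := by
    rw [← commutator_commutator_eq E P2 hres (hP.to_le inf_le_left) hEP2]
    exact (commutator_mono hP2P0 le_rfl).trans
      (le_normalizer_iff_commutator_le_right.mp (inf_le_right : P0 ≤ _))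
  apply hxn
  show x ∈ P0.subgroupOf P
  exact mem_subgroupOf.mpr ⟨x.2, le_normalizer_iff_commutator_le_right.mpr hfin hxP2⟩

end Cfsg.Agent.H62.Blocks
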