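import Cfsg.Prelude.Def_BaumannBlocks

/-!
The natural module of `SL₂(F)'` and the even weight module of an alternating group of odd degree
have no proper invariant additive subgroups, in the form used for sections of a group.
-/

set_option autoImplicit false
set_option linter.style.haveILetI false

namespace Cfsg.Agent.H62.Blocks

open Subgroup Matrix
open scoped commutatorElement

universe u v

section SL2

variable {F : Type v} [Field F]

/-- The upper transvection. -/
def upperT (c : F) : SpecialLinearGroup (Fin 2) F :=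
  ⟨!![1, c; 0, 1], by rw [det_fin_two_of]; ring⟩

/-- The lower transvection. -/
def lowerT (c : F) : SpecialLinearGroup (Fin 2) F :=
  ⟨!![1, 0; c, 1], by rw [det_fin_two_of]; ring⟩

/-- The diagonal element. -/
def diagT (t : F) (ht : t ≠ 0) : SpecialLinearGroup (Fin 2) F :=
  ⟨!![t, 0; 0, t⁻¹], by rw [det_fin_two_of, mul_inv_cancel₀ ht]; ring⟩

theorem coe_upperT (c : F) : (upperT c : Matrix (Fin 2) (Fin 2) F) = !![1, c; 0, 1] := rfl

theorem coe_lowerT (c : F) : (lowerT c : Matrix (Fin 2) (Fin 2) F) = !![1, 0; c, 1] := rfl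

theorem coe_diagT (t : F) (ht : t ≠ 0) :
    (diagT t ht : Matrix (Fin 2) (Fin 2) F) = !![t, 0; 0, t⁻¹] := rfl

/-- An element of order prime to the characteristic in the derived group. -/
theorem three_neg_one_mem : ∃ g ∈ commutator (SpecialLinearGroup (Fin 2) F),
    (g : Matrix (Fin 2) (Fin 2) F) = !![3, -1; 1, 0] := by
  refine ⟨⁅upperT 1, lowerT 1⁆, commutator_mem_commutator trivial trivial, ?_⟩
  rw [commutatorElement_def]
  simp only [Matrix.SpecialLinearGroup.coe_mul, Matrix.SpecialLinearGroup.coe_inv,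
    coe_upperT, coe_lowerT, adjugate_fin_two_of]
  ext i j
  fin_cases i <;> fin_cases j <;> simp [Matrix.mul_apply, Fin.sum_univ_two] <;> norm_num

theorem upperT_mem {t : F} (ht : t ≠ 0) (ht2 : t * t ≠ 1) (c : F) :
    upperT c ∈ commutator (SpecialLinearGroup (Fin 2) F) := by
  have hdc : c / (t * t - 1) * (t * t - 1) = c := div_mul_cancel₀ c (sub_ne_zero.mpr ht2)
  have h : ⁅diagT t ht, upperT (c / (t * t - 1))⁆ = upperT c := by
    generalize c / (t * t - 1) = d at hdc ⊢
    rw [commutatorElement_def]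
    apply Subtype.ext
    simp only [Matrix.SpecialLinearGroup.coe_mul, Matrix.SpecialLinearGroup.coe_inv,
      coe_upperT, coe_diagT, adjugate_fin_two_of]
    ext i j
    fin_cases i <;> fin_cases j <;> simp [Matrix.mul_apply, Fin.sum_univ_two, ht] <;>
      first
        | linear_combination hdc
        | (field_simp; linear_combination hdc)
        | (field_simp; ring)
  rw [← h]
  exact commutator_mem_commutator trivial trivial

theorem lowerT_mem {t : F} (ht : t ≠ 0) (ht2 : t * t ≠ 1) (c : F) :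
    lowerT c ∈ commutator (SpecialLinearGroup (Fin 2) F) := by
  have hdc : c / (t * t - 1) * (t * t - 1) = c := div_mul_cancel₀ c (sub_ne_zero.mpr ht2)
  have h : ⁅lowerT (c / (t * t - 1)), diagT t⁻¹ (inv_ne_zero ht)⁆⁻¹ = lowerT c := by
    generalize c / (t * t - 1) = d at hdc ⊢
    rw [commutatorElement_def]
    simp only [_root_.mul_inv_rev, inv_inv]
    apply Subtype.ext
    simp only [Matrix.SpecialLinearGroup.coe_mul,
      Matrix.SpecialLinearGroup.coe_inv, coe_lowerT, coe_diagT, adjugate_fin_two_of]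
    ext i j
    fin_cases i <;> fin_cases j <;> simp [Matrix.mul_apply, Fin.sum_univ_two, ht] <;>
      first
        | linear_combination hdc
        | (field_simp; linear_combination hdc)
        | (field_simp; ring)
  rw [← h]
  exact inv_mem (commutator_mem_commutator trivial trivial)

theorem exists_sq_ne_one [Finite F] (h : 4 ≤ Nat.card F) : ∃ t : F, t ≠ 0 ∧ t * t ≠ 1 := by
  classical
  cases nonempty_fintype F
  by_contra hne
  simp only [not_exists, not_and, not_not] at hne
  have hsub : (Finset.univ : Finset F) ⊆ {0, 1, -1} := fun t _ => by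
    by_cases ht : t = 0
    · simp [ht]
    · rcases mul_self_eq_one_iff.mp (hne t ht) with h1 | h1 <;> simp [h1]
  have h3 := Finset.card_le_card hsub
  rw [Finset.card_univ, ← Nat.card_eq_fintype_card] at h3
  have h4 : ({0, 1, -1} : Finset F).card ≤ 3 := Finset.card_le_three
  omega

theorem exists_natCast [Finite F] (h : Nat.card F ≤ 3) (c : F) : ∃ k : ℕ, c = (k : F) := by
  have h2 : 2 ≤ Nat.card F := Finite.one_lt_card
  have hp : (Nat.card F).Prime := by
    interval_cases hF : Nat.card F <;> norm_num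
  haveI := Fact.mk hp
  obtain ⟨k, hk⟩ := (mem_multiples_of_prime_card (G := F) rfl one_ne_zero :
    c ∈ AddSubmonoid.multiples (1 : F))
  exact ⟨k, by rw [← hk]; simp⟩

/-- An additive subgroup of `F²` invariant under `SL₂(F)'` is trivial or everything. -/
theorem sl2_invariant_eq_top [Finite F] (S : AddSubgroup (Fin 2 → F))
    (hinv : ∀ g ∈ commutator (SpecialLinearGroup (Fin 2) F), ∀ v ∈ S,
      (g : Matrix (Fin 2) (Fin 2) F).mulVec v ∈ S)
    {v : Fin 2 → F} (hv : v ∈ S) (hv0 : v ≠ 0) : ∀ w, w ∈ S := by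
  have hne : ¬ (v 0 = 0 ∧ v 1 = 0) := fun h => hv0 (funext fun i => by fin_cases i <;> simp [h])
  by_cases hF : 4 ≤ Nat.card F
  · obtain ⟨t, ht, ht2⟩ := exists_sq_ne_one hF
    have hU : ∀ u ∈ S, ∀ c : F, ![c * u 1, 0] ∈ S := fun u hu c => by
      have := sub_mem (hinv _ (upperT_mem ht ht2 c) u hu) hu
      convert this using 1
      ext i; fin_cases i <;> simp [coe_upperT, Matrix.mulVec, dotProduct, Fin.sum_univ_two]
    have hL : ∀ u ∈ S, ∀ c : F, ![0, c * u 0] ∈ S := fun u hu c => by
      have := sub_mem (hinv _ (lowerT_mem ht ht2 c) u hu) hu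
      convert this using 1
      ext i; fin_cases i <;> simp [coe_lowerT, Matrix.mulVec, dotProduct, Fin.sum_univ_two]
    have h10 : ![(1 : F), 0] ∈ S := by
      by_cases hb : v 1 = 0
      · have ha : v 0 ≠ 0 := fun h => hne ⟨h, hb⟩
        have h01 : ![(0 : F), 1] ∈ S := by simpa [ha] using hL v hv (v 0)⁻¹
        simpa using hU _ h01 1
      · simpa [hb] using hU v hv (v 1)⁻¹
    have h01 : ![(0 : F), 1] ∈ S := by simpa using hL _ h10 1
    intro w
    have h := add_mem (hU _ h01 (w 0)) (hL _ h10 (w 1))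
    convert h using 1
    ext i; fin_cases i <;> simp
  · have hF3 : Nat.card F ≤ 3 := by omega
    obtain ⟨g, hg, hgM⟩ := three_neg_one_mem (F := F)
    have hMv : ![3 * v 0 - v 1, v 0] ∈ S := by
      have := hinv g hg v hv
      rw [hgM] at this
      convert this using 1
      ext i; fin_cases i <;> simp [Matrix.mulVec, dotProduct, Fin.sum_univ_two] <;> ring
    have hd : v 0 * v 0 - v 1 * (3 * v 0 - v 1) ≠ 0 := by
      intro h0
      apply hne
      have h2 : 2 ≤ Nat.card F := Finite.one_lt_card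
      obtain ⟨i, hi⟩ := exists_natCast hF3 (v 0)
      obtain ⟨j, hj⟩ := exists_natCast hF3 (v 1)
      have hcard : ((Nat.card F : ℕ) : F) = 0 := by
        cases nonempty_fintype F
        rw [Nat.card_eq_fintype_card, Nat.cast_card_eq_zero]
      have hch : CharP F (Nat.card F) := by
        have hp : (Nat.card F).Prime := by
          interval_cases hc : Nat.card F <;> norm_num
        haveI := Fact.mk hp
        exact (CharP.charP_iff_prime_eq_zero hp).mpr hcard
      haveI := hch
      have key : (((i : ℤ) * i - j * (3 * i - j) : ℤ) : F) = 0 := by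
        push_cast
        rw [← hi, ← hj]
        exact h0
      rw [hi, hj, ← Int.cast_natCast i, ← Int.cast_natCast j,
        CharP.intCast_eq_zero_iff F (Nat.card F), CharP.intCast_eq_zero_iff F (Nat.card F)]
      rw [CharP.intCast_eq_zero_iff F (Nat.card F)] at key
      have hval : Nat.card F = 2 ∨ Nat.card F = 3 := by omega
      rcases hval with hval | hval <;> rw [hval] at key ⊢ <;>
        rw [Int.dvd_iff_emod_eq_zero] at key <;>
        simp only [Int.dvd_iff_emod_eq_zero]
      · have hi2 := Int.emod_two_eq (i : ℤ)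
        have hj2 := Int.emod_two_eq (j : ℤ)
        push_cast at key ⊢
        rcases hi2 with a | a <;> rcases hj2 with b | b <;>
          simp [Int.sub_emod, Int.mul_emod, a, b] at key ⊢
      · push_cast at key ⊢
        have hi3 : (i : ℤ) % 3 = 0 ∨ (i : ℤ) % 3 = 1 ∨ (i : ℤ) % 3 = 2 := by omega
        have hj3 : (j : ℤ) % 3 = 0 ∨ (j : ℤ) % 3 = 1 ∨ (j : ℤ) % 3 = 2 := by omega
        rcases hi3 with a | a | a <;> rcases hj3 with b | b | b <;>
          simp [Int.sub_emod, Int.mul_emod, a, b] at key ⊢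
    intro w
    set d := v 0 * v 0 - v 1 * (3 * v 0 - v 1)
    obtain ⟨a, ha⟩ := exists_natCast hF3 ((w 0 * v 0 - w 1 * (3 * v 0 - v 1)) / d)
    obtain ⟨b, hb⟩ := exists_natCast hF3 ((v 0 * w 1 - v 1 * w 0) / d)
    have h := add_mem (AddSubgroup.nsmul_mem S hv a) (AddSubgroup.nsmul_mem S hMv b)
    convert h using 1
    ext i
    fin_cases i <;> simp [← ha, ← hb] <;> field_simp <;> ring

end SL2

section Alt

variable {m : ℕ}

/-- An additive subgroup of the even weight module invariant under the alternating group is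
trivial or everything. -/
theorem alt_invariant_eq_top (S : AddSubgroup (Fin (2 * m + 1) → ZMod 2))
    (hinv : ∀ σ ∈ alternatingGroup (Fin (2 * m + 1)), ∀ v ∈ S, (fun x => v (σ⁻¹ x)) ∈ S)
    {v : Fin (2 * m + 1) → ZMod 2} (hv : v ∈ S) (hsum : ∑ x, v x = 0) (hv0 : v ≠ 0) :
    ∀ w : Fin (2 * m + 1) → ZMod 2, ∑ x, w x = 0 → w ∈ S := by
  classical
  have h01 : ∀ c : ZMod 2, c = 0 ∨ c = 1 := by decide
  obtain ⟨i, hi⟩ : ∃ i, v i = 1 := by
    by_contra hne
    simp only [not_exists] at hne
    exact hv0 (funext fun x => (h01 (v x)).resolve_right (hne x))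
  obtain ⟨j, hj⟩ : ∃ j, v j = 0 := by
    by_contra hne
    simp only [not_exists] at hne
    rw [Finset.sum_congr rfl (fun x _ => (h01 (v x)).resolve_left (hne x))] at hsum
    simp only [Finset.sum_const, Finset.card_univ, Fintype.card_fin, nsmul_one] at hsum
    rw [ZMod.natCast_eq_zero_iff_even] at hsum
    obtain ⟨r, hr⟩ := hsum
    omega
  have hij : i ≠ j := fun h => by rw [h, hj] at hi; exact zero_ne_one hi
  set e : Fin (2 * m + 1) → Fin (2 * m + 1) → Fin (2 * m + 1) → ZMod 2 :=
    fun a b x => if x = a ∨ x = b then 1 else 0 with he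
  -- all pairs from one pair
  have hpair : ∀ a b a' b', a ≠ b → a' ≠ b' → e a b ∈ S → e a' b' ∈ S := by
    intro a b a' b' hab hab' hS
    have key : ∀ π : Equiv.Perm (Fin (2 * m + 1)), π ∈ alternatingGroup _ →
        (π a = a' ∧ π b = b' ∨ π a = b' ∧ π b = a') → e a' b' ∈ S := by
      intro π hπ hor
      have h := hinv π hπ _ hS
      convert h using 1
      funext x
      simp only [he, Equiv.Perm.inv_def]
      refine if_congr ?_ rfl rfl
      rw [Equiv.symm_apply_eq, Equiv.symm_apply_eq]
      rcases hor with ⟨h1, h2⟩ | ⟨h1, h2⟩ <;> rw [h1, h2]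
      exact or_comm
    set π := Equiv.swap (Equiv.swap a a' b) b' * Equiv.swap a a'
    have hπb : π b = b' := by simp [π]
    have hπa : π a = a' := by
      simp only [π, Equiv.Perm.mul_apply, Equiv.swap_apply_left]
      refine Equiv.swap_apply_of_ne_of_ne ?_ hab'
      intro h
      exact hab (Equiv.swap a a' |>.injective (by rw [Equiv.swap_apply_left]; exact h))
    rcases Int.units_eq_one_or (Equiv.Perm.sign π) with hs | hs
    · exact key π (Equiv.Perm.mem_alternatingGroup.mpr hs) (Or.inl ⟨hπa, hπb⟩)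
    · refine key (π * Equiv.swap a b) ?_ (Or.inr ⟨by simp [hπb], by simp [hπa]⟩)
      rw [Equiv.Perm.mem_alternatingGroup, map_mul, hs, Equiv.Perm.sign_swap hab]
      simp
  -- one pair
  obtain ⟨k, hki, hkj⟩ : ∃ k, k ≠ i ∧ k ≠ j := by
    have hm : 3 ≤ 2 * m + 1 := by
      rcases Nat.eq_zero_or_pos m with hm | hm
      · subst hm
        exact absurd (Fin.ext (by omega)) hij
      · omega
    have : ({i, j} : Finset (Fin (2 * m + 1))) ≠ Finset.univ := fun h => by
      have := congrArg Finset.card h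
      rw [Finset.card_univ, Fintype.card_fin] at this
      have h2 : ({i, j} : Finset (Fin (2 * m + 1))).card ≤ 2 := Finset.card_le_two
      omega
    obtain ⟨k, hk⟩ : ∃ k, k ∉ ({i, j} : Finset (Fin (2 * m + 1))) := by
      by_contra hne
      simp only [not_exists, not_not] at hne
      exact this (Finset.eq_univ_iff_forall.mpr hne)
    simp only [Finset.mem_insert, Finset.mem_singleton, not_or] at hk
    exact ⟨k, hk⟩
  set σ : Equiv.Perm (Fin (2 * m + 1)) := Equiv.swap i j * Equiv.swap i k
  have hσ : σ ∈ alternatingGroup (Fin (2 * m + 1)) := by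
    rw [Equiv.Perm.mem_alternatingGroup, map_mul, Equiv.Perm.sign_swap hij,
      Equiv.Perm.sign_swap hki.symm]
    simp
  have hw := add_mem hv (hinv σ hσ v hv)
  have h0 : ∀ a b, a ≠ b → e a b ∈ S := by
    intro a b hab
    rcases h01 (v k) with hk | hk
    · refine hpair i k a b hki.symm hab ?_
      convert hw using 1
      funext x
      simp only [he, Pi.add_apply, σ, _root_.mul_inv_rev, Equiv.swap_inv, Equiv.Perm.mul_apply]
      by_cases hxi : x = i
      · subst hxi
        rw [Equiv.swap_apply_left, Equiv.swap_apply_of_ne_of_ne hij.symm hkj.symm, hi, hj]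
        simp
      by_cases hxj : x = j
      · subst hxj
        rw [Equiv.swap_apply_right, Equiv.swap_apply_left, hk, hj]
        simp [hxi, hkj.symm]
      by_cases hxk : x = k
      · subst hxk
        rw [Equiv.swap_apply_of_ne_of_ne hxi hxj, Equiv.swap_apply_right, hk, hi]
        simp
      rw [Equiv.swap_apply_of_ne_of_ne hxi hxj, Equiv.swap_apply_of_ne_of_ne hxi hxk]
      rw [if_neg (not_or.mpr ⟨hxi, hxk⟩)]
      exact (CharTwo.add_self_eq_zero (v x)).symm
    · refine hpair i j a b hij hab ?_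
      convert hw using 1
      funext x
      simp only [he, Pi.add_apply, σ, _root_.mul_inv_rev, Equiv.swap_inv, Equiv.Perm.mul_apply]
      by_cases hxi : x = i
      · subst hxi
        rw [Equiv.swap_apply_left, Equiv.swap_apply_of_ne_of_ne hij.symm hkj.symm, hi, hj]
        simp
      by_cases hxj : x = j
      · subst hxj
        rw [Equiv.swap_apply_right, Equiv.swap_apply_left, hk, hj]
        simp
      by_cases hxk : x = k
      · subst hxk
        rw [Equiv.swap_apply_of_ne_of_ne hxi hxj, Equiv.swap_apply_right, hk, hi]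
        simp [hxi, hxj, CharTwo.add_self_eq_zero]
      rw [Equiv.swap_apply_of_ne_of_ne hxi hxj, Equiv.swap_apply_of_ne_of_ne hxi hxk]
      rw [if_neg (not_or.mpr ⟨hxi, hxj⟩)]
      exact (CharTwo.add_self_eq_zero (v x)).symm
  intro w hwsum
  have hterm : w = ∑ x, (Pi.single x (w x) + Pi.single i (w x) : Fin (2 * m + 1) → ZMod 2) := by
    rw [Finset.sum_add_distrib, Finset.univ_sum_single]
    funext y
    rw [Pi.add_apply, Finset.sum_apply]
    by_cases hy : y = i
    · subst hy
      simp [hwsum]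
    · simp [hy]
  rw [hterm]
  refine sum_mem fun x _ => ?_
  rcases h01 (w x) with hx | hx
  · simp [hx]
  by_cases hxi : x = i
  · subst hxi
    rw [← Pi.single_add, CharTwo.add_self_eq_zero, Pi.single_zero]
    exact zero_mem _
  convert h0 x i hxi using 1
  funext y
  by_cases hyx : y = x
  · subst hyx; simp [he, hx, hxi]
  by_cases hyi : y = i
  · subst hyi; simp [he, hx, hyx]
  simp [he, hyx, hyi]

end Alt

variable {G : Type u} [Group G]

/-- The image of `A ≤ U` in a section given by `ψ`, as an additive subgroup. -/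
def imageAdd {X : Type*} [AddCommGroup X] {U : Subgroup G} (ψ : ↥U →* Multiplicative X)
    (A : Subgroup G) : AddSubgroup X :=
  Subgroup.toAddSubgroup' ((A.subgroupOf U).map ψ)

theorem mem_imageAdd {X : Type*} [AddCommGroup X] {U : Subgroup G} {ψ : ↥U →* Multiplicative X}
    {A : Subgroup G} {v : X} :
    v ∈ imageAdd ψ A ↔ ∃ u : ↥U, (u : G) ∈ A ∧ Multiplicative.toAdd (ψ u) = v :=
  Iff.rfl

/-- An invariant subgroup outside `U₀` covers a natural section. -/
theorem le_sup_of_sl2Section {F : Type v} [Field F] [Finite F] {E U U₀ A : Subgroup G}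
    (h : Cfsg.ActsAsSL2OnSection F (commutator (SpecialLinearGroup (Fin 2) F)) E U U₀)
    (hAU : A ≤ U) (hEA : E ≤ normalizer (A : Set G)) (hA : ¬ A ≤ U₀) : U ≤ A ⊔ U₀ := by
  obtain ⟨-, -, ρ, ψ, hρ, -, hker, hcompat⟩ := h
  obtain ⟨a, haA, haU⟩ := SetLike.not_le_iff_exists.mp hA
  have hall := sl2_invariant_eq_top (imageAdd ψ A) (fun g hg v hv => by
      obtain ⟨u, huA, rfl⟩ := mem_imageAdd.mp hv
      obtain ⟨e, rfl⟩ := MonoidHom.mem_range.mp (hρ.ge hg)
      obtain ⟨w, hw, hwψ⟩ := hcompat e u
      exact mem_imageAdd.mpr ⟨w, hw ▸ (mem_normalizer_iff.mp (hEA e.2) u).mp huA, hwψ⟩)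
    (v := Multiplicative.toAdd (ψ ⟨a, hAU haA⟩)) (mem_imageAdd.mpr ⟨_, haA, rfl⟩)
    (fun h0 => haU ((hker ⟨a, hAU haA⟩).mp h0))
  intro x hx
  obtain ⟨u, huA, hu⟩ := mem_imageAdd.mp (hall (Multiplicative.toAdd (ψ ⟨x, hx⟩)))
  have hx0 : ψ (u⁻¹ * ⟨x, hx⟩) = 1 := by
    rw [map_mul, map_inv, inv_mul_eq_one]
    exact Multiplicative.toAdd.injective hu
  have := mul_mem (mem_sup_left huA : (u : G) ∈ A ⊔ U₀) (mem_sup_right ((hker _).mp hx0))
  simpa using this

/-- An invariant subgroup outside `U₀` covers an even weight section. -/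
theorem le_sup_of_altSection {m : ℕ} {E U U₀ A : Subgroup G}
    (h : Cfsg.ActsAsOddPermModuleOnSection (2 * m + 1) (alternatingGroup (Fin (2 * m + 1))) E U U₀)
    (hAU : A ≤ U) (hEA : E ≤ normalizer (A : Set G)) (hA : ¬ A ≤ U₀) : U ≤ A ⊔ U₀ := by
  obtain ⟨-, -, ρ, ψ, hρ, heven, -, hker, hcompat⟩ := h
  obtain ⟨a, haA, haU⟩ := SetLike.not_le_iff_exists.mp hA
  have hall := alt_invariant_eq_top (imageAdd ψ A) (fun σ hσ v hv => by
      obtain ⟨u, huA, rfl⟩ := mem_imageAdd.mp hv
      obtain ⟨e, rfl⟩ := MonoidHom.mem_range.mp (hρ.ge hσ)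
      obtain ⟨w, hw, hwψ⟩ := hcompat e u
      exact mem_imageAdd.mpr ⟨w, hw ▸ (mem_normalizer_iff.mp (hEA e.2) u).mp huA, funext hwψ⟩)
    (v := Multiplicative.toAdd (ψ ⟨a, hAU haA⟩)) (mem_imageAdd.mpr ⟨_, haA, rfl⟩) (heven _)
    (fun h0 => haU ((hker ⟨a, hAU haA⟩).mp h0))
  intro x hx
  obtain ⟨u, huA, hu⟩ := mem_imageAdd.mp (hall (Multiplicative.toAdd (ψ ⟨x, hx⟩)) (heven _))
  have hx0 : ψ (u⁻¹ * ⟨x, hx⟩) = 1 := by
    rw [map_mul, map_inv, inv_mul_eq_one]
    exact Multiplicative.toAdd.injective hu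
  have := mul_mem (mem_sup_left huA : (u : G) ∈ A ⊔ U₀) (mem_sup_right ((hker _).mp hx0))
  simpa using this

end Cfsg.Agent.H62.Blocks
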