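import Mathlib
import Cfsg.Agent.H30.Subnormal
import Cfsg.Agent.H24.Zipper
import Cfsg.Agent.H60.MinNormalSubnormal

/-!
A generalisation of Wielandt's zipper lemma: if the subgroups generated by their own conjugates
of `A` do not generate the group, `A` lies in a unique maximal subgroup.
-/

set_option autoImplicit false
set_option linter.style.haveILetI false
open scoped Pointwise

namespace Cfsg.Agent.H62.ZipperGen

open Subgroup H24 H60

universe u

variable {G : Type u} [Group G]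

/-- `H` is generated by its own conjugates of `A`. -/
def Gen (A H : Subgroup G) : Prop :=
  A ≤ H ∧ ∀ K : Subgroup G, A ≤ K → K ≤ H → H ≤ normalizer (K : Set G) → K = H

theorem gen_self (A : Subgroup G) : Gen A A := ⟨le_rfl, fun _ h h' _ => le_antisymm h' h⟩

theorem gen_trans {A K H : Subgroup G} (h1 : Gen A K) (h2 : Gen K H) : Gen A H := by
  refine ⟨h1.1.trans h2.1, fun X hAX hXH hn => h2.2 X ?_ hXH hn⟩
  have h := h1.2 (X ⊓ K) (le_inf hAX h1.1) inf_le_right
    (le_normalizer_inf (h2.1.trans hn) le_normalizer)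
  exact h ▸ inf_le_left

theorem exists_gen [Finite G] {A H : Subgroup G} (hAH : A ≤ H) :
    ∃ K, A ≤ K ∧ K ≤ H ∧ SnIn K H ∧ Gen A K := by
  obtain ⟨K, -, hK⟩ := Finite.exists_le_minimal
    (p := fun K : Subgroup G => A ≤ K ∧ K ≤ H ∧ SnIn K H) (a := H)
    ⟨hAH, le_rfl, by rw [SnIn, subgroupOf_self]; exact .top⟩
  obtain ⟨hAK, hKH, hsn⟩ := hK.1
  refine ⟨K, hAK, hKH, hsn, hAK, fun X hAX hXK hn => le_antisymm hXK (hK.2 ⟨hAX, hXK.trans hKH, ?_⟩ hXK)⟩
  exact SnIn.trans hXK hKH ((normal_subgroupOf_iff_le_normalizer hXK).2 hn).isSubnormal hsn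

theorem eq_of_gen_sn {A H : Subgroup G} (h : Gen A H) (hs : SnIn A H) : A = H := by
  by_contra hne
  obtain ⟨X, hXn, hle, hlt⟩ := IsSubnormal.exists_normal_and_le_and_lt_top_of_ne hs
    (fun h' => hne (le_antisymm h.1 (subgroupOf_eq_top.1 h')))
  have h1 := h.2 (X.map H.subtype) (fun a ha => ⟨⟨a, h.1 ha⟩, hle ha, rfl⟩) (map_subtype_le X) (by
    have h2 := le_normalizer_map (f := H.subtype) (H := X)
    rwa [normalizer_eq_top_iff.2 hXn, ← MonoidHom.range_eq_map, range_subtype] at h2)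
  apply hlt.ne
  rw [eq_top_iff]
  intro x _
  obtain ⟨y, hy, hyx⟩ : (x : G) ∈ X.map H.subtype := by rw [h1]; exact x.2
  exact Subtype.ext hyx ▸ hy

theorem snIn_cj {A X : Subgroup G} (h : SnIn A X) (g : G) : SnIn (cj A g) (cj X g) := h.conj g

theorem coatom_cj {M : Subgroup G} (h : IsCoatom M) (g : G) : IsCoatom (cj M g) :=
  ((MulAut.conj g : G ≃* G).mapSubgroup.isCoatom_iff M).2 h

theorem mem_normalizer_of_cj_le [Finite G] {H : Subgroup G} {x : G} (h : cj H x ≤ H) :
    x ∈ normalizer (H : Set G) :=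
  cj_eq_self_iff.1 (eq_of_le_of_card_ge h (card_cj H x).ge)

/-- The properties of `A` and the maximal subgroup `P` above its non-subnormal overgroups. -/
structure Facts (A P : Subgroup G) : Prop where
  le : A ≤ P
  coatom : IsCoatom P
  self : normalizer (P : Set G) = P
  nsn : ¬ SnIn A P
  ovr : ∀ H : Subgroup G, H ≠ ⊤ → A ≤ H → SnIn A H ∨ H ≤ P
  typ : ∀ p ∈ P, ∀ M : Subgroup G, IsCoatom M → M ≠ P → A ≤ M → cj A p ≤ M → cj A p = A

namespace Facts

variable {A P : Subgroup G}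

theorem sn (h : Facts A P) {M : Subgroup G} (hM : IsCoatom M) (hne : M ≠ P) (hA : A ≤ M) :
    SnIn A M :=
  (h.ovr M hM.1 hA).resolve_right fun hle => hne ((hM.le_iff.1 hle).resolve_left h.coatom.1).symm

theorem mem_of_cj (h : Facts A P) {g : G} (hg : cj P g = P) : g ∈ P := by
  have := cj_eq_self_iff.1 hg
  rwa [h.self] at this

theorem normalizer_le (h : Facts A P) : normalizer (A : Set G) ≤ P := by
  intro n hn
  have hA : cj A n = A := cj_eq_self_iff.2 hn
  refine h.mem_of_cj ?_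
  by_contra hne
  have hle : A ≤ cj P n := hA ▸ cj_mono h.le n
  have h2 := snIn_cj (h.sn (coatom_cj h.coatom n) hne hle) n⁻¹
  rw [cj_cj, inv_mul_cancel, cj_one, cj_eq_self_iff.2 (inv_mem hn)] at h2
  exact h.nsn h2

theorem inf_le_normalizer (h : Facts A P) {M : Subgroup G} (hM : IsCoatom M) (hne : M ≠ P)
    (hA : A ≤ M) : M ⊓ P ≤ normalizer (A : Set G) := by
  intro x hx
  refine cj_eq_self_iff.1 (h.typ x hx.2 M hM hne hA ?_)
  exact (cj_mono hA x).trans (cj_le_of_mem hx.1)

theorem conj (h : Facts A P) (g : G) : Facts (cj A g) (cj P g) := by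
  refine ⟨cj_mono h.le g, coatom_cj h.coatom g, ?_, fun hs => h.nsn ?_, fun H hH hle => ?_,
    fun p hp M hM hne hle hle' => ?_⟩
  · rw [← cj_normalizer, h.self]
  · have h2 := snIn_cj hs g⁻¹
    rwa [cj_cj, cj_cj, inv_mul_cancel, cj_one, cj_one] at h2
  · have hH' : cj H g⁻¹ ≠ ⊤ := fun ht => hH (top_le_iff.1 fun x _ => by
      have h3 : g⁻¹ * x * g ∈ cj H g⁻¹ := ht ▸ mem_top _
      rw [mem_cj] at h3
      simpa [mul_assoc] using h3)
    rcases h.ovr _ hH' ((le_cj_iff g⁻¹).2 (by rw [inv_inv]; exact hle)) with h1 | h1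
    · left
      have h2 := snIn_cj h1 g
      rwa [cj_cj, mul_inv_cancel, cj_one] at h2
    · right
      have h2 := cj_mono h1 g
      rwa [cj_cj, mul_inv_cancel, cj_one] at h2
  · rw [mem_cj] at hp
    have h1 : cj (cj A g) p = cj (cj A (g⁻¹ * p * g)) g := by
      rw [cj_cj, cj_cj]; simp [mul_assoc]
    rw [h1] at hle' ⊢
    rw [h.typ _ hp (cj M g⁻¹) (coatom_cj hM _) (fun he => hne ?_)
      ((le_cj_iff g⁻¹).2 (by rw [inv_inv]; exact hle))
      ((le_cj_iff g⁻¹).2 (by rw [inv_inv]; exact hle'))]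
    rw [← he, cj_cj, mul_inv_cancel, cj_one]

theorem uniq (h : Facts A P) {Q : Subgroup G} (h' : Facts A Q) : Q = P := by
  by_contra hne
  exact h'.nsn (h.sn h'.coatom hne h'.le)

end Facts

/-- A conjugacy class of subgroups with its properties. -/
structure Setup (𝒞 : Set (Subgroup G)) : Prop where
  inv : ∀ C ∈ 𝒞, ∀ g : G, cj C g ∈ 𝒞
  trans : ∀ C ∈ 𝒞, ∀ D ∈ 𝒞, ∃ g : G, cj C g = D
  facts : ∀ C ∈ 𝒞, ∃ Q, Facts C Q
  cl : ∀ C ∈ 𝒞, ∀ N : Subgroup G, N.Normal → C ≤ N → N = ⊤
  core : ∀ C ∈ 𝒞, ∀ N : Subgroup G, N.Normal → N ≤ normalizer (C : Set G) → N = ⊥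
  ne : ∀ C ∈ 𝒞, C ≠ ⊥

/-- The members of `𝒞` inside `M ⊓ P`. -/
def kset (𝒞 : Set (Subgroup G)) (M P : Subgroup G) : Set (Subgroup G) := {C | C ∈ 𝒞 ∧ C ≤ M ⊓ P}

/-- A maximising configuration. -/
structure Config (𝒞 : Set (Subgroup G)) (A P M : Subgroup G) : Prop where
  mem : A ∈ 𝒞
  facts : Facts A P
  coatom : IsCoatom M
  ne : M ≠ P
  le : A ≤ M
  max : ∀ A' P' M' : Subgroup G, A' ∈ 𝒞 → Facts A' P' → IsCoatom M' → M' ≠ P' → A' ≤ M' →
    (kset 𝒞 M' P').ncard ≤ (kset 𝒞 M P).ncard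

/-- The intersection of the normalizers of a set of subgroups. -/
def normalizers (K : Set (Subgroup G)) : Subgroup G := ⨅ C ∈ K, normalizer (C : Set G)

theorem normalizers_le {K : Set (Subgroup G)} {C : Subgroup G} (hC : C ∈ K) :
    normalizers K ≤ normalizer (C : Set G) := iInf₂_le C hC

theorem normalizes_of_perm [Finite G] {K : Set (Subgroup G)} {x : G}
    (h : ∀ C ∈ K, cj C x ∈ K) : x ∈ normalizer (normalizers K : Set G) := by
  refine mem_normalizer_of_cj_le (le_iInf₂ fun C hC => ?_)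
  have hsurj : Set.SurjOn (fun C => cj C x) K K :=
    ((Set.toFinite K).injOn_iff_bijOn_of_mapsTo (fun C hC => h C hC)).1
      (fun _ _ _ _ he => cj_inj.1 he) |>.surjOn
  obtain ⟨C', hC', rfl⟩ := hsurj hC
  show cj (normalizers K) x ≤ normalizer ((cj C' x : Subgroup G) : Set G)
  rw [← cj_normalizer]
  exact cj_mono (normalizers_le hC') x

theorem normalizes_sSup [Finite G] {K : Set (Subgroup G)} {x : G} (h : ∀ C ∈ K, cj C x ∈ K) :
    x ∈ normalizer ((sSup K : Subgroup G) : Set G) :=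
  mem_normalizer_of_cj_le ((map_le_iff_le_comap).2 (sSup_le fun C hC =>
    map_le_iff_le_comap.1 (le_sSup (h C hC))))

/-- Either all of `Q` normalizes the join of `S₀`, or a further member does. -/
theorem step [Finite G] {𝒞 : Set (Subgroup G)} (hinv : ∀ C ∈ 𝒞, ∀ g : G, cj C g ∈ 𝒞)
    {Q : Subgroup G} {S₀ : Set (Subgroup G)}
    (hS₀ : ∀ C ∈ S₀, C ∈ 𝒞 ∧ C ≤ Q ∧ SnIn C Q) :
    Q ≤ normalizer ((sSup S₀ : Subgroup G) : Set G) ∨
      ∃ X ∈ 𝒞, X ≤ Q ∧ SnIn X Q ∧ X ∉ S₀ ∧ X ≤ normalizer ((sSup S₀ : Subgroup G) : Set G) := by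
  set S : Set (Subgroup Q) := {B | B.map Q.subtype ∈ 𝒞 ∧ B.IsSubnormal} with hS
  set T : Set (Subgroup Q) := {B | B.map Q.subtype ∈ S₀} with hT
  have hTS : T ⊆ S := fun B hB => ⟨(hS₀ _ hB).1, by
    have h := (hS₀ _ hB).2.2
    rwa [SnIn, subgroupOf, comap_map_eq_self_of_injective Q.subtype_injective] at h⟩
  have hsup : (sSup T).map Q.subtype = sSup S₀ := by
    refine le_antisymm (map_le_iff_le_comap.2 (sSup_le fun B hB =>
      map_le_iff_le_comap.1 (le_sSup (show B.map Q.subtype ∈ S₀ from hB)))) (sSup_le fun C hC => ?_)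
    rw [← map_subgroupOf_eq_of_le (hS₀ C hC).2.1]
    refine map_mono (le_sSup ?_)
    show (C.subgroupOf Q).map Q.subtype ∈ S₀
    rw [map_subgroupOf_eq_of_le (hS₀ C hC).2.1]
    exact hC
  have hkey : ∀ (g : Q) (B : Subgroup Q),
      (MulAut.conj g • B).map Q.subtype = cj (B.map Q.subtype) g := fun g B => by
    show (B.map (MulAut.conj g).toMonoidHom).map Q.subtype = _
    rw [map_map, show cj (B.map Q.subtype) (g : G) =
      (B.map Q.subtype).map (MulAut.conj (g : G)).toMonoidHom from rfl, map_map]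
    rfl
  have hconj : ∀ B ∈ S, ∀ g : Q, MulAut.conj g • B ∈ S := by
    intro B hB g
    refine ⟨?_, IsSubnormal.map (MulAut.conj g : Q ≃* Q).surjective hB.2⟩
    rw [hkey]
    exact hinv _ hB.1 g
  by_cases heq : T = S
  · left
    intro q hq
    refine normalizes_sSup fun C hC => ?_
    have h1 : C.subgroupOf Q ∈ T := by
      show (C.subgroupOf Q).map Q.subtype ∈ S₀
      rw [map_subgroupOf_eq_of_le (hS₀ C hC).2.1]; exact hC
    have h2 : MulAut.conj (⟨q, hq⟩ : Q) • C.subgroupOf Q ∈ T :=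
      heq ▸ hconj _ (heq ▸ h1) _
    have h3 : _ ∈ S₀ := h2
    rwa [hkey, map_subgroupOf_eq_of_le (hS₀ C hC).2.1] at h3
  · right
    obtain ⟨X, hX, hXT, hXn⟩ := H30.exists_normalizes_sSup S T (fun B hB => hB.2) hconj
      (hTS.ssubset_of_ne heq)
    refine ⟨X.map Q.subtype, hX.1, map_subtype_le X, ?_, hXT, ?_⟩
    · rw [SnIn, subgroupOf, comap_map_eq_self_of_injective Q.subtype_injective]; exact hX.2
    · rw [← hsup]
      exact (map_mono hXn).trans (le_normalizer_map _)

variable [Finite G] {𝒞 : Set (Subgroup G)} {A P M : Subgroup G}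

theorem Config.mem_kset (c : Config 𝒞 A P M) : A ∈ kset 𝒞 M P :=
  ⟨c.mem, le_inf c.le c.facts.le⟩

theorem sn_inf (hs : Setup 𝒞) (c : Config 𝒞 A P M) {C : Subgroup G} (hC : C ∈ kset 𝒞 M P) :
    SnIn C (M ⊓ P) := by
  obtain ⟨Q, hQ⟩ := hs.facts C hC.1
  by_cases h : M = Q
  · exact (hQ.sn c.facts.coatom (fun he => c.ne (h.trans he.symm)) (hC.2.trans inf_le_right)).mono
      inf_le_right
  · exact (hQ.sn c.coatom h (hC.2.trans inf_le_left)).mono inf_le_left

/-- The members other than `A` are subnormal in `P`. -/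
theorem sn_right (hs : Setup 𝒞) (c : Config 𝒞 A P M) {C : Subgroup G} (hC : C ∈ kset 𝒞 M P)
    (hne : C ≠ A) : SnIn C P := by
  obtain ⟨g, rfl⟩ := hs.trans A c.mem C hC.1
  have hQ := c.facts.conj g
  by_contra hsn
  have hPQ : cj P g = P := by
    by_contra h
    exact hsn (hQ.sn c.facts.coatom (Ne.symm h) (hC.2.trans inf_le_right))
  exact hne (c.facts.typ g (c.facts.mem_of_cj hPQ) M c.coatom c.ne c.le (hC.2.trans inf_le_left))

/-- Some element of `P` outside `N(A)` normalizes the intersection of the normalizers. -/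
theorem exists_p (hs : Setup 𝒞) (c : Config 𝒞 A P M) {B Q : Subgroup G}
    (hB : B ∈ kset 𝒞 M P) (hBA : B ≠ A) (hBQ : Facts B Q) (hQP : Q ≠ P) (hAQ : A ≤ Q)
    (hU : ∀ X ∈ 𝒞, X ≤ P → X ≤ normalizer ((sSup (kset 𝒞 M P) : Subgroup G) : Set G) →
      X ∈ kset 𝒞 M P) :
    ∃ p ∈ P, p ∉ normalizer (A : Set G) ∧
      p ∈ normalizer (normalizers (kset 𝒞 M P) : Set G) := by
  set K := kset 𝒞 M P with hK
  set T := K \ {A} with hT
  have hTsn : ∀ C ∈ T, C ∈ 𝒞 ∧ C ≤ P ∧ SnIn C P :=
    fun C hC => ⟨hC.1.1, hC.1.2.trans inf_le_right, sn_right hs c hC.1 hC.2⟩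
  -- elements of `P` normalizing the join permute `T`
  have hperm : ∀ x ∈ P, x ∈ normalizer ((sSup T : Subgroup G) : Set G) →
      x ∈ normalizer (normalizers K : Set G) := by
    intro x hx hxV
    have h1 : ∀ C ∈ T, cj C x ∈ T := by
      intro C hC
      refine ⟨⟨hs.inv C hC.1.1 x, ?_⟩, fun he => c.facts.nsn ?_⟩
      · refine le_trans ?_ (sSup_le fun D hD => (show D ∈ K from hD.1).2 : sSup T ≤ M ⊓ P)
        calc cj C x ≤ cj (sSup T) x := cj_mono (le_sSup hC) x
          _ = sSup T := cj_eq_self_iff.2 hxV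
      · have h2 := snIn_cj (hTsn C hC).2.2 x
        rwa [cj_eq_self_iff.2 (le_normalizer hx), show cj C x = A from he] at h2
    have hFK : normalizers K = P ⊓ normalizers T := by
      refine le_antisymm (le_inf ((normalizers_le c.mem_kset).trans c.facts.normalizer_le)
        (le_iInf₂ fun C hC => normalizers_le hC.1)) (le_iInf₂ fun C hC => ?_)
      by_cases hCA : C = A
      · subst hCA
        intro y hy
        have hy1 : y ∈ normalizer (B : Set G) := normalizers_le (show B ∈ T from ⟨hB, hBA⟩) hy.2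
        exact c.facts.inf_le_normalizer hBQ.coatom hQP hAQ ⟨hBQ.normalizer_le hy1, hy.1⟩
      · exact inf_le_right.trans (normalizers_le ⟨hC, hCA⟩)
    rw [hFK]
    exact inf_normalizer_le_normalizer_inf ⟨le_normalizer hx, normalizes_of_perm h1⟩
  rcases step hs.inv hTsn with h | ⟨X, hXC, hXP, hXsn, hXT, hXn⟩
  · obtain ⟨p, hp, hpN⟩ : ∃ p ∈ P, p ∉ normalizer (A : Set G) := by
      by_contra hno
      push Not at hno
      exact c.facts.nsn ((normal_subgroupOf_iff_le_normalizer c.facts.le).2 hno).isSubnormal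
    exact ⟨p, hp, hpN, hperm p hp (h hp)⟩
  · have hXA : ¬ X ≤ normalizer (A : Set G) := by
      intro hXA
      have hne : X ≠ A := fun h => c.facts.nsn (h ▸ hXsn)
      refine hXT ⟨hU X hXC hXP ?_, hne⟩
      have hUeq : sSup K = A ⊔ sSup T := by
        refine le_antisymm (sSup_le fun C hC => ?_)
          (sup_le (le_sSup c.mem_kset) (sSup_le fun C hC => le_sSup hC.1))
        by_cases hCA : C = A
        · exact hCA ▸ le_sup_left
        · exact (le_sSup (show C ∈ T from ⟨hC, hCA⟩)).trans le_sup_right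
      rw [hUeq]
      exact le_normalizer_sup hXA hXn
    obtain ⟨p, hp, hpN⟩ := SetLike.not_le_iff_exists.1 hXA
    exact ⟨p, hXP hp, hpN, hperm p (hXP hp) (hXn hp)⟩

/-- The contradiction from two elements normalizing the intersection of the normalizers. -/
theorem clash (hs : Setup 𝒞) (c : Config 𝒞 A P M) {n p : G} (hn : n ∉ P)
    (hnF : n ∈ normalizer (normalizers (kset 𝒞 M P) : Set G)) (hp : p ∈ P)
    (hpA : p ∉ normalizer (A : Set G))
    (hpF : p ∈ normalizer (normalizers (kset 𝒞 M P) : Set G)) : False := by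
  set K := kset 𝒞 M P with hK
  set F := normalizers K with hF
  -- `F` is nontrivial
  have hFne : F ≠ ⊥ := by
    set U := sSup K with hU
    haveI : Nontrivial U := by
      rw [Subgroup.nontrivial_iff_ne_bot]
      exact fun h => hs.ne A c.mem (eq_bot_iff.2 (h ▸ le_sSup c.mem_kset))
    obtain ⟨N, -, hN⟩ := Finite.exists_le_minimal
      (p := fun N : Subgroup U => N.Normal ∧ N ≠ ⊥) (a := (⊤ : Subgroup U))
      ⟨inferInstance, top_ne_bot⟩
    have hmin : H60.IsMinNormal N :=
      ⟨hN.1.1, hN.1.2, fun L h1 h2 h3 => le_antisymm h2 (hN.2 ⟨h1, h3⟩ h2)⟩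
    have hle : N.map U.subtype ≤ F := le_iInf₂ fun C hC => by
      have hCU : C ≤ U := le_sSup hC
      have hsn : (C.subgroupOf U).IsSubnormal :=
        (sn_inf hs c hC).mono (sSup_le fun D hD => (show D ∈ K from hD).2)
      have h1 := (map_mono (f := U.subtype) (H60.minNormal_le_normalizer hmin hsn)).trans
        (le_normalizer_map (f := U.subtype) (H := C.subgroupOf U))
      rwa [map_subgroupOf_eq_of_le hCU] at h1
    intro h
    exact hN.1.2 ((map_eq_bot_iff_of_injective N U.subtype_injective).1 (eq_bot_iff.2 (h ▸ hle)))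
  have htop : normalizer (F : Set G) ≠ ⊤ := fun h =>
    hFne (hs.core A c.mem F (normalizer_eq_top_iff.1 h) (normalizers_le c.mem_kset))
  obtain ⟨R, hR, hFR⟩ := (eq_top_or_exists_le_coatom (normalizer (F : Set G))).resolve_left htop
  have hRP : R ≠ P := fun h => hn (h ▸ hFR hnF)
  have hAR : A ≤ R := fun a ha => hFR (normalizes_of_perm fun C hC =>
    ⟨hs.inv C hC.1 a, (cj_mono hC.2 a).trans (cj_le_of_mem ⟨c.le ha, c.facts.le ha⟩)⟩)
  exact hpA (c.facts.inf_le_normalizer hR hRP hAR ⟨hFR hpF, hp⟩)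

theorem normalizer_U_ne_top (hs : Setup 𝒞) (c : Config 𝒞 A P M) :
    normalizer ((sSup (kset 𝒞 M P) : Subgroup G) : Set G) ≠ ⊤ := fun h =>
  c.facts.coatom.1 (top_le_iff.1 ((hs.cl A c.mem _ (normalizer_eq_top_iff.1 h)
    (le_sSup c.mem_kset)).ge.trans (sSup_le fun D hD => hD.2.trans inf_le_right)))

/-- The normalizer of the join lies in `P`. -/
theorem normalizer_U_le (hs : Setup 𝒞) (c : Config 𝒞 A P M) :
    normalizer ((sSup (kset 𝒞 M P) : Subgroup G) : Set G) ≤ P := by
  set K := kset 𝒞 M P with hK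
  set U := sSup K with hU
  by_contra hnot
  obtain ⟨n, hn, hnP⟩ := SetLike.not_le_iff_exists.1 hnot
  have hperm : ∀ x ∈ normalizer (U : Set G), ∀ C ∈ K, cj C x ∈ K := by
    intro x hx C hC
    refine ⟨hs.inv C hC.1 x, le_trans ?_ (sSup_le fun D hD => hD.2 : U ≤ M ⊓ P)⟩
    calc cj C x ≤ cj U x := cj_mono (le_sSup hC) x
      _ = U := cj_eq_self_iff.2 hx
  have hB : cj A n ∈ K := hperm n hn A c.mem_kset
  have hBA : cj A n ≠ A := fun h => hnP (c.facts.normalizer_le (cj_eq_self_iff.1 h))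
  have hQP : cj P n ≠ P := fun h => hnP (c.facts.mem_of_cj h)
  have hAQ : A ≤ cj P n := by
    calc A ≤ U := le_sSup c.mem_kset
      _ = cj U n := (cj_eq_self_iff.2 hn).symm
      _ ≤ cj P n := cj_mono (sSup_le fun D hD => hD.2.trans inf_le_right) n
  obtain ⟨p, hp, hpA, hpF⟩ := exists_p hs c hB hBA (c.facts.conj n) hQP hAQ (by
    intro X hXC hXP hXU
    by_contra hXK
    obtain ⟨R, hR, hUR⟩ :=
      (eq_top_or_exists_le_coatom (normalizer (U : Set G))).resolve_left (normalizer_U_ne_top hs c)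
    have hRP : R ≠ P := fun h => hnP (h ▸ hUR hn)
    have hsub : insert X K ⊆ kset 𝒞 R P := by
      rintro C (rfl | hC)
      · exact ⟨hXC, le_inf (hXU.trans hUR) hXP⟩
      · exact ⟨hC.1, le_inf ((le_sSup hC).trans (le_normalizer.trans hUR)) (hC.2.trans inf_le_right)⟩
    have h1 := (Set.ncard_le_ncard hsub (Set.toFinite _)).trans (c.max A P R c.mem c.facts hR hRP
      ((le_sSup c.mem_kset).trans (le_normalizer.trans hUR)))
    rw [Set.ncard_insert_of_notMem hXK (Set.toFinite _)] at h1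
    exact absurd h1 (Nat.not_succ_le_self _))
  exact clash hs c hnP (normalizes_of_perm (hperm n hn)) hp hpA hpF

/-- No configuration exists. -/
theorem no_config (hs : Setup 𝒞) (c : Config 𝒞 A P M) : False := by
  set K := kset 𝒞 M P with hK
  have hUP := normalizer_U_le hs c
  -- some member is not subnormal in `M`
  obtain ⟨C, hC, hCsn⟩ : ∃ C ∈ K, ¬ SnIn C M := by
    by_contra hno
    push Not at hno
    rcases step hs.inv (Q := M) (S₀ := K)
      (fun C hC => ⟨hC.1, hC.2.trans inf_le_left, hno C hC⟩) with h | ⟨X, hXC, hXM, -, hXK, hXn⟩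
    · exact c.ne ((c.coatom.le_iff.1 (h.trans hUP)).resolve_left c.facts.coatom.1).symm
    · exact hXK ⟨hXC, le_inf hXM (hXn.trans hUP)⟩
  obtain ⟨Q, hQ⟩ := hs.facts C hC.1
  obtain rfl : Q = M := by
    by_contra h
    exact hCsn (hQ.sn c.coatom (Ne.symm h) (hC.2.trans inf_le_left))
  have hCA : C ≠ A := fun h => hCsn (h ▸ c.facts.sn c.coatom c.ne c.le)
  have hswap : kset 𝒞 P Q = kset 𝒞 Q P := by simp only [kset, inf_comm]
  have c' : Config 𝒞 C Q P := by
    refine ⟨hC.1, hQ, c.facts.coatom, c.ne.symm, hC.2.trans inf_le_right, ?_⟩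
    rw [hswap]; exact c.max
  have hUQ := normalizer_U_le hs c'
  rw [hswap] at hUQ
  obtain ⟨p, hp, hpA, hpF⟩ := exists_p hs c hC hCA hQ c.ne c.le
    (fun X hXC hXP hXU => ⟨hXC, le_inf (hXU.trans hUQ) hXP⟩)
  obtain ⟨q, hq, hqC, hqF⟩ := exists_p hs c' (hswap.symm ▸ c.mem_kset) hCA.symm c.facts c.ne.symm
    (hC.2.trans inf_le_right) (by
      rw [hswap]
      exact fun X hXC hXQ hXU => ⟨hXC, le_inf hXQ (hXU.trans hUP)⟩)
  rw [hswap] at hqF
  exact clash hs c (fun hqP => hqC (hQ.inf_le_normalizer c.facts.coatom c.ne.symm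
    (hC.2.trans inf_le_right) ⟨hqP, hq⟩)) hqF hp hpA hpF

/-- The main induction. -/
theorem unique_aux : ∀ (n : ℕ) (G : Type u) [Group G] [Finite G], Nat.card G ≤ n →
    ∀ A P : Subgroup G, normalClosure (A : Set G) = ⊤ → IsCoatom P →
      (∀ H : Subgroup G, Gen A H → H ≠ ⊤ → H ≤ P) →
      ∀ M : Subgroup G, IsCoatom M → A ≤ M → M = P := by
  intro n
  induction n with
  | zero => intro G _ _ hc; exact absurd hc (Nat.not_le.2 Nat.card_pos)
  | succ n ih =>
    intro G _ _ hc A
    induction A using WellFoundedGT.induction with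
    | _ A ihA =>
    intro P hA hP hcov M₀ hM₀ hAM₀
    have hcl : ∀ N : Subgroup G, N.Normal → A ≤ N → N = ⊤ := fun N hN hle =>
      top_le_iff.1 (hA ▸ normalClosure_le_normal hle)
    have hAtop : A ≠ ⊤ := fun h => hM₀.1 (top_le_iff.1 (h ▸ hAM₀))
    have hAP : A ≤ P := hcov A (gen_self A) hAtop
    by_contra hne₀
    by_cases hZ : (normalizer (A : Set G)).normalCore = ⊥
    swap
    · -- factor out the core of the normalizer
      set Z := (normalizer (A : Set G)).normalCore with hZdef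
      set f := QuotientGroup.mk' Z with hf
      have hfs : Function.Surjective f := QuotientGroup.mk'_surjective Z
      have hZle : ∀ M : Subgroup G, IsCoatom M → A ≤ M → Z ≤ M := by
        intro M hM hAM
        by_contra hZM
        have htop : M ⊔ Z = ⊤ := hM.2 _ (lt_of_le_of_ne le_sup_left fun h =>
          hZM (h ▸ le_sup_right))
        apply hM.1
        rw [← top_le_iff, ← hA, normalClosure, closure_le]
        intro x hx
        obtain ⟨a, ha, hax⟩ := Group.mem_conjugatesOfSet_iff.1 hx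
        obtain ⟨g, rfl⟩ := isConj_iff.1 hax
        obtain ⟨m, hm, z, hz, rfl⟩ := mem_sup_of_normal_right.1 (htop ▸ mem_top g : g ∈ M ⊔ Z)
        have h1 : z * a * z⁻¹ ∈ M :=
          hAM ((mem_normalizer_iff.1 (normalCore_le _ hz) a).1 ha)
        have h2 := M.mul_mem (M.mul_mem hm h1) (M.inv_mem hm)
        simpa [mul_assoc] using h2
      have hco : ∀ M : Subgroup G, IsCoatom M → Z ≤ M → IsCoatom (M.map f) := by
        intro M hM hZM
        have he : (M.map f).comap f = M := by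
          rw [comap_map_eq, QuotientGroup.ker_mk', sup_eq_left.2 hZM]
        refine ⟨fun h => hM.1 (by rw [← he, h, comap_top]), fun L hL => ?_⟩
        have h1 : M < L.comap f := by
          rw [← he]; exact (comap_lt_comap_of_surjective hfs).2 hL
        exact comap_injective hfs (by rw [hM.2 _ h1, comap_top])
      have hlt : Nat.card (G ⧸ Z) ≤ n := by
        have h1 := card_eq_card_quotient_mul_card_subgroup Z
        have h2 : 1 < Nat.card Z := (one_lt_card_iff_ne_bot Z).2 hZ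
        have h3 : Nat.card (G ⧸ Z) < Nat.card G := by
          rw [h1]; exact lt_mul_of_one_lt_right Nat.card_pos h2
        omega
      have hA' : normalClosure ((A.map f : Subgroup (G ⧸ Z)) : Set (G ⧸ Z)) = ⊤ := by
        rw [coe_map, ← map_normalClosure _ _ hfs, hA, map_top_of_surjective f hfs]
      refine hne₀ ?_
      have h := ih (G ⧸ Z) hlt (A.map f) (P.map f) hA' (hco P hP (hZle P hP hAP)) (by
        intro H hH hHne
        have hAc : A ≤ H.comap f := map_le_iff_le_comap.1 hH.1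
        have hctop : H.comap f ≠ ⊤ := fun h => hHne (comap_injective hfs (by rw [h, comap_top]))
        obtain ⟨K, hAK, hKH, hKsn, hKgen⟩ := exists_gen hAc
        have hKtop : K ≠ ⊤ := fun h => hctop (top_le_iff.1 (h ▸ hKH))
        have hKP : K ≤ P := hcov K hKgen hKtop
        have hsn : SnIn (K.map f) H := by
          have h1 : SnIn K (H.comap f) := hKsn
          have h2 := IsSubnormal.map (f := f.subgroupComap H)
            (f.subgroupComap_surjective_of_surjective H hfs) h1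
          have e : (K.map f).subgroupOf H = (K.subgroupOf (H.comap f)).map (f.subgroupComap H) := by
            ext y
            constructor
            · rintro ⟨k, hk, hky⟩
              exact ⟨⟨k, hKH hk⟩, hk, Subtype.ext hky⟩
            · rintro ⟨k, hk, rfl⟩
              exact ⟨k, hk, rfl⟩
          rw [SnIn, e]; exact h2
        have hg : Gen (K.map f) H := ⟨map_le_iff_le_comap.2 hKH, fun X hX =>
          hH.2 X ((map_mono hAK).trans hX)⟩
        exact (eq_of_gen_sn hg hsn) ▸ map_mono hKP) (M₀.map f) (hco M₀ hM₀ (hZle M₀ hM₀ hAM₀))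
        (map_mono hAM₀)
      have h' := congrArg (Subgroup.comap f) h
      rwa [comap_map_eq, comap_map_eq, QuotientGroup.ker_mk', sup_eq_left.2 (hZle M₀ hM₀ hAM₀),
        sup_eq_left.2 (hZle P hP hAP)] at h'
    -- the overgroups in which `A` is not subnormal lie in `P`
    have hbig : ∀ W : Subgroup G, A < W → W ≠ ⊤ →
        (∀ H : Subgroup G, Gen W H → H ≠ ⊤ → H ≤ P) → ∀ R : Subgroup G, IsCoatom R → W ≤ R → R = P :=
      fun W hW _ hcovW => ihA W hW P (top_le_iff.1 (hA ▸ normalClosure_mono hW.le)) hP hcovW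
    have hover : ∀ H : Subgroup G, H ≠ ⊤ → A ≤ H → SnIn A H ∨ H ≤ P := by
      intro H hH hAH
      by_cases hs : SnIn A H
      · exact .inl hs
      right
      obtain ⟨K, hAK, hKH, hKsn, hKgen⟩ := exists_gen hAH
      have hlt : A < K := lt_of_le_of_ne hAK fun h => hs (h ▸ hKsn)
      obtain ⟨R, hR, hHR⟩ := (eq_top_or_exists_le_coatom H).resolve_left hH
      have := hbig K hlt (fun h => hH (top_le_iff.1 (h ▸ hKH)))
        (fun H' hH' hne' => hcov H' (gen_trans hKgen hH') hne') R hR (hKH.trans hHR)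
      exact this ▸ hHR
    have hns : ¬ A.IsSubnormal := fun h => by
      obtain ⟨X, hXn, hle, hlt⟩ := h.exists_normal_and_le_and_lt_top_of_ne hAtop
      exact hlt.ne (hcl X hXn hle)
    have hnsn : ¬ SnIn A P := by
      intro hsP
      refine hne₀ (H24.zipper _ A rfl (fun X hX hAX => ?_) hns M₀ P hM₀ hP hAM₀ hAP)
      rcases hover X hX hAX with h | h
      · exact h
      · exact hsP.mono h
    have hself : normalizer (P : Set G) = P := by
      refine (hP.le_iff.1 le_normalizer).resolve_left fun h => hP.1 ?_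
      exact hcl P (normalizer_eq_top_iff.1 h) hAP
    have hfacts : Facts A P := by
      refine ⟨hAP, hP, hself, hnsn, hover, fun p hp M hM hne hAM hle => ?_⟩
      by_contra hcj
      have hlt : A < A ⊔ cj A p := lt_of_le_of_ne le_sup_left fun h => hcj
        (eq_of_le_of_card_ge (le_sup_right.trans h.ge) (card_cj A p).ge)
      have hWP : A ⊔ cj A p ≤ P := sup_le hAP ((cj_mono hAP p).trans (cj_le_of_mem hp))
      refine hne (hbig _ hlt (fun h => hP.1 (top_le_iff.1 (h ▸ hWP))) ?_ M hM (sup_le hAM hle))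
      intro H hH hHne
      have hAH : A ≤ H := le_sup_left.trans hH.1
      rcases hover H hHne hAH with hs | hle'
      · have hH' : cj H p⁻¹ ≠ ⊤ := fun ht => hHne (top_le_iff.1 fun x _ => by
          have h3 : p⁻¹ * x * p ∈ cj H p⁻¹ := ht ▸ mem_top _
          rw [mem_cj] at h3
          simpa [mul_assoc] using h3)
        rcases hover _ hH' ((le_cj_iff p⁻¹).2 (by rw [inv_inv]; exact le_sup_right.trans hH.1))
          with h1 | h1
        · have h2 := snIn_cj h1 p
          rw [cj_cj, mul_inv_cancel, cj_one] at h2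
          have hsn : SnIn (A ⊔ cj A p) H := by
            rw [SnIn, subgroupOf_sup hAH (le_sup_right.trans hH.1)]
            exact H30.isSubnormal_sup hs h2
          exact (eq_of_gen_sn hH hsn) ▸ hWP
        · have h2 := cj_mono h1 p
          rw [cj_cj, mul_inv_cancel, cj_one] at h2
          exact h2.trans (cj_le_of_mem hp)
      · exact hle'
    -- set up and maximise
    set 𝒞 : Set (Subgroup G) := Set.range (cj A) with h𝒞
    have hclc : ∀ C ∈ 𝒞, ∀ N : Subgroup G, N.Normal → C ≤ N → N = ⊤ := by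
      rintro C ⟨g, rfl⟩ N hN hle
      refine hcl N hN fun a ha => ?_
      have h1 := hN.conj_mem _ (hle (mem_map_of_mem _ ha)) g⁻¹
      simpa [mul_assoc] using h1
    have hs : Setup 𝒞 := by
      refine ⟨?_, ?_, ?_, hclc, ?_, ?_⟩
      · rintro C ⟨g, rfl⟩ h; exact ⟨h * g, (cj_cj A g h).symm⟩
      · rintro C ⟨g, rfl⟩ D ⟨h, rfl⟩; exact ⟨h * g⁻¹, by rw [cj_cj, inv_mul_cancel_right]⟩
      · rintro C ⟨g, rfl⟩; exact ⟨_, hfacts.conj g⟩
      · rintro C ⟨g, rfl⟩ N hN hle
        refine eq_bot_iff.2 (hZ ▸ ?_)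
        haveI := hN
        refine normal_le_normalCore.2 fun x hx => ?_
        have h1 := hle (hN.conj_mem x hx g)
        rw [← cj_normalizer, mem_cj] at h1
        simpa [mul_assoc] using h1
      · rintro C ⟨g, rfl⟩ h
        rw [cj_eq_bot_iff] at h
        exact hM₀.1 (top_le_iff.1 ((hcl ⊥ inferInstance h.le).ge.trans bot_le))
    let S : Set (Subgroup G × Subgroup G × Subgroup G) :=
      {x | x.1 ∈ 𝒞 ∧ Facts x.1 x.2.1 ∧ IsCoatom x.2.2 ∧ x.2.2 ≠ x.2.1 ∧ x.1 ≤ x.2.2}
    obtain ⟨⟨A', P', M'⟩, ⟨h1, h2, h3, h4, h5⟩, hmax⟩ :=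
      Set.exists_max_image S (fun x => (kset 𝒞 x.2.2 x.2.1).ncard) (Set.toFinite S)
        ⟨(A, P, M₀), ⟨1, cj_one A⟩, hfacts, hM₀, hne₀, hAM₀⟩
    exact no_config hs ⟨h1, h2, h3, h4, h5,
      fun a p m g1 g2 g3 g4 g5 => hmax (a, p, m) ⟨g1, g2, g3, g4, g5⟩⟩

/-- Either the subgroups generated by their own conjugates of `A` generate `G`, or `A` lies in a
unique maximal subgroup. -/
theorem generalized_zipper {G : Type u} [Group G] [Finite G] (A : Subgroup G)
    (hA : normalClosure (A : Set G) = ⊤) (hAG : A ≠ ⊤) :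
    sSup {H : Subgroup G | A ≤ H ∧ H ≠ ⊤ ∧
        normalClosure ((A.subgroupOf H : Subgroup H) : Set H) = ⊤} = ⊤ ∨
      ∃! M : Subgroup G, IsCoatom M ∧ A ≤ M := by
  set Y := sSup {H : Subgroup G | A ≤ H ∧ H ≠ ⊤ ∧
    normalClosure ((A.subgroupOf H : Subgroup H) : Set H) = ⊤} with hY
  rcases eq_top_or_exists_le_coatom Y with h | ⟨P, hP, hYP⟩
  · exact .inl h
  have hcov : ∀ H : Subgroup G, Gen A H → H ≠ ⊤ → H ≤ P := by
    intro H hH hne
    refine le_trans ?_ hYP
    refine le_sSup ⟨hH.1, hne, ?_⟩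
    set X := normalClosure ((A.subgroupOf H : Subgroup H) : Set H) with hX
    have h1 := hH.2 (X.map H.subtype) (fun a ha => ⟨⟨a, hH.1 ha⟩, le_normalClosure ha, rfl⟩)
      (map_subtype_le X) (by
        have h2 := le_normalizer_map (f := H.subtype) (H := X)
        rwa [normalizer_eq_top_iff.2 inferInstance, ← MonoidHom.range_eq_map, range_subtype] at h2)
    rw [eq_top_iff]
    intro x _
    obtain ⟨y, hy, hyx⟩ : (x : G) ∈ X.map H.subtype := by rw [h1]; exact x.2
    exact Subtype.ext hyx ▸ hy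
  exact .inr ⟨P, ⟨hP, hcov A (gen_self A) hAG⟩,
    fun M hM => unique_aux _ G le_rfl A P hA hP hcov M hM.1 hM.2⟩

end Cfsg.Agent.H62.ZipperGen
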