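import Mathlib
import Cfsg.Agent.H62.ZipperGen

/-!
If `[G, α] = G` then the iterated commutators `[g, α, …, α]` generate `G`.
-/

set_option autoImplicit false
set_option linter.style.haveILetI false
open scoped Pointwise

namespace Cfsg.Agent.H62.EngelGen

open Subgroup H60

universe u

/-- The iterates of `y ↦ y a y⁻¹` on the class of `a` generate, together with `a`. -/
theorem closure_iterate : ∀ (n : ℕ) (Γ : Type u) [Group Γ] [Finite Γ], Nat.card Γ ≤ n →
    ∀ a : Γ, normalClosure ({a} : Set Γ) = ⊤ → ∀ k : ℕ,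
      closure ({a} ∪ Set.range (fun g => (fun y => y * a * y⁻¹)^[k] (g * a * g⁻¹))) = ⊤ := by
  intro n
  induction n with
  | zero => intro Γ _ _ hc; exact absurd hc (Nat.not_le.2 Nat.card_pos)
  | succ n ih =>
    intro Γ _ _ hc a ha k
    set Φ : Γ → Γ := fun y => y * a * y⁻¹ with hΦ
    set X := closure ({a} ∪ Set.range (fun g => Φ^[k] (g * a * g⁻¹))) with hX
    by_contra hne
    obtain ⟨M, hM, hXM⟩ := (eq_top_or_exists_le_coatom X).resolve_left hne
    have haM : a ∈ M := hXM (subset_closure (.inl rfl))
    set A := zpowers a with hA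
    have hAM : A ≤ M := zpowers_le.2 haM
    have hAcl : normalClosure (A : Set Γ) = ⊤ :=
      top_le_iff.1 (ha ▸ normalClosure_mono (Set.singleton_subset_iff.2 (mem_zpowers a)))
    -- subgroups generated by their own conjugates of `a` lie in `M`
    have hcov : ∀ H : Subgroup Γ, ZipperGen.Gen A H → H ≠ ⊤ → H ≤ M := by
      intro H hH hHne
      have haH : a ∈ H := hH.1 (mem_zpowers a)
      have hcard : Nat.card H ≤ n := by
        have h1 : Nat.card H ≠ Nat.card Γ := fun h => hHne (eq_top_of_card_eq H h)
        have := Nat.lt_of_le_of_ne (Nat.le_of_dvd Nat.card_pos (card_subgroup_dvd_card H)) h1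
        omega
      have hncl : normalClosure ({⟨a, haH⟩} : Set H) = ⊤ := by
        set N := normalClosure ({⟨a, haH⟩} : Set H) with hN
        have h1 := hH.2 (N.map H.subtype)
          (zpowers_le.2 ⟨⟨a, haH⟩, subset_normalClosure rfl, rfl⟩) (map_subtype_le N) (by
            have h2 := le_normalizer_map (f := H.subtype) (H := N)
            rwa [normalizer_eq_top_iff.2 inferInstance, ← MonoidHom.range_eq_map, range_subtype] at h2)
        rw [eq_top_iff]
        intro x _
        obtain ⟨y, hy, hyx⟩ : (x : Γ) ∈ N.map H.subtype := by rw [h1]; exact x.2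
        exact Subtype.ext hyx ▸ hy
      have h := ih H hcard ⟨a, haH⟩ hncl k
      have hsemi : Function.Semiconj (Subtype.val : H → Γ)
          (fun y => y * ⟨a, haH⟩ * y⁻¹) Φ := fun y => rfl
      intro x hx
      have hle : closure ({(⟨a, haH⟩ : H)} ∪ Set.range (fun g : H =>
          (fun y => y * (⟨a, haH⟩ : H) * y⁻¹)^[k] (g * ⟨a, haH⟩ * g⁻¹))) ≤ M.subgroupOf H := by
        rw [closure_le]
        rintro z (rfl | ⟨g, rfl⟩)
        · exact haM
        · show ((_ : H) : Γ) ∈ M
          rw [hsemi.iterate_right k _]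
          exact hXM (subset_closure (.inr ⟨g, rfl⟩))
      exact hle (h ▸ mem_top (⟨x, hx⟩ : H))
    have huniq : ∀ R : Subgroup Γ, IsCoatom R → a ∈ R → R = M := fun R hR haR =>
      ZipperGen.unique_aux _ Γ le_rfl A M hAcl hM hcov R hR (zpowers_le.2 haR)
    have hself : normalizer (M : Set Γ) = M := by
      refine (hM.le_iff.1 le_normalizer).resolve_left fun h => hM.1 ?_
      haveI := normalizer_eq_top_iff.1 h
      exact top_le_iff.1 (hAcl ▸ normalClosure_le_normal hAM)
    -- the complement of `M` is invariant under `Φ`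
    have hstep : ∀ y, y ∉ M → Φ y ∉ M := by
      intro y hy hΦy
      have h1 : a ∈ cj M y⁻¹ := by
        rw [mem_cj]; simpa [hΦ] using hΦy
      have h2 := huniq _ (ZipperGen.coatom_cj hM y⁻¹) h1
      rw [cj_eq_self_iff, hself] at h2
      exact hy (inv_inv y ▸ inv_mem h2)
    obtain ⟨g, hg⟩ : ∃ g, g * a * g⁻¹ ∉ M := by
      by_contra hno
      push Not at hno
      refine hM.1 (top_le_iff.1 (ha ▸ (closure_le M).2 fun x hx => ?_))
      obtain ⟨b, hb, hbx⟩ := Group.mem_conjugatesOfSet_iff.1 hx
      rw [Set.mem_singleton_iff] at hb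
      subst hb
      obtain ⟨c, rfl⟩ := isConj_iff.1 hbx
      exact hno c
    have hk : ∀ j, Φ^[j] (g * a * g⁻¹) ∉ M := by
      intro j
      induction j with
      | zero => exact hg
      | succ j hj => rw [Function.iterate_succ_apply']; exact hstep _ hj
    exact hk k (hXM (subset_closure (.inr ⟨g, rfl⟩)))

/-- If the `c * α(c)⁻¹` generate `G`, so do the values of the iterates of this map. -/
theorem iterated_commutators {G : Type u} [Group G] [Finite G] (α : MulAut G)
    (hG : closure (Set.range (fun c : G => c * (α c)⁻¹)) = ⊤) (k : ℕ) (hk : 1 ≤ k) :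
    closure (Set.range ((fun c : G => c * (α c)⁻¹)^[k])) = ⊤ := by
  set f : G → G := fun c => c * (α c)⁻¹ with hf
  set H := closure (Set.range f^[k]) with hH
  obtain ⟨j, rfl⟩ : ∃ j, k = j + 1 := ⟨k - 1, by omega⟩
  have hcomm : Function.Semiconj (α : G → G) f f := fun c => by simp [hf]
  -- `H` is invariant
  have hinv : ∀ β ∈ zpowers α, ∀ x ∈ H, β x ∈ H := by
    have hle : zpowers α ≤ MulAction.stabilizer (MulAut G) H := by
      rw [zpowers_le, MulAction.mem_stabilizer_iff]
      refine eq_of_le_of_card_ge ?_ (Nat.card_congr (equivSMul α H).toEquiv).le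
      intro y hy
      rw [mem_pointwise_smul_iff_inv_smul_mem] at hy
      have h1 : H ≤ H.comap α.toMonoidHom := by
        rw [hH, closure_le]
        rintro _ ⟨c, rfl⟩
        exact subset_closure ⟨α c, (hcomm.iterate_right (j + 1) c).symm⟩
      have h2 := h1 hy
      rw [mem_comap] at h2
      simpa [MulAut.smul_def] using h2
    intro β hβ x hx
    have h1 := smul_mem_pointwise_smul x β H hx
    rwa [MulAction.mem_stabilizer_iff.1 (hle hβ)] at h1
  let φ : zpowers α →* MulAut G := (zpowers α).subtype
  haveI : Finite (G ⋊[φ] zpowers α) := Finite.of_equiv _ SemidirectProduct.equivProd.symm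
  let a : G ⋊[φ] zpowers α := SemidirectProduct.inr ⟨α, mem_zpowers α⟩
  have hac : ∀ β : zpowers α, β * ⟨α, mem_zpowers α⟩ = ⟨α, mem_zpowers α⟩ * β := by
    rintro ⟨β, m, rfl⟩
    exact Subtype.ext ((Commute.refl α).zpow_left m)
  have hconj : ∀ g : G ⋊[φ] zpowers α,
      g * a * g⁻¹ = SemidirectProduct.inl (f g.left) * a := by
    intro g
    refine SemidirectProduct.ext ?_ ?_
    · simp [a, φ, hf]
      rw [← MulAut.mul_apply, ← MulAut.mul_apply]
      have := congrArg Subtype.val (hac g.right)
      simp only [Subgroup.coe_mul] at this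
      rw [this]
      simp
    · simp [a, hac g.right]
  have hncl : normalClosure ({a} : Set (G ⋊[φ] zpowers α)) = ⊤ := by
    set N := normalClosure ({a} : Set (G ⋊[φ] zpowers α)) with hN
    have haN : a ∈ N := subset_normalClosure rfl
    have h1 : (⊤ : Subgroup G) ≤ N.comap SemidirectProduct.inl := by
      rw [← hG, closure_le]
      rintro _ ⟨c, rfl⟩
      have h2 := N.mul_mem ((inferInstance : N.Normal).conj_mem a haN (SemidirectProduct.inl c))
        (N.inv_mem haN)
      rw [hconj] at h2
      simpa using h2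
    rw [eq_top_iff]
    intro x _
    rw [← SemidirectProduct.inl_left_mul_inr_right x]
    refine N.mul_mem (h1 (mem_top _)) ?_
    obtain ⟨m, hm⟩ := x.right.2
    have : x.right = (⟨α, mem_zpowers α⟩ : zpowers α) ^ m := Subtype.ext (by simpa using hm.symm)
    rw [this, map_zpow]
    exact N.zpow_mem haN m
  let Φ : G ⋊[φ] zpowers α → G ⋊[φ] zpowers α := fun y => y * a * y⁻¹
  have hit : ∀ (i : ℕ) (c : G),
      Φ^[i] (SemidirectProduct.inl (f c) * a) = SemidirectProduct.inl (f^[i + 1] c) * a := by
    intro i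
    induction i with
    | zero => intro c; rfl
    | succ i hi =>
      intro c
      rw [Function.iterate_succ_apply', hi]
      show _ * a * _⁻¹ = _
      rw [hconj, Function.iterate_succ_apply' f (i + 1)]
      simp [a]
  let K : Subgroup (G ⋊[φ] zpowers α) :=
    { carrier := {x | x.left ∈ H}
      one_mem' := H.one_mem
      mul_mem' := fun {x y} hx hy => H.mul_mem hx (hinv _ x.right.2 _ hy)
      inv_mem' := fun {x} hx => hinv _ (x.right⁻¹).2 _ (H.inv_mem hx) }
  have hK := closure_iterate _ _ le_rfl a hncl j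
  have hle : closure ({a} ∪ Set.range (fun g => Φ^[j] (g * a * g⁻¹))) ≤ K := by
    rw [closure_le]
    rintro _ (rfl | ⟨g, rfl⟩)
    · exact H.one_mem
    · show _ ∈ K
      simp only
      rw [hconj, hit]
      show (_ : G) ∈ H
      simpa [a, hH] using (subset_closure ⟨g.left, rfl⟩ : f^[j + 1] g.left ∈ H)
  rw [hK] at hle
  rw [eq_top_iff]
  intro x _
  exact hle (mem_top (SemidirectProduct.inl x))

end Cfsg.Agent.H62.EngelGen
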