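/-
Chermak-Delgado measure |H| * |C(H)| and centrally large subgroups of finite groups.
-/
import Cfsg.Prelude.Def_BaumannBlocks
import Mathlib

set_option autoImplicit false
open scoped Pointwise

namespace Cfsg.Agent.H62

variable {G : Type*} [Group G] [Finite G]

/-- Centralizer of a subgroup. -/
abbrev cc (H : Subgroup G) : Subgroup G := Subgroup.centralizer (H : Set G)

/-- Chermak-Delgado measure. -/
noncomputable def meas (H : Subgroup G) : ℕ := Nat.card H * Nat.card (cc H)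

theorem card_prod_mul_card_inf (H K : Subgroup G) :
    Nat.card ↥((H : Set G) * (K : Set G)) * Nat.card ↥(H ⊓ K) = Nat.card H * Nat.card K := by
  have hc : ∀ z : ↥((H : Set G) * (K : Set G)), ∃ h : H, (h : G)⁻¹ * z ∈ K := by
    rintro ⟨_, h, hh, k, hk, rfl⟩
    exact ⟨⟨h, hh⟩, by simpa using hk⟩
  choose r hr using hc
  rw [← Nat.card_prod, ← Nat.card_prod]
  refine (Nat.card_congr ?_).symm
  refine
    { toFun := fun x => (⟨x.1.1 * x.2.1, Set.mul_mem_mul x.1.2 x.2.2⟩,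
        ⟨((r ⟨x.1.1 * x.2.1, Set.mul_mem_mul x.1.2 x.2.2⟩ : H) : G)⁻¹ * x.1.1,
          H.mul_mem (H.inv_mem (Subtype.mem _)) x.1.2, ?_⟩)
      invFun := fun y => (⟨(r y.1 : G) * y.2.1, H.mul_mem (Subtype.mem _) y.2.2.1⟩,
        ⟨(y.2.1)⁻¹ * ((r y.1 : G)⁻¹ * y.1.1), K.mul_mem (K.inv_mem y.2.2.2) (hr y.1)⟩)
      left_inv := ?_
      right_inv := ?_ }
  · have := K.mul_mem (hr ⟨x.1.1 * x.2.1, Set.mul_mem_mul x.1.2 x.2.2⟩) (K.inv_mem x.2.2)
    simpa [mul_assoc] using this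
  · rintro ⟨⟨h, hh⟩, ⟨k, hk⟩⟩
    ext <;> simp
  · rintro ⟨⟨z, hz⟩, ⟨d, hd⟩⟩
    have e : (r ⟨z, hz⟩ : G) * d * (d⁻¹ * ((r ⟨z, hz⟩ : G)⁻¹ * z)) = z := by group
    ext
    · exact e
    · simp only [e]
      simp

theorem card_prod_le_sup (H K : Subgroup G) :
    Nat.card ↥((H : Set G) * (K : Set G)) ≤ Nat.card ↥(H ⊔ K) := by
  refine Nat.card_mono (Set.toFinite _) ?_
  rintro _ ⟨h, hh, k, hk, rfl⟩
  exact Subgroup.mul_mem_sup hh hk

theorem sup_eq_prod_of_card_le {H K : Subgroup G}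
    (h : Nat.card ↥(H ⊔ K) ≤ Nat.card ↥((H : Set G) * (K : Set G))) :
    ((H ⊔ K : Subgroup G) : Set G) = (H : Set G) * (K : Set G) := by
  refine (Set.eq_of_subset_of_ncard_le ?_ ?_ (Set.toFinite _)).symm
  · rintro _ ⟨h, hh, k, hk, rfl⟩
    exact Subgroup.mul_mem_sup hh hk
  · rw [← Nat.card_coe_set_eq, ← Nat.card_coe_set_eq]
    exact h

theorem cc_sup (H K : Subgroup G) : cc (H ⊔ K) = cc H ⊓ cc K := by
  refine le_antisymm (le_inf (Subgroup.centralizer_le (le_sup_left : H ≤ H ⊔ K))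
    (Subgroup.centralizer_le (le_sup_right : K ≤ H ⊔ K))) ?_
  rw [Subgroup.le_centralizer_iff]
  exact sup_le (Subgroup.le_centralizer_iff.mp inf_le_left) (Subgroup.le_centralizer_iff.mp inf_le_right)

theorem cc_anti {H K : Subgroup G} (h : H ≤ K) : cc K ≤ cc H := Subgroup.centralizer_le h

theorem le_cc_cc (H : Subgroup G) : H ≤ cc (cc H) := Subgroup.le_centralizer_iff.mp le_rfl

theorem maxCentralizerProduct_bdd :
    BddAbove {k : ℕ | ∃ R : Subgroup G, Nat.card ↥R * Nat.card ↥(Subgroup.centralizer (R : Set G)) = k} :=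
  (Set.finite_range fun R : Subgroup G => Nat.card ↥R * Nat.card ↥(Subgroup.centralizer (R : Set G))).bddAbove

theorem meas_le (H : Subgroup G) : meas H ≤ maxCentralizerProduct G :=
  le_csSup maxCentralizerProduct_bdd ⟨H, rfl⟩

theorem exists_large : ∃ H : Subgroup G, IsCentralizerLarge H :=
  Nat.sSup_mem (s := {k : ℕ | ∃ R : Subgroup G, Nat.card ↥R * Nat.card ↥(Subgroup.centralizer (R : Set G)) = k})
    ⟨_, ⊥, rfl⟩ maxCentralizerProduct_bdd

theorem large_of_le {H : Subgroup G} (h : maxCentralizerProduct G ≤ meas H) : IsCentralizerLarge H :=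
  le_antisymm (meas_le H) h

theorem large_cc {Q : Subgroup G} (hQ : IsCentralizerLarge Q) :
    IsCentralizerLarge (cc Q) ∧ Q = cc (cc Q) := by
  have hQ' : Nat.card Q * Nat.card (cc Q) = maxCentralizerProduct G := hQ
  have h1 : Nat.card Q ≤ Nat.card (cc (cc Q)) := Subgroup.card_le_of_le (le_cc_cc Q)
  have h2 : maxCentralizerProduct G ≤ meas (cc Q) := by
    rw [← hQ', meas, Nat.mul_comm]
    exact Nat.mul_le_mul_left _ h1
  refine ⟨large_of_le h2, Subgroup.eq_of_le_of_card_ge (le_cc_cc Q) ?_⟩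
  have h3 := meas_le (cc Q)
  rw [← hQ', meas, Nat.mul_comm (Nat.card Q)] at h3
  exact Nat.le_of_mul_le_mul_left h3 Nat.card_pos

theorem large_sup_inf {Q R : Subgroup G} (hQ : IsCentralizerLarge Q) (hR : IsCentralizerLarge R) :
    IsCentralizerLarge (Q ⊔ R) ∧ IsCentralizerLarge (Q ⊓ R) ∧
    ((Q ⊔ R : Subgroup G) : Set G) = (Q : Set G) * (R : Set G) ∧
    ((cc Q ⊔ cc R : Subgroup G) : Set G) = (cc Q : Set G) * (cc R : Set G) ∧
    cc (Q ⊓ R) = cc Q ⊔ cc R := by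
  have hQ' : Nat.card Q * Nat.card (cc Q) = maxCentralizerProduct G := hQ
  have hR' : Nat.card R * Nat.card (cc R) = maxCentralizerProduct G := hR
  set M := maxCentralizerProduct G
  set a := Nat.card ↥(Q ⊔ R)
  set x := Nat.card ↥((Q : Set G) * (R : Set G))
  set b := Nat.card ↥(cc (Q ⊓ R))
  set s := Nat.card ↥(cc Q ⊔ cc R)
  set y := Nat.card ↥((cc Q : Set G) * (cc R : Set G))
  set d := Nat.card ↥(Q ⊓ R)
  set c := Nat.card ↥(cc Q ⊓ cc R)
  have hxa : x ≤ a := card_prod_le_sup Q R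
  have hys : y ≤ s := card_prod_le_sup (cc Q) (cc R)
  have hsle : cc Q ⊔ cc R ≤ cc (Q ⊓ R) := sup_le (cc_anti inf_le_left) (cc_anti inf_le_right)
  have hsb : s ≤ b := Subgroup.card_le_of_le hsle
  have h1 : x * d = Nat.card Q * Nat.card R := card_prod_mul_card_inf Q R
  have h2 : y * c = Nat.card (cc Q) * Nat.card (cc R) := card_prod_mul_card_inf (cc Q) (cc R)
  have hm1 : a * c ≤ M := by
    have := meas_le (Q ⊔ R)
    rwa [meas, cc_sup] at this
  have hm2 : d * b ≤ M := meas_le (Q ⊓ R)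
  have hMM : (x * c) * (d * y) = M * M := by
    calc (x * c) * (d * y) = (x * d) * (y * c) := by ring
      _ = M * M := by rw [h1, h2]; nth_rewrite 1 [← hQ']; rw [← hR']; ring
  have hd : 0 < d := Nat.card_pos
  have hc : 0 < c := Nat.card_pos
  have hM : 0 < M := hQ' ▸ Nat.mul_pos Nat.card_pos Nat.card_pos
  have hxc : x * c ≤ a * c := Nat.mul_le_mul_right _ hxa
  have hdy : d * y ≤ d * b := Nat.mul_le_mul_left _ (hys.trans hsb)
  have e1 : x * c = M := by
    refine le_antisymm (hxc.trans hm1) ?_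
    by_contra hlt
    have h := Nat.mul_lt_mul_of_lt_of_le (Nat.lt_of_not_le hlt) (hdy.trans hm2) hM
    omega
  have e2 : d * y = M := by
    refine Nat.eq_of_mul_eq_mul_left hM ?_
    rw [← hMM, e1]
  have ea : a = x := le_antisymm (Nat.le_of_mul_le_mul_right (by omega) hc) hxa
  have eb : b = y := le_antisymm (Nat.le_of_mul_le_mul_left (by omega) hd) (hys.trans hsb)
  refine ⟨?_, ?_, sup_eq_prod_of_card_le ea.le, sup_eq_prod_of_card_le (le_trans hsb eb.le), ?_⟩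
  · refine large_of_le (le_of_eq ?_)
    rw [meas, cc_sup]
    show M = a * c
    rw [ea, e1]
  · refine large_of_le (le_of_eq ?_)
    show M = d * b
    rw [eb, e2]
  · exact (Subgroup.eq_of_le_of_card_ge hsle (le_trans eb.le hys)).symm

theorem card_center_eq (R : Subgroup G) :
    Nat.card ↥(Subgroup.center ↥R) = Nat.card ↥(R ⊓ cc R) := by
  rw [← Subgroup.card_map_of_injective R.subtype_injective]
  suffices h : (Subgroup.center ↥R).map R.subtype = R ⊓ cc R by rw [h]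
  ext x
  constructor
  · rintro ⟨y, hy, rfl⟩
    refine ⟨y.2, fun r hr => ?_⟩
    exact congrArg Subtype.val (Subgroup.mem_center_iff.mp hy ⟨r, hr⟩)
  · rintro ⟨hx, hxc⟩
    refine ⟨⟨x, hx⟩, Subgroup.mem_center_iff.mpr fun r => Subtype.ext (hxc r r.2), rfl⟩

theorem center_prod_le (R : Subgroup G) :
    Nat.card ↥R * Nat.card ↥(Subgroup.center ↥R) ≤ meas R := by
  rw [card_center_eq]
  exact Nat.mul_le_mul_left _ (Subgroup.card_le_of_le inf_le_right)

theorem maxCentralProduct_bdd :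
    BddAbove {k : ℕ | ∃ R : Subgroup G, Nat.card ↥R * Nat.card ↥(Subgroup.center ↥R) = k} :=
  (Set.finite_range fun R : Subgroup G => Nat.card ↥R * Nat.card ↥(Subgroup.center ↥R)).bddAbove

theorem maxCentralProduct_eq : maxCentralProduct G = maxCentralizerProduct G := by
  refine le_antisymm (csSup_le ⟨_, ⊥, rfl⟩ ?_) ?_
  · rintro k ⟨R, rfl⟩
    exact (center_prod_le R).trans (meas_le R)
  · obtain ⟨Q, hQ⟩ := exists_large (G := G)
    obtain ⟨h1, h2⟩ := large_cc hQ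
    obtain ⟨h3, -⟩ := large_sup_inf hQ h1
    refine le_csSup maxCentralProduct_bdd ⟨Q ⊔ cc Q, ?_⟩
    have h4 : cc (Q ⊔ cc Q) ≤ Q ⊔ cc Q := by
      rw [cc_sup]; exact inf_le_left.trans le_sup_right
    rw [card_center_eq, inf_eq_right.mpr h4]
    exact h3

theorem cl_iff {R : Subgroup G} :
    IsCentrallyLarge R ↔ IsCentralizerLarge R ∧ cc R ≤ R := by
  unfold IsCentrallyLarge
  rw [maxCentralProduct_eq]
  constructor
  · intro h
    have h1 : IsCentralizerLarge R := large_of_le (h ▸ center_prod_le R)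
    refine ⟨h1, ?_⟩
    have h2 : Nat.card R * Nat.card (cc R) = maxCentralizerProduct G := h1
    rw [← h2, card_center_eq] at h
    have h3 := Nat.eq_of_mul_eq_mul_left Nat.card_pos h
    have := Subgroup.eq_of_le_of_card_ge (inf_le_right : R ⊓ cc R ≤ cc R) h3.ge
    exact inf_eq_right.mp this
  · rintro ⟨h1, h2⟩
    rw [card_center_eq, inf_eq_right.mpr h2]
    exact h1

theorem cl_sup {Q R : Subgroup G} (hQ : IsCentrallyLarge Q) (hR : IsCentrallyLarge R) :
    IsCentrallyLarge (Q ⊔ R) := by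
  rw [cl_iff] at *
  refine ⟨(large_sup_inf hQ.1 hR.1).1, ?_⟩
  rw [cc_sup]
  exact inf_le_left.trans (hQ.2.trans le_sup_left)

theorem exists_cl : ∃ R : Subgroup G, IsCentrallyLarge R :=
  Nat.sSup_mem (s := {k : ℕ | ∃ R : Subgroup G, Nat.card ↥R * Nat.card ↥(Subgroup.center ↥R) = k})
    ⟨_, ⊥, rfl⟩ maxCentralProduct_bdd

theorem cl_sSup {S : Set (Subgroup G)} (hne : S.Nonempty) (h : ∀ R ∈ S, IsCentrallyLarge R) :
    IsCentrallyLarge (sSup S) := by
  obtain ⟨R₀, hR₀⟩ := hne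
  obtain ⟨T, ⟨hTcl, hTle⟩, hTmax⟩ :=
    (Set.toFinite {X : Subgroup G | IsCentrallyLarge X ∧ X ≤ sSup S}).exists_maximal ⟨R₀, h R₀ hR₀, le_sSup hR₀⟩
  have : sSup S = T := le_antisymm (sSup_le fun R hR =>
    (le_sup_right : R ≤ T ⊔ R).trans (hTmax ⟨cl_sup hTcl (h R hR), sup_le hTle (le_sSup hR)⟩ le_sup_left)) hTle
  exact this ▸ hTcl

theorem exists_minimal_cl_le {R : Subgroup G} (hR : IsCentrallyLarge R) :
    ∃ Q, Q ≤ R ∧ IsMinimalCentrallyLarge Q := by
  obtain ⟨Q, ⟨hQ, hQR⟩, hmin⟩ :=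
    (Set.toFinite {X : Subgroup G | IsCentrallyLarge X ∧ X ≤ R}).exists_minimal ⟨R, hR, le_rfl⟩
  exact ⟨Q, hQR, hQ, fun X hX hXcl => le_antisymm hX (hmin ⟨hXcl, hX.trans hQR⟩ hX)⟩

theorem exists_minimal_cl : ∃ Q : Subgroup G, IsMinimalCentrallyLarge Q := by
  obtain ⟨R, hR⟩ := exists_cl (G := G)
  obtain ⟨Q, -, hQ⟩ := exists_minimal_cl_le hR
  exact ⟨Q, hQ⟩

theorem isMulCommutative_of_le_cc {A : Subgroup G} (h : A ≤ cc A) : IsMulCommutative A :=
  Subgroup.le_centralizer_iff_isMulCommutative.mp h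

theorem cc_maxAbelian {A : Subgroup G} (hA : A ∈ maxAbelianSubgroups G) : cc A = A := by
  have hAc : A ≤ cc A := Subgroup.le_centralizer_iff_isMulCommutative.mpr hA.1
  refine le_antisymm (fun x hx => ?_) hAc
  have h1 : A ⊔ Subgroup.zpowers x ≤ cc (A ⊔ Subgroup.zpowers x) := by
    rw [cc_sup]
    have hz : Subgroup.zpowers x ≤ cc A := Subgroup.zpowers_le.mpr hx
    refine sup_le (le_inf hAc (Subgroup.le_centralizer_iff.mp hz)) (le_inf hz ?_)
    exact Subgroup.le_centralizer_iff_isMulCommutative.mpr inferInstance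
  have h2 := Subgroup.eq_of_le_of_card_ge (le_sup_left : A ≤ A ⊔ Subgroup.zpowers x) (hA.2 _ (isMulCommutative_of_le_cc h1))
  exact h2.symm ▸ (le_sup_right : Subgroup.zpowers x ≤ _) (Subgroup.mem_zpowers x)

theorem exists_maxAbelian : ∃ A : Subgroup G, A ∈ maxAbelianSubgroups G := by
  obtain ⟨A, hA, hmax⟩ := Set.exists_max_image {A : Subgroup G | IsMulCommutative A} (fun A => Nat.card A)
    (Set.toFinite _) ⟨⊥, isMulCommutative_of_le_cc bot_le⟩
  exact ⟨A, hA, hmax⟩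

theorem cl_sup_maxAbelian {Q A : Subgroup G} (hQ : IsCentrallyLarge Q) (hA : A ∈ maxAbelianSubgroups G) :
    IsCentrallyLarge (Q ⊔ A) ∧ ((Q ⊔ A : Subgroup G) : Set G) = (Q : Set G) * (A : Set G) ∧
    ((cc Q ⊔ (Q ⊓ A)) ∈ maxAbelianSubgroups G) ∧
    ((cc Q ⊔ (Q ⊓ A) : Subgroup G) : Set G) = (cc Q : Set G) * ((Q ⊓ A : Subgroup G) : Set G) := by
  obtain ⟨hQl, hQc⟩ := cl_iff.mp hQ
  have hQm : Nat.card Q * Nat.card (cc Q) = maxCentralizerProduct G := hQl
  set W := cc Q ⊔ (Q ⊓ A) with hW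
  have hAc := cc_maxAbelian hA
  have hWab : IsMulCommutative W := by
    refine isMulCommutative_of_le_cc ?_
    rw [hW, cc_sup]
    refine sup_le (le_inf (cc_anti hQc) (cc_anti inf_le_left)) (le_inf ((inf_le_left : Q ⊓ A ≤ Q).trans (le_cc_cc Q)) ?_)
    exact (inf_le_right : Q ⊓ A ≤ A).trans (hAc.symm.le.trans (cc_anti inf_le_right))
  have hint : cc Q ⊓ (Q ⊓ A) = cc Q ⊓ A := by
    rw [← inf_assoc, inf_eq_left.mpr hQc]
  set a := Nat.card ↥(Q ⊔ A)
  set x := Nat.card ↥((Q : Set G) * (A : Set G))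
  set d := Nat.card ↥(cc Q ⊓ A)
  set i := Nat.card ↥(Q ⊓ A)
  set w := Nat.card ↥W
  set v := Nat.card ↥((cc Q : Set G) * ((Q ⊓ A : Subgroup G) : Set G))
  have hxa : x ≤ a := card_prod_le_sup Q A
  have hvw : v ≤ w := card_prod_le_sup (cc Q) (Q ⊓ A)
  have hwA : w ≤ Nat.card A := hA.2 W hWab
  have h1 : x * i = Nat.card Q * Nat.card A := card_prod_mul_card_inf Q A
  have h2 : v * d = Nat.card (cc Q) * i := by
    have := card_prod_mul_card_inf (cc Q) (Q ⊓ A)
    rwa [hint] at this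
  have hm : a * d ≤ maxCentralizerProduct G := by
    have := meas_le (Q ⊔ A)
    rwa [meas, cc_sup, hAc] at this
  have hi : 0 < i := Nat.card_pos
  have hd : 0 < d := Nat.card_pos
  have hQpos : 0 < Nat.card Q := Nat.card_pos
  have hchain : maxCentralizerProduct G * i = Nat.card Q * (v * d) := by rw [h2, ← hQm]; ring
  have hle1 : Nat.card Q * (v * d) ≤ Nat.card Q * (w * d) :=
    Nat.mul_le_mul_left _ (Nat.mul_le_mul_right _ hvw)
  have hle2 : Nat.card Q * (w * d) ≤ Nat.card Q * (Nat.card A * d) :=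
    Nat.mul_le_mul_left _ (Nat.mul_le_mul_right _ hwA)
  have h3 : Nat.card Q * (Nat.card A * d) = (x * d) * i := by rw [← mul_assoc, ← h1]; ring
  have hle3 : (x * d) * i ≤ (a * d) * i := Nat.mul_le_mul_right _ (Nat.mul_le_mul_right _ hxa)
  have hle4 : (a * d) * i ≤ maxCentralizerProduct G * i := Nat.mul_le_mul_right _ hm
  have eA : w = Nat.card A :=
    Nat.eq_of_mul_eq_mul_right hd (Nat.eq_of_mul_eq_mul_left hQpos (by omega))
  have ev : w = v :=
    Nat.eq_of_mul_eq_mul_right hd (Nat.eq_of_mul_eq_mul_left hQpos (by omega))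
  have ex : a = x :=
    Nat.eq_of_mul_eq_mul_right hd (Nat.eq_of_mul_eq_mul_right hi (by omega))
  have em : a * d = maxCentralizerProduct G := Nat.eq_of_mul_eq_mul_right hi (by omega)
  refine ⟨cl_iff.mpr ⟨large_of_le (le_of_eq ?_), ?_⟩, sup_eq_prod_of_card_le ex.le,
    ⟨hWab, fun B hB => (hA.2 B hB).trans eA.ge⟩, sup_eq_prod_of_card_le ev.le⟩
  · rw [meas, cc_sup, hAc, em]
  · rw [cc_sup, hAc]; exact inf_le_right.trans le_sup_right

omit [Finite G] in
theorem thompsonA_le_of_sup_closed {R : Subgroup G} (h : ∀ A ∈ maxAbelianSubgroups G, A ≤ R) :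
    thompsonSubgroupA G ≤ R := sSup_le h

theorem cc_thompsonA_le : cc (thompsonSubgroupA G) ≤ thompsonSubgroupA G := by
  obtain ⟨A, hA⟩ := exists_maxAbelian (G := G)
  have hle : A ≤ thompsonSubgroupA G := le_sSup hA
  exact ((cc_anti hle).trans (cc_maxAbelian hA).le).trans hle

/-- A centrally large subgroup containing every abelian subgroup of largest order contains `C(Z(J))`. -/
theorem cc_center_thompsonA_le {R : Subgroup G} (hR : IsCentrallyLarge R) (hJ : thompsonSubgroupA G ≤ R) :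
    cc (thompsonSubgroupA G ⊓ cc (thompsonSubgroupA G)) ≤ R := by
  rw [inf_eq_right.mpr cc_thompsonA_le]
  exact (cc_anti (cc_anti hJ)).trans (large_cc (cl_iff.mp hR).1).2.symm.le

theorem minimal_cl_pair {Q R : Subgroup G} (hQ : IsMinimalCentrallyLarge Q) (hR : IsMinimalCentrallyLarge R) :
    (((Q ⊓ R) ⊔ cc Q : Subgroup G) : Set G) = ((Q ⊓ R : Subgroup G) : Set G) * (cc Q : Set G) ∧
    (Q ⊓ R) ⊔ cc Q = Q := by
  obtain ⟨hQl, hQc⟩ := cl_iff.mp hQ.1
  obtain ⟨hRl, hRc⟩ := cl_iff.mp hR.1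
  obtain ⟨-, hDl, -, hpr, hccD⟩ := large_sup_inf hQl hRl
  obtain ⟨hCl, hQQ⟩ := large_cc hQl
  obtain ⟨hS, -, hset, -⟩ := large_sup_inf hDl hCl
  refine ⟨hset, hQ.2 _ (sup_le inf_le_left hQc) (cl_iff.mpr ⟨hS, ?_⟩)⟩
  rw [cc_sup, hccD, ← hQQ]
  rintro x ⟨hx, hxQ⟩
  replace hx : x ∈ (cc Q : Set G) * (cc R : Set G) := hpr ▸ hx
  obtain ⟨z₁, hz₁, z₂, hz₂, rfl⟩ := hx
  refine (Q ⊓ R ⊔ cc Q).mul_mem (Subgroup.mem_sup_right hz₁) (Subgroup.mem_sup_left ⟨?_, hRc hz₂⟩)
  exact (Subgroup.mul_mem_cancel_left Q (hQc hz₁)).mp hxQ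

end Cfsg.Agent.H62
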