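/-
A minimal centrally large subgroup of a finite p-group normalized by all abelian subgroups of
largest order and by all minimal centrally large subgroups.
-/
import Cfsg.Agent.H62.CD
import Cfsg.Agent.H30.Subnormal
import Cfsg.Agent.H49.KSeq
import Cfsg.Agent.H60.Basic
import Cfsg.Agent.H77.Subnormal

set_option autoImplicit false
set_option linter.style.haveILetI false
open scoped Pointwise commutatorElement

namespace Cfsg.Agent.H62.MCL

open Subgroup

variable {G : Type*} [Group G] [Finite G]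

theorem meas_cj (H : Subgroup G) (g : G) : meas (H60.cj H g) = meas H := by
  rw [meas, meas, cc, ← H60.cj_centralizer, H60.card_cj, H60.card_cj]

theorem large_cj {H : Subgroup G} (h : IsCentralizerLarge H) (g : G) :
    IsCentralizerLarge (H60.cj H g) := by
  refine large_of_le (le_of_eq ?_)
  rw [meas_cj]
  exact h.symm

theorem abelian_cj {H : Subgroup G} (h : H ≤ cc H) (g : G) : H60.cj H g ≤ cc (H60.cj H g) := by
  rw [cc, ← H60.cj_centralizer]
  exact H60.cj_mono h g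

theorem cl_cj {R : Subgroup G} (hR : IsCentrallyLarge R) (g : G) :
    IsCentrallyLarge (H60.cj R g) := by
  rw [cl_iff] at hR ⊢
  refine ⟨large_cj hR.1 g, ?_⟩
  rw [cc, ← H60.cj_centralizer]
  exact H60.cj_mono hR.2 g

theorem mcl_cj {R : Subgroup G} (hR : IsMinimalCentrallyLarge R) (g : G) :
    IsMinimalCentrallyLarge (H60.cj R g) := by
  refine ⟨cl_cj hR.1 g, fun R' hle hR' => ?_⟩
  have h := hR.2 (H60.cj R' g⁻¹) ((H60.cj_le_iff _).2 (by rwa [inv_inv])) (cl_cj hR' _)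
  rw [← h, H60.cj_cj, mul_inv_cancel, H60.cj_one]

theorem large_sSup {S : Set (Subgroup G)} (hne : S.Nonempty)
    (h : ∀ R ∈ S, IsCentralizerLarge R) : IsCentralizerLarge (sSup S) := by
  obtain ⟨R₀, hR₀⟩ := hne
  obtain ⟨T, ⟨hT, hTle⟩, hTmax⟩ :=
    (Set.toFinite {X : Subgroup G | IsCentralizerLarge X ∧ X ≤ sSup S}).exists_maximal
      ⟨R₀, h R₀ hR₀, le_sSup hR₀⟩
  have : sSup S = T := le_antisymm (sSup_le fun R hR => (le_sup_right : R ≤ T ⊔ R).trans
    (hTmax ⟨(large_sup_inf hT (h R hR)).1, sup_le hTle (le_sSup hR)⟩ le_sup_left)) hTle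
  exact this ▸ hT

theorem large_sInf {S : Set (Subgroup G)} (hne : S.Nonempty)
    (h : ∀ R ∈ S, IsCentralizerLarge R) : IsCentralizerLarge (sInf S) := by
  obtain ⟨R₀, hR₀⟩ := hne
  obtain ⟨T, ⟨hT, hTle⟩, hTmin⟩ :=
    (Set.toFinite {X : Subgroup G | IsCentralizerLarge X ∧ sInf S ≤ X}).exists_minimal
      ⟨R₀, h R₀ hR₀, sInf_le hR₀⟩
  have : sInf S = T := le_antisymm hTle (le_sInf fun R hR => (hTmin
    ⟨(large_sup_inf hT (h R hR)).2.1, le_inf hTle (sInf_le hR)⟩ inf_le_left).trans inf_le_right)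
  exact this ▸ hT

/-- An abelian member of the Chermak-Delgado lattice. -/
def Good (X : Subgroup G) : Prop := IsCentralizerLarge X ∧ X ≤ cc X

theorem good_inf {X Y : Subgroup G} (hX : Good X) (hY : IsCentralizerLarge Y) : Good (X ⊓ Y) :=
  ⟨(large_sup_inf hX.1 hY).2.1, inf_le_left.trans (hX.2.trans (cc_anti inf_le_left))⟩

/-- A good subgroup normalized by a family with the product property, maximal among good subgroups. -/
theorem exists_invariant {p : ℕ} [Fact p.Prime] (hP : IsPGroup p G) (ℬ : Set (Subgroup G))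
    (hinv : ∀ B ∈ ℬ, ∀ g : G, H60.cj B g ∈ ℬ) (hab : ∀ B ∈ ℬ, B ≤ cc B)
    (hprod : ∀ B ∈ ℬ, ∀ X : Subgroup G, Good X → ∀ y ∈ sSup ((fun b => H60.cj X b) '' (B : Set G)),
      ∃ x ∈ X, ∃ a ∈ B, y = x * a) :
    ∃ X : Subgroup G, Good X ∧ (∀ X', Good X' → X ≤ X' → X' = X) ∧
      ∀ B ∈ ℬ, B ≤ normalizer (X : Set G) := by
  classical
  -- a normal good subgroup
  obtain ⟨R₀, hR₀⟩ := exists_cl (G := G)
  set L := sSup {R : Subgroup G | IsCentrallyLarge R} with hLdef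
  have hL : IsCentrallyLarge L := cl_sSup ⟨R₀, hR₀⟩ fun R hR => hR
  have hLn : ∀ g : G, g ∈ normalizer (L : Set G) := fun g =>
    H60.cj_eq_self_iff.1 (eq_of_le_of_card_ge (le_sSup (cl_cj hL g)) (H60.card_cj L g).ge)
  have hZ0 : Good (cc L) ∧ ∀ B ∈ ℬ, B ≤ normalizer (cc L : Set G) :=
    ⟨⟨(large_cc (cl_iff.1 hL).1).1, cc_anti (cl_iff.1 hL).2⟩,
      fun B _ b _ => H60.normalizer_le_normalizer_centralizer L (hLn b)⟩
  obtain ⟨Z, ⟨hZ, hZB⟩, hZmax⟩ := (Set.toFinite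
    {X : Subgroup G | Good X ∧ ∀ B ∈ ℬ, B ≤ normalizer (X : Set G)}).exists_maximal ⟨_, hZ0⟩
  refine ⟨Z, hZ, fun X₁ hX₁ hZX₁ => ?_, hZB⟩
  by_contra hne₁
  have hlt₁ : Z < X₁ := lt_of_le_of_ne hZX₁ (Ne.symm hne₁)
  obtain ⟨S, ⟨hSℬ, X₂, hX₂, hZX₂, hX₂S⟩, hSmax⟩ := (Set.toFinite
    {S : Set (Subgroup G) | S ⊆ ℬ ∧ ∃ X, Good X ∧ Z < X ∧ ∀ B ∈ S, B ≤ normalizer (X : Set G)}).exists_maximal
    ⟨∅, Set.empty_subset _, X₁, hX₁, hlt₁, by simp⟩
  have hSne : S ≠ ℬ := by
    intro h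
    subst h
    exact hZX₂.not_ge (hZmax ⟨hX₂, hX₂S⟩ hZX₂.le)
  obtain ⟨B, hB, hBS, hBn⟩ := H30.exists_normalizes_sSup ℬ S
    (fun U _ => H77.isSubnormal_of_isNilpotent hP.isNilpotent U)
    (fun U hU g => hinv U hU g) (hSℬ.ssubset_of_ne hSne)
  set H := sSup S with hH
  obtain ⟨X, ⟨hX, hZX, hXH⟩, hXmin⟩ := (Set.toFinite
    {X : Subgroup G | Good X ∧ Z < X ∧ H ≤ normalizer (X : Set G)}).exists_minimal
    ⟨X₂, hX₂, hZX₂, sSup_le hX₂S⟩
  -- no good subgroup above `Z` is normalized by `H` and `B`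
  have hno : ∀ W : Subgroup G, Good W → Z ≤ W → H ≤ normalizer (W : Set G) →
      B ≤ normalizer (W : Set G) → W = Z := by
    intro W hW hZW hWH hWB
    by_contra hne
    have h := hSmax (y := insert B S) ⟨Set.insert_subset hB hSℬ, W, hW,
      lt_of_le_of_ne hZW (Ne.symm hne), ?_⟩ (Set.subset_insert _ _)
    · exact hBS (h (Set.mem_insert _ _))
    · rintro C (rfl | hC)
      · exact hWB
      · exact (le_sSup hC).trans hWH
  have hmeas : ∀ {A : Subgroup G}, IsCentralizerLarge A →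
      Nat.card A * Nat.card (cc A) = maxCentralizerProduct G := fun h => h
  have hZH : H ≤ normalizer (Z : Set G) := sSup_le fun C hC => hZB C (hSℬ hC)
  have hZB' : B ≤ normalizer (Z : Set G) := hZB B hB
  obtain ⟨b, hb, hbX⟩ : ∃ b ∈ B, H60.cj X b ≠ X := by
    by_contra h
    push Not at h
    exact hZX.ne' (hno X hX hZX.le hXH fun b hb => H60.cj_eq_self_iff.1 (h b hb))
  have hbn : ∀ b ∈ B, H ≤ normalizer ((H60.cj X b : Subgroup G) : Set G) := by
    intro c hc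
    rw [← H60.cj_normalizer, ← H60.cj_eq_self_iff.2 (hBn hc)]
    exact H60.cj_mono hXH c
  have hZcj : ∀ c ∈ B, Z ≤ H60.cj X c := fun c hc => by
    rw [← H60.cj_eq_self_iff.2 (hZB' hc)]; exact H60.cj_mono hZX.le c
  -- `X` meets its conjugates in `Z`
  have hmeet : X ⊓ H60.cj X b⁻¹ = Z := by
    have hb' : b⁻¹ ∈ B := B.inv_mem hb
    by_contra hne
    have hmem : Good (X ⊓ H60.cj X b⁻¹) ∧ Z < X ⊓ H60.cj X b⁻¹ ∧
        H ≤ normalizer ((X ⊓ H60.cj X b⁻¹ : Subgroup G) : Set G) :=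
      ⟨good_inf hX (large_cj hX.1 _), lt_of_le_of_ne (le_inf hZX.le (hZcj _ hb')) (Ne.symm hne),
        H60.le_normalizer_inf hXH (hbn _ hb')⟩
    have h1 := le_inf_iff.1 (hXmin hmem inf_le_left)
    apply hbX
    have h2 := eq_of_le_of_card_ge h1.2 (H60.card_cj X b⁻¹).le
    calc H60.cj X b = H60.cj (H60.cj X b⁻¹) b := by rw [← h2]
      _ = X := by rw [H60.cj_cj, mul_inv_cancel, H60.cj_one]
  -- the join of the conjugates of `X` under `B`
  set 𝒳 := (fun c => H60.cj X c) '' (B : Set G) with h𝒳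
  set Y := sSup 𝒳 with hY
  have hXY : X ≤ Y := le_sSup ⟨1, B.one_mem, H60.cj_one X⟩
  have hYl : IsCentralizerLarge Y := large_sSup ⟨X, 1, B.one_mem, H60.cj_one X⟩ (by
    rintro _ ⟨c, hc, rfl⟩; exact large_cj hX.1 c)
  have hYB : B ≤ normalizer (Y : Set G) := by
    intro c hc
    refine H60.cj_eq_self_iff.1 (eq_of_le_of_card_ge ?_ (H60.card_cj Y c).ge)
    refine map_le_iff_le_comap.2 (sSup_le ?_)
    rintro _ ⟨d, hd, rfl⟩
    refine map_le_iff_le_comap.1 ?_
    show H60.cj (H60.cj X d) c ≤ Y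
    rw [H60.cj_cj]
    exact le_sSup ⟨c * d, B.mul_mem hc hd, rfl⟩
  have hYH : H ≤ normalizer (Y : Set G) := by
    intro h hh
    refine H60.cj_eq_self_iff.1 (eq_of_le_of_card_ge ?_ (H60.card_cj Y h).ge)
    refine map_le_iff_le_comap.2 (sSup_le ?_)
    rintro _ ⟨d, hd, rfl⟩
    refine map_le_iff_le_comap.1 ?_
    show H60.cj (H60.cj X d) h ≤ Y
    rw [H60.cj_eq_self_iff.2 (hbn d hd hh)]
    exact le_sSup ⟨d, hd, rfl⟩
  have hYZ : Y ≤ cc Z := sSup_le (by
    rintro _ ⟨c, hc, rfl⟩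
    exact (abelian_cj hX.2 c).trans (cc_anti (hZcj c hc)))
  have hY0 : Y ⊓ cc Y = Z := by
    refine hno _ ⟨(large_sup_inf hYl (large_cc hYl).1).2.1, inf_le_right.trans (cc_anti inf_le_left)⟩
      (le_inf (hZX.le.trans hXY) (le_centralizer_iff.1 hYZ))
      (H60.le_normalizer_inf hYH (hYH.trans (H60.normalizer_le_normalizer_centralizer Y)))
      (H60.le_normalizer_inf hYB (hYB.trans (H60.normalizer_le_normalizer_centralizer Y)))
  set U := (B ⊓ Y) ⊔ Z with hU
  set C := cc Y with hC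
  have hUY : U ≤ Y := sup_le inf_le_right (hZX.le.trans hXY)
  have hUab : U ≤ cc U := by
    rw [hU, cc_sup]
    refine sup_le (le_inf (inf_le_left.trans ((hab B hB).trans (cc_anti inf_le_left)))
      (inf_le_right.trans hYZ)) (le_inf ?_ hZ.2)
    exact (le_centralizer_iff.1 hYZ).trans (cc_anti inf_le_right)
  -- elements of `Y` as products
  have hdec : ∀ y ∈ Y, ∃ x ∈ X, ∃ a ∈ B ⊓ Y, y = x * a := by
    intro y hy
    obtain ⟨x, hx, a, ha, rfl⟩ := hprod B hB X hX y hy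
    exact ⟨x, hx, a, ⟨ha, (Y.mul_mem_cancel_left (hXY hx)).1 hy⟩, rfl⟩
  have hXU : X ⊓ U = Z := by
    refine le_antisymm (fun u hu => ?_) (le_inf hZX.le le_sup_right)
    obtain ⟨huX, huU⟩ := hu
    have hBYn : B ⊓ Y ≤ normalizer (Z : Set G) := inf_le_left.trans hZB'
    obtain ⟨a, ha, z, hz, rfl⟩ : ∃ a ∈ B ⊓ Y, ∃ z ∈ Z, a * z = u := by
      have h : u ∈ ((B ⊓ Y : Subgroup G) : Set G) * (Z : Set G) := by
        rw [← coe_mul_of_left_le_normalizer_right (B ⊓ Y) Z hBYn]; exact huU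
      exact h
    have haX : a ∈ X := (X.mul_mem_cancel_right (hZX.le hz)).1 huX
    refine Z.mul_mem (hmeet.le ⟨haX, H60.mem_cj.2 ?_⟩) hz
    rw [inv_inv]
    have hcm : a * b = b * a := (hab B hB hb) a ha.1
    rw [← hcm, mul_inv_cancel_right]
    exact haX
  have hcardY : Nat.card X * Nat.card U = Nat.card Y * Nat.card Z := by
    have hset : (Y : Set G) = (X : Set G) * (U : Set G) := by
      refine Set.Subset.antisymm (fun y hy => ?_) ?_
      · obtain ⟨x, hx, a, ha, rfl⟩ := hdec y hy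
        exact ⟨x, hx, a, mem_sup_left ha, rfl⟩
      · rintro _ ⟨x, hx, u, hu, rfl⟩
        exact Y.mul_mem (hXY hx) (hUY hu)
    have h := card_prod_mul_card_inf X U
    rw [← hset, hXU] at h
    exact h.symm
  have hXC : X ⊓ C = Z := le_antisymm ((inf_le_inf_right C hXY).trans hY0.le)
    (le_inf hZX.le (le_centralizer_iff.1 hYZ))
  have hUC : C ⊓ U = Z := le_antisymm (by rw [inf_comm]; exact (inf_le_inf_right C hUY).trans hY0.le)
    (le_inf (le_centralizer_iff.1 hYZ) le_sup_right)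
  have hcardX : Nat.card X * Nat.card C ≤ Nat.card (cc X) * Nat.card Z := by
    have h := card_prod_mul_card_inf X C
    rw [hXC] at h
    rw [← h]
    refine Nat.mul_le_mul_right _ (Nat.card_mono (Set.toFinite _) ?_)
    rintro _ ⟨x, hx, c, hc, rfl⟩
    exact (cc X).mul_mem (hX.2 hx) (cc_anti hXY hc)
  have hcardU : Nat.card U * Nat.card C ≤ Nat.card (cc U) * Nat.card Z := by
    have h := card_prod_mul_card_inf C U
    rw [hUC] at h
    rw [mul_comm (Nat.card U), ← h]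
    refine Nat.mul_le_mul_right _ (Nat.card_mono (Set.toFinite _) ?_)
    rintro _ ⟨c, hc, u, hu, rfl⟩
    exact (cc U).mul_mem (cc_anti hUY hc) (hUab hu)
  have hUX : Nat.card X ≤ Nat.card U := by
    have h1 := hmeas hX.1
    have h2 := hmeas hYl
    have hpos : 0 < Nat.card C := Nat.card_pos
    refine Nat.le_of_mul_le_mul_right ?_ hpos
    refine hcardX.trans (Nat.le_of_mul_le_mul_left ?_ (Nat.card_pos (α := X)))
    rw [← mul_assoc, h1, ← h2, ← mul_assoc, hcardY, hC]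
    exact le_of_eq (by ring)
  have hUl : IsCentralizerLarge U := by
    refine large_of_le ?_
    have hpos : 0 < Nat.card Z := Nat.card_pos
    refine Nat.le_of_mul_le_mul_right ?_ hpos
    rw [← hmeas hYl, meas]
    calc Nat.card Y * Nat.card (cc Y) * Nat.card Z
        = Nat.card X * Nat.card U * Nat.card C := by rw [hcardY, hC]; ring
      _ ≤ Nat.card U * (Nat.card U * Nat.card C) := by
          rw [mul_assoc]; exact Nat.mul_le_mul_right _ hUX
      _ ≤ Nat.card U * (Nat.card (cc U) * Nat.card Z) := Nat.mul_le_mul_left _ hcardU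
      _ = Nat.card U * Nat.card (cc U) * Nat.card Z := by ring
  -- a fixed element of `Y / Z`
  obtain ⟨y, hyY, hyZ, hy⟩ := H49.exists_fixed_mod hP (lt_of_lt_of_le hZX hXY) (H ⊔ B)
    (sup_le hZH hZB') (sup_le hYH hYB) (hYZ.trans (centralizer_le_normalizer _))
  have hyU : y ∈ U := by
    obtain ⟨x, hx, a, ha, rfl⟩ := hdec y hyY
    have hcm : a * b = b * a := (hab B hB hb) a ha.1
    have h1 := hy b (mem_sup_right hb)
    rw [commutatorElement_def] at h1
    have h2 : x * b * x⁻¹ * b⁻¹ ∈ Z := by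
      have e : x * a * b * (x * a)⁻¹ * b⁻¹ = x * b * x⁻¹ * b⁻¹ := by
        rw [mul_assoc x a b, hcm]; group
      rwa [e] at h1
    have h3 : x⁻¹ ∈ X ⊓ H60.cj X b⁻¹ := by
      refine ⟨X.inv_mem hx, H60.mem_cj.2 ?_⟩
      rw [inv_inv]
      simpa [mul_assoc] using X.mul_mem (X.inv_mem hx) (hZX.le h2)
    rw [hmeet] at h3
    exact U.mul_mem (mem_sup_right (inv_mem_iff.1 h3)) (mem_sup_left ha)
  set G₂ := H ⊔ B with hG₂
  set 𝒰 := (fun g => H60.cj U g) '' (G₂ : Set G) with h𝒰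
  set W := sInf 𝒰 with hW
  have hWU : W ≤ U := sInf_le ⟨1, G₂.one_mem, H60.cj_one U⟩
  have hWn : G₂ ≤ normalizer (W : Set G) := by
    intro g hg
    refine H60.cj_eq_self_iff.1 (eq_of_le_of_card_ge (le_sInf ?_) (H60.card_cj W g).ge)
    rintro _ ⟨d, hd, rfl⟩
    show H60.cj W g ≤ H60.cj U d
    have h1 : W ≤ H60.cj U (g⁻¹ * d) := sInf_le ⟨g⁻¹ * d, G₂.mul_mem (G₂.inv_mem hg) hd, rfl⟩
    have h2 := H60.cj_mono h1 g
    rwa [H60.cj_cj, mul_inv_cancel_left] at h2
  have hZW : Z ≤ W := le_sInf (by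
    rintro _ ⟨d, hd, rfl⟩
    show Z ≤ H60.cj U d
    rw [← H60.cj_eq_self_iff.2 (sup_le hZH hZB' hd)]
    exact H60.cj_mono le_sup_right d)
  have hyW : y ∈ W := by
    rw [hW, mem_sInf]
    rintro _ ⟨d, hd, rfl⟩
    show y ∈ H60.cj U d
    rw [H60.mem_cj]
    have h1 := hy d⁻¹ (G₂.inv_mem hd)
    rw [commutatorElement_def, inv_inv] at h1
    have e2 : d⁻¹ * y * d = (y * d⁻¹ * y⁻¹ * d)⁻¹ * y := by group
    rw [e2]
    exact U.mul_mem (mem_sup_right (Z.inv_mem h1)) hyU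
  have hfin := hno W ⟨large_sInf ⟨_, 1, G₂.one_mem, rfl⟩ (by
      rintro _ ⟨d, -, rfl⟩; exact large_cj hUl d), hWU.trans (hUab.trans (cc_anti hWU))⟩ hZW
    (le_sup_left.trans hWn) (le_sup_right.trans hWn)
  exact hyZ (hfin ▸ hyW)

/-- The minimal centrally large subgroup normalized by `J` and by all minimal centrally large
subgroups. -/
theorem exists_normalized {p : ℕ} [Fact p.Prime] (hP : IsPGroup p G) :
    ∃ Q : Subgroup G, IsMinimalCentrallyLarge Q ∧
      thompsonSubgroupA G ≤ normalizer (Q : Set G) ∧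
      minimalCentrallyLargeJoin G ≤ normalizer (Q : Set G) := by
  obtain ⟨X, hX, hmax, hn⟩ := exists_invariant hP
    (maxAbelianSubgroups G ∪ cc '' {R : Subgroup G | IsMinimalCentrallyLarge R})
    (by
      rintro B (hB | ⟨R, hR, rfl⟩) g
      · left
        refine ⟨isMulCommutative_of_le_cc (abelian_cj (le_centralizer_iff_isMulCommutative.mpr hB.1) g),
          fun C hC => ?_⟩
        rw [H60.card_cj]
        exact hB.2 C hC
      · exact .inr ⟨H60.cj R g, mcl_cj hR g, (H60.cj_centralizer R g).symm⟩)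
    (by
      rintro B (hB | ⟨R, hR, rfl⟩)
      · exact (cc_maxAbelian hB).ge
      · exact cc_anti (cl_iff.1 hR.1).2)
    (by
      rintro B (hB | ⟨R, hR, rfl⟩) X hX y hy
      · set Q := cc X with hQ
        obtain ⟨hQl, hQQ⟩ := large_cc hX.1
        have hQcl : IsCentrallyLarge Q := cl_iff.2 ⟨hQl, by rw [hQ, ← hQQ]; exact hX.2⟩
        obtain ⟨-, hset, hW, hWset⟩ := cl_sup_maxAbelian hQcl hB
        rw [hQ, ← hQQ] at hW hWset
        have hgen : sSup ((fun c => H60.cj X c) '' (B : Set G)) ≤ (Q ⊔ B) ⊓ cc (Q ⊓ B) := by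
          refine sSup_le ?_
          rintro _ ⟨c, hc, rfl⟩
          refine le_inf ?_ ?_
          · exact (H60.cj_mono (hX.2.trans (le_sup_left : Q ≤ Q ⊔ B)) c).trans
              (H60.cj_le_of_mem (mem_sup_right hc))
          · have h1 : H60.cj X c ≤ H60.cj (cc (Q ⊓ B)) c :=
              H60.cj_mono ((le_cc_cc X).trans (cc_anti inf_le_left)) c
            refine h1.trans (H60.cj_le_of_mem ?_)
            exact (cc_anti inf_le_right) ((cc_maxAbelian hB).ge hc)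
        obtain ⟨h1, h2⟩ := hgen hy
        have h1' : y ∈ (Q : Set G) * (B : Set G) := hset ▸ h1
        obtain ⟨q, hq, a, ha, rfl⟩ := h1'
        have hqc : q ∈ cc (Q ⊓ B) := ((cc (Q ⊓ B)).mul_mem_cancel_right
          ((cc_anti inf_le_right) ((cc_maxAbelian hB).ge ha))).1 h2
        have hqW : q ∈ X ⊔ (Q ⊓ B) := by
          rw [← cc_maxAbelian hW, cc_sup]
          exact ⟨hq, hqc⟩
        have hqW' : q ∈ (X : Set G) * ((Q ⊓ B : Subgroup G) : Set G) := hWset ▸ hqW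
        obtain ⟨x, hx, d, hd, rfl⟩ := hqW'
        exact ⟨x, hx, d * a, B.mul_mem hd.2 ha, mul_assoc x d a⟩
      · have hl := (large_cc (cl_iff.1 hR.1).1).1
        obtain ⟨-, -, hset, -⟩ := large_sup_inf hX.1 hl
        have hgen : sSup ((fun c => H60.cj X c) '' (cc R : Set G)) ≤ X ⊔ cc R := by
          refine sSup_le ?_
          rintro _ ⟨c, hc, rfl⟩
          exact (H60.cj_mono le_sup_left c).trans (H60.cj_le_of_mem (mem_sup_right hc))
        have h1 : y ∈ (X : Set G) * (cc R : Set G) := hset ▸ hgen hy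
        obtain ⟨x, hx, a, ha, rfl⟩ := h1
        exact ⟨x, hx, a, ha, rfl⟩)
  obtain ⟨hQl, hQQ⟩ := large_cc hX.1
  have hQcl : IsCentrallyLarge (cc X) := cl_iff.2 ⟨hQl, by rw [← hQQ]; exact hX.2⟩
  have hQmin : IsMinimalCentrallyLarge (cc X) := by
    refine ⟨hQcl, fun R hR hRcl => ?_⟩
    obtain ⟨hRl, hRc⟩ := cl_iff.1 hRcl
    have h := hmax (cc R) ⟨(large_cc hRl).1, cc_anti hRc⟩ (hQQ.le.trans (cc_anti hR))
    rw [(large_cc hRl).2, h]
  refine ⟨cc X, hQmin, sSup_le fun A hA =>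
    (hn A (.inl hA)).trans (H60.normalizer_le_normalizer_centralizer X), sSup_le fun R hR => ?_⟩
  have h1 : cc R ≤ normalizer (cc X : Set G) :=
    (hn (cc R) (.inr ⟨R, hR, rfl⟩)).trans (H60.normalizer_le_normalizer_centralizer X)
  rw [← (minimal_cl_pair hR hQmin).2]
  exact sup_le (inf_le_right.trans le_normalizer) h1

end Cfsg.Agent.H62.MCL
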