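/-
Strongly p-embedded subgroups and the graph of Sylow intersections.
-/
import Cfsg.Prelude.Def_SylowChains
import Cfsg.Agent.Fusion.Alperin
import Cfsg.Agent.Fusion.PComplement
import Mathlib

set_option autoImplicit false

namespace Cfsg.Agent.H62

variable {G : Type*} [Group G] [Finite G] {p : ℕ} [Fact p.Prime]

/-- `H ∩ gHg⁻¹` has order prime to `p` for all `g ∉ H`. -/
def SE (p : ℕ) (H : Subgroup G) : Prop :=
  ∀ g : G, g ∉ H → ¬ p ∣ Nat.card ↥(H ⊓ H.map (MulAut.conj g).toMonoidHom)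

theorem SE.mem_of_conj {H : Subgroup G} (hse : SE p H) {x g : G} (hx : x ∈ H) (hxp : orderOf x = p)
    (hg : g * x * g⁻¹ ∈ H) : g ∈ H := by
  by_contra hgH
  apply hse g hgH
  have ho : orderOf (g * x * g⁻¹) = p := ((MulAut.conj g).orderOf_eq x).trans hxp
  rw [← ho]
  exact Subgroup.orderOf_dvd_natCard _ (⟨hg, ⟨x, hx, rfl⟩⟩ : g * x * g⁻¹ ∈ H ⊓ H.map (MulAut.conj g).toMonoidHom)

theorem SE.centralizer_le {H : Subgroup G} (hse : SE p H) {x : G} (hx : x ∈ H) (hxp : orderOf x = p) :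
    Subgroup.centralizer ({x} : Set G) ≤ H := fun c hc => by
  refine hse.mem_of_conj hx hxp ?_
  rwa [Subgroup.mem_centralizer_singleton_iff.mp hc, mul_inv_cancel_right]

theorem exists_orderOf_eq_prime {T : Subgroup G} (hT : IsPGroup p T) (hne : T ≠ ⊥) :
    ∃ x ∈ T, orderOf x = p := by
  rcases hT.card_eq_or_dvd with h | h
  · exact absurd (Subgroup.card_eq_one.mp h) hne
  · obtain ⟨x, hx⟩ := exists_prime_orderOf_dvd_card' p h
    exact ⟨x, x.2, (Subgroup.orderOf_coe x).trans hx⟩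

theorem SE.normalizer_le {H T : Subgroup G} (hse : SE p H) (hT : IsPGroup p T) (hne : T ≠ ⊥) (hTH : T ≤ H) :
    Subgroup.normalizer (T : Set G) ≤ H := by
  obtain ⟨x, hx, hxp⟩ := exists_orderOf_eq_prime hT hne
  exact fun g hg => hse.mem_of_conj (hTH hx) hxp (hTH ((Subgroup.mem_normalizer_iff.mp hg x).mp hx))

theorem SE.pgroup_le {H T : Subgroup G} (hse : SE p H) (hT : IsPGroup p T) (hne : T ⊓ H ≠ ⊥) : T ≤ H := by
  by_contra hcon
  have hlt : T ⊓ H < T := lt_of_le_of_ne inf_le_left fun e => hcon (e ▸ inf_le_right)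
  obtain ⟨x, ⟨hxT, hxN⟩, hx⟩ := SetLike.exists_of_lt (Fusion.ofSubgroupInfLt T hT hlt)
  exact hx ⟨hxT, hse.normalizer_le (hT.to_le inf_le_left) hne inf_le_right hxN⟩

theorem SE.exists_sylow_le {H : Subgroup G} (hse : SE p H) (hpH : p ∣ Nat.card H) :
    ∃ S : Sylow p G, (S : Subgroup G) ≤ H := by
  obtain ⟨x, hx⟩ := exists_prime_orderOf_dvd_card' p hpH
  have hxo : orderOf (x : G) = p := (Subgroup.orderOf_coe x).trans hx
  have hZ : IsPGroup p (Subgroup.zpowers (x : G)) := IsPGroup.of_card (n := 1) (by rw [Nat.card_zpowers, hxo, pow_one])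
  obtain ⟨S, hS⟩ := hZ.exists_le_sylow
  refine ⟨S, hse.pgroup_le S.isPGroup' fun e => ?_⟩
  have : (x : G) ∈ (S : Subgroup G) ⊓ H := ⟨hS (Subgroup.mem_zpowers _), x.2⟩
  rw [e, Subgroup.mem_bot] at this
  rw [this, orderOf_one] at hxo
  exact (Fact.out : p.Prime).ne_one hxo.symm

theorem inf_normal_ne_bot (S : Sylow p G) (N : Subgroup G) [hNn : N.Normal] (hN : p ∣ Nat.card N) :
    ((S : Subgroup G) ⊓ N) ≠ ⊥ := by
  obtain ⟨x, hx⟩ := exists_prime_orderOf_dvd_card' p hN
  have hxo : orderOf (x : G) = p := (Subgroup.orderOf_coe x).trans hx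
  have hZ : IsPGroup p (Subgroup.zpowers (x : G)) := IsPGroup.of_card (n := 1) (by rw [Nat.card_zpowers, hxo, pow_one])
  obtain ⟨R, hR⟩ := hZ.exists_le_sylow
  obtain ⟨g, rfl⟩ := MulAction.exists_smul_eq G R S
  intro e
  have : g * x * g⁻¹ ∈ (↑(g • R) : Subgroup G) ⊓ N := by
    refine ⟨?_, hNn.conj_mem _ x.2 g⟩
    rw [Sylow.coe_subgroup_smul]
    exact ⟨x, hR (Subgroup.mem_zpowers _), rfl⟩
  rw [e, Subgroup.mem_bot] at this
  have hx1 : (x : G) = 1 := by simpa using this
  rw [hx1, orderOf_one] at hxo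
  exact (Fact.out : p.Prime).ne_one hxo.symm

theorem SE.sup_pResidual_eq_top {H : Subgroup G} (hse : SE p H) (hpH : p ∣ Nat.card H) (N : Subgroup G) [N.Normal]
    (hN : p ∣ Nat.card N) : H ⊔ Subgroup.closure {g : G | g ∈ N ∧ (orderOf g).Coprime p} = ⊤ := by
  obtain ⟨S, hS⟩ := hse.exists_sylow_le hpH
  set L := Subgroup.closure {g : G | g ∈ N ∧ (orderOf g).Coprime p} with hL
  obtain ⟨T, hT⟩ := (show IsPGroup p (((S : Subgroup G) ⊓ N).subgroupOf N) from
    (S.isPGroup'.to_le inf_le_left).of_equiv (Subgroup.subgroupOfEquivOfLe inf_le_right).symm).exists_le_sylow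
  set T' := (T : Subgroup N).map N.subtype with hT'
  have hST : (S : Subgroup G) ⊓ N ≤ T' := fun x hx => ⟨⟨x, hx.2⟩, hT hx, rfl⟩
  have hTH : T' ≤ H := hse.pgroup_le (T.isPGroup'.map _) fun e =>
    inf_normal_ne_bot S N hN (le_bot_iff.mp (e ▸ le_inf hST (inf_le_left.trans hS)))
  have hTne : T' ≠ ⊥ := fun e => inf_normal_ne_bot S N hN (le_bot_iff.mp (e ▸ hST))
  have hfr : Subgroup.normalizer (T' : Set G) ⊔ N = ⊤ := T.normalizer_sup_eq_top
  have hNle : N ≤ H ⊔ L := by
    have h1 := congrArg (Subgroup.map N.subtype) (Fusion.sylow_sup_eq_top T (le_refl (Cfsg.pResidual p N)))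
    rw [← MonoidHom.range_eq_map, Subgroup.range_subtype, Subgroup.map_sup] at h1
    conv_lhs => rw [← h1]
    refine sup_le (hTH.trans le_sup_left) (le_trans ?_ le_sup_right)
    rw [Subgroup.map_le_iff_le_comap]
    exact Fusion.pResidual_le.mpr fun g hg => Subgroup.subset_closure ⟨g.2, by rwa [Subgroup.coe_subtype, Subgroup.orderOf_coe]⟩
  rw [eq_top_iff, ← hfr]
  exact sup_le ((hse.normalizer_le (T.isPGroup'.map _) hTne hTH).trans le_sup_left) hNle

section Graph

variable (p G) in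
/-- Adjacency in the Sylow intersection graph. -/
def SylowAdj (S T : Sylow p G) : Prop := S ≠ T ∧ (S : Subgroup G) ⊓ (T : Subgroup G) ≠ ⊥

theorem sylowAdj_smul {S T : Sylow p G} (h : SylowAdj G p S T) (g : G) : SylowAdj G p (g • S) (g • T) := by
  refine ⟨fun e => h.1 (smul_left_cancel g e), fun e => h.2 ?_⟩
  rw [Sylow.coe_subgroup_smul, Sylow.coe_subgroup_smul, Subgroup.eq_bot_iff_forall] at e
  rw [Subgroup.eq_bot_iff_forall]
  intro y hy
  have := e (g * y * g⁻¹) ⟨⟨y, hy.1, rfl⟩, ⟨y, hy.2, rfl⟩⟩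
  simpa using this

theorem connected_iff_reach : Cfsg.IsSylowChainConnected p G ↔
    ∀ S T : Sylow p G, Relation.ReflTransGen (SylowAdj G p) S T := by
  constructor
  · intro h S T
    obtain ⟨n, c, h0, hn, -, hs⟩ := h S T
    suffices ∀ i : Fin (n + 1), Relation.ReflTransGen (SylowAdj G p) S (c i) from hn ▸ this (Fin.last n)
    intro i
    induction i using Fin.induction with
    | zero => exact h0 ▸ Relation.ReflTransGen.refl
    | succ i ih => exact ih.tail (hs i)
  · intro h S T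
    by_cases hST : (S : Subgroup G) ⊓ (T : Subgroup G) = ⊥
    · have key : ∀ U, Relation.ReflTransGen (SylowAdj G p) S U → ∃ (n : ℕ) (c : Fin (n + 1) → Sylow p G),
          c 0 = S ∧ c (Fin.last n) = U ∧ ∀ i : Fin n, SylowAdj G p (c i.castSucc) (c i.succ) := by
        intro U hU
        induction hU with
        | refl => exact ⟨0, fun _ => S, rfl, rfl, fun i => i.elim0⟩
        | @tail A B _ hstep ih =>
          obtain ⟨n, c, h0, hn, hs⟩ := ih
          refine ⟨n + 1, Fin.snoc c B, ?_, Fin.snoc_last _ _, fun i => ?_⟩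
          · rw [← Fin.castSucc_zero, Fin.snoc_castSucc, h0]
          · induction i using Fin.lastCases with
            | last => rwa [Fin.snoc_castSucc, hn, Fin.succ_last, Fin.snoc_last]
            | cast j => rw [Fin.succ_castSucc, Fin.snoc_castSucc, Fin.snoc_castSucc]; exact hs j
      obtain ⟨n, c, h0, hn, hs⟩ := key T (h S T)
      exact ⟨n, c, h0, hn, fun i => hST ▸ bot_le, hs⟩
    · by_cases hne : S = T
      · subst hne
        exact ⟨0, fun _ => S, rfl, rfl, fun i => inf_le_left, fun i => i.elim0⟩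
      · refine ⟨1, ![S, T], rfl, rfl, fun i => ?_, fun i => ?_⟩
        · fin_cases i
          · exact inf_le_left
          · exact inf_le_right
        · fin_cases i
          exact ⟨hne, hST⟩

theorem reach_symm {S T : Sylow p G} (h : Relation.ReflTransGen (SylowAdj G p) S T) :
    Relation.ReflTransGen (SylowAdj G p) T S := by
  induction h with
  | refl => exact .refl
  | tail _ hs ih => exact Relation.ReflTransGen.head ⟨hs.1.symm, by rw [inf_comm]; exact hs.2⟩ ih

theorem exists_SE_of_not_connected (h : ¬ Cfsg.IsSylowChainConnected p G) :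
    ∃ H : Subgroup G, H ≠ ⊤ ∧ p ∣ Nat.card H ∧ SE p H := by
  rw [connected_iff_reach] at h
  simp only [not_forall] at h
  obtain ⟨S, T, hST⟩ := h
  set R := Relation.ReflTransGen (SylowAdj G p) with hR
  have hsmul : ∀ (g : G) {A B : Sylow p G}, R A B → R (g • A) (g • B) := fun g A B hAB =>
    hAB.lift (fun A => g • A) fun a b hab => sylowAdj_smul hab g
  let H : Subgroup G :=
    { carrier := {g | R S (g • S)}
      one_mem' := by
        show R S ((1 : G) • S)
        rw [one_smul]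
      mul_mem' := fun {a b} ha hb => by
        show R S ((a * b) • S)
        rw [mul_smul]
        exact Relation.ReflTransGen.trans ha (hsmul a hb)
      inv_mem' := fun {a} ha => by
        show R S (a⁻¹ • S)
        have := hsmul a⁻¹ (reach_symm ha)
        rwa [inv_smul_smul] at this }
  have hSH : (S : Subgroup G) ≤ H := fun s hs => by
    show R S (s • S)
    rw [Sylow.smul_eq_iff_mem_normalizer.mpr (Subgroup.le_normalizer hs)]
  have hSne : (S : Subgroup G) ≠ ⊥ := by
    intro e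
    obtain ⟨g, hg⟩ := MulAction.exists_smul_eq G S T
    apply hST
    have : T = S := by
      apply Sylow.ext
      rw [← hg, Sylow.coe_subgroup_smul, e]
      exact Subgroup.smul_bot _
    exact this ▸ Relation.ReflTransGen.refl
  obtain ⟨x₀, hx₀, hx₀p⟩ := exists_orderOf_eq_prime S.isPGroup' hSne
  refine ⟨H, fun e => ?_, hx₀p ▸ Subgroup.orderOf_dvd_natCard _ (hSH hx₀), fun g hg hdvd => hg ?_⟩
  · obtain ⟨g, hg⟩ := MulAction.exists_smul_eq G S T
    exact hST (hg ▸ (e ▸ Subgroup.mem_top g : g ∈ H))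
  -- every element of order `p` of `H` lies in a member of the component of `S`
  have hcomp : ∀ y ∈ H, orderOf y = p → ∃ A : Sylow p G, R S A ∧ y ∈ (A : Subgroup G) := by
    intro y hy hyp
    have hZ : IsPGroup p (Subgroup.zpowers (⟨y, hy⟩ : H)) :=
      IsPGroup.of_card (n := 1) (by rw [Nat.card_zpowers, Subgroup.orderOf_mk, hyp, pow_one])
    obtain ⟨P, hP⟩ := hZ.exists_le_sylow
    obtain ⟨h, hh⟩ := MulAction.exists_smul_eq H (S.subtype hSH) P
    refine ⟨(h : G) • S, h.2, ?_⟩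
    have hyP : (⟨y, hy⟩ : H) ∈ (P : Subgroup H) := hP (Subgroup.mem_zpowers _)
    rw [← hh, Sylow.coe_subgroup_smul, Sylow.coe_subtype] at hyP
    obtain ⟨z, hz, hzy⟩ := hyP
    rw [Sylow.coe_subgroup_smul]
    exact ⟨(z : G), hz, congrArg Subtype.val hzy⟩
  obtain ⟨w, hwo⟩ := exists_prime_orderOf_dvd_card' p hdvd
  rw [← Subgroup.orderOf_coe] at hwo
  obtain ⟨y, hy1, hy2⟩ := w
  have hyo : orderOf y = p := hwo
  obtain ⟨z, hz, hzy⟩ := hy2
  obtain ⟨A, hA, hyA⟩ := hcomp y hy1 hyo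
  have hyz : g * z * g⁻¹ = y := hzy
  obtain ⟨B, hB, hzB⟩ := hcomp z hz (by rw [← hyo, ← hyz]; exact ((MulAut.conj g).orderOf_eq z).symm)
  have hyB : y ∈ ((g • B : Sylow p G) : Subgroup G) := by
    rw [Sylow.coe_subgroup_smul]
    exact ⟨z, hzB, hyz⟩
  have hAB : R A (g • B) := by
    by_cases e : A = g • B
    · exact e ▸ Relation.ReflTransGen.refl
    · refine Relation.ReflTransGen.single ⟨e, fun eb => ?_⟩
      have : y ∈ (A : Subgroup G) ⊓ ((g • B : Sylow p G) : Subgroup G) := Subgroup.mem_inf.mpr ⟨hyA, hyB⟩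
      rw [eb] at this
      rw [Subgroup.mem_bot] at this
      rw [this, orderOf_one] at hyo
      exact (Fact.out : p.Prime).ne_one hyo.symm
  exact Relation.ReflTransGen.trans (Relation.ReflTransGen.trans hA hAB) (reach_symm (hsmul g hB))

theorem not_connected_of_SE {H : Subgroup G} (hH : H ≠ ⊤) (hpH : p ∣ Nat.card H) (hse : SE p H) :
    ¬ Cfsg.IsSylowChainConnected p G := by
  intro hconn
  rw [connected_iff_reach] at hconn
  obtain ⟨S, hS⟩ := hse.exists_sylow_le hpH
  have hall : ∀ T : Sylow p G, (T : Subgroup G) ≤ H := by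
    intro T
    have hU := hconn S T
    induction hU with
    | refl => exact hS
    | @tail A B _ hstep ih =>
      exact hse.pgroup_le B.isPGroup' fun e => hstep.2 (le_bot_iff.mp (e ▸ le_inf inf_le_right (inf_le_left.trans ih)))
  apply hH
  rw [eq_top_iff]
  intro g _
  have hSne : (S : Subgroup G) ≠ ⊥ := by
    intro e
    have h1 : p ∣ Nat.card G := hpH.trans (Subgroup.card_subgroup_dvd_card H)
    exact S.ne_bot_of_dvd_card h1 e
  obtain ⟨x, hx, hxp⟩ := exists_orderOf_eq_prime S.isPGroup' hSne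
  refine hse.mem_of_conj (hS hx) hxp (hall (g • S) ?_)
  rw [Sylow.coe_subgroup_smul]
  exact ⟨x, hx, rfl⟩

end Graph

end Cfsg.Agent.H62
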