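import Mathlib
import Cfsg.Agent.H30.Subnormal
import Cfsg.Agent.H60.MinNormalSubnormal
import Cfsg.Agent.S0542

/-!
A Sylow subgroup meets the join of two subnormal subgroups in the join of the intersections.
-/

set_option autoImplicit false
set_option linter.style.haveILetI false

namespace Cfsg.Agent.H62.SubnormalJoin

open Subgroup

universe u

variable {G H : Type*} [Group G] [Group H] {p : ℕ}

/-- `O^p`: generated by the elements of order prime to `p`. -/
def opA (p : ℕ) (A : Subgroup G) : Subgroup G := closure {x | x ∈ A ∧ (orderOf x).Coprime p}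

theorem mem_opA {A : Subgroup G} {x : G} (hx : x ∈ A) (h : (orderOf x).Coprime p) : x ∈ opA p A :=
  subset_closure ⟨hx, h⟩

theorem opA_le_iff {A K : Subgroup G} :
    opA p A ≤ K ↔ ∀ x ∈ A, (orderOf x).Coprime p → x ∈ K :=
  ⟨fun h _ hx hp => h (mem_opA hx hp), fun h => (closure_le K).2 fun x hx => h x hx.1 hx.2⟩

theorem opA_le (A : Subgroup G) : opA p A ≤ A := opA_le_iff.2 fun _ hx _ => hx

theorem opA_mono {A B : Subgroup G} (h : A ≤ B) : opA p A ≤ opA p B :=
  opA_le_iff.2 fun _ hx hp => mem_opA (h hx) hp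

theorem exists_pow_mem_opA [Finite G] [hp : Fact p.Prime] {A : Subgroup G} {x : G} (hx : x ∈ A) :
    ∃ i, x ^ (p ^ i) ∈ opA p A := by
  obtain ⟨a, m, hm, he⟩ := Nat.exists_eq_pow_mul_and_not_dvd (orderOf_pos x).ne' p hp.out.ne_one
  refine ⟨a, mem_opA (A.pow_mem hx _) ?_⟩
  have h1 : orderOf (x ^ (p ^ a)) ∣ m :=
    orderOf_dvd_of_pow_eq_one (by rw [← pow_mul, ← he, pow_orderOf_eq_one])
  exact (hp.out.coprime_iff_not_dvd.2 hm).symm.coprime_dvd_left h1

theorem map_opA [Finite G] [hp : Fact p.Prime] (f : G →* H) (A : Subgroup G) :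
    (opA p A).map f = opA p (A.map f) := by
  refine le_antisymm (map_le_iff_le_comap.2 (opA_le_iff.2 fun x hx hxp =>
    mem_opA (mem_map_of_mem f hx) (hxp.coprime_dvd_left (orderOf_map_dvd f x)))) (opA_le_iff.2 ?_)
  rintro _ ⟨a, ha, rfl⟩ hy
  obtain ⟨i, hi⟩ := exists_pow_mem_opA (p := p) ha
  obtain ⟨k, hk⟩ := exists_pow_eq_self_of_coprime (x := f a) (n := p ^ i) (hy.symm.pow_left i)
  refine ⟨(a ^ (p ^ i)) ^ k, (opA p A).pow_mem hi k, ?_⟩
  rw [map_pow, map_pow]
  exact hk

theorem opA_map_conj [Finite G] [Fact p.Prime] {A : Subgroup G} {g : G}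
    (hg : g ∈ normalizer (A : Set G)) : g ∈ normalizer (opA p A : Set G) := by
  rw [mem_normalizer_iff_map_conj_eq] at hg ⊢
  rw [map_opA, hg]

theorem normalizer_le_normalizer_opA [Finite G] [Fact p.Prime] (A : Subgroup G) :
    normalizer (A : Set G) ≤ normalizer (opA p A : Set G) :=
  fun _ hg => opA_map_conj hg

theorem opA_normal [Finite G] [Fact p.Prime] (A : Subgroup G) [hA : A.Normal] :
    (opA p A).Normal :=
  normalizer_eq_top_iff.1 (top_le_iff.1
    ((normalizer_eq_top_iff.2 hA).ge.trans (normalizer_le_normalizer_opA A)))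

theorem isSubnormal_opA [Finite G] [Fact p.Prime] {A : Subgroup G} (hA : A.IsSubnormal) :
    (opA p A).IsSubnormal :=
  .step _ A (opA_le A) hA ((normal_subgroupOf_iff_le_normalizer (opA_le A)).2
    (le_normalizer.trans (normalizer_le_normalizer_opA A)))

/-- A subnormal `K` contains the elements of `K ⊔ O` of order prime to `|O|`, for `O` normal. -/
theorem mem_of_subnormal_sup [Finite G] {K O : Subgroup G} (hK : K.IsSubnormal) [O.Normal] {x : G}
    (hc : (orderOf x).Coprime (Nat.card O)) (hx : x ∈ K ⊔ O) : x ∈ K := by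
  induction hK with
  | top => trivial
  | step A B hAB _ hn ih =>
    have hxB : x ∈ B := ih (sup_le_sup_right hAB O hx)
    obtain ⟨a, ha, o, ho, rfl⟩ := mem_sup_of_normal_right.1 hx
    have hoB : o ∈ B := by simpa using B.mul_mem (B.inv_mem (hAB ha)) hxB
    haveI := hn
    let f := QuotientGroup.mk' (A.subgroupOf B)
    have ha1 : f ⟨a, hAB ha⟩ = 1 := (QuotientGroup.eq_one_iff _).2 ha
    have h1 : f ⟨a * o, hxB⟩ = f ⟨o, hoB⟩ := by
      rw [show (⟨a * o, hxB⟩ : B) = ⟨a, hAB ha⟩ * ⟨o, hoB⟩ from rfl, map_mul, ha1, one_mul]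
    have h2 : orderOf (f ⟨a * o, hxB⟩) ∣ orderOf (a * o) :=
      (orderOf_map_dvd f _).trans (by rw [orderOf_mk])
    have h3 : orderOf (f ⟨a * o, hxB⟩) ∣ Nat.card O := by
      rw [h1]
      refine (orderOf_map_dvd f _).trans ?_
      rw [orderOf_mk, ← orderOf_mk o ho]
      exact orderOf_dvd_natCard _
    have h4 := orderOf_eq_one_iff.1 (Nat.eq_one_of_dvd_coprimes hc h2 h3)
    exact (QuotientGroup.eq_one_iff (N := A.subgroupOf B) _).1 h4

/-- A subgroup with all `p`-elements and all `p'`-elements of `A` contains `A`. -/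
theorem le_of_primary [Finite G] [hp : Fact p.Prime] {A K : Subgroup G}
    (h₁ : ∀ x ∈ A, (∃ a, orderOf x ∣ p ^ a) → x ∈ K)
    (h₂ : ∀ x ∈ A, (orderOf x).Coprime p → x ∈ K) : A ≤ K := by
  intro x hx
  obtain ⟨a, m, hm, he⟩ := Nat.exists_eq_pow_mul_and_not_dvd (orderOf_pos x).ne' p hp.out.ne_one
  have hc : Nat.Coprime (p ^ a) m := (hp.out.coprime_iff_not_dvd.2 hm).pow_left a
  have k1 : x ^ (p ^ a) ∈ K := h₂ _ (A.pow_mem hx _)
    ((hp.out.coprime_iff_not_dvd.2 hm).symm.coprime_dvd_left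
      (orderOf_dvd_of_pow_eq_one (by rw [← pow_mul, ← he, pow_orderOf_eq_one])))
  have k2 : x ^ m ∈ K := h₁ _ (A.pow_mem hx _)
    ⟨a, orderOf_dvd_of_pow_eq_one (by rw [← pow_mul, mul_comm, ← he, pow_orderOf_eq_one])⟩
  have h3 : (x : G) = (x ^ (p ^ a)) ^ (Nat.gcdA (p ^ a) m) * (x ^ m) ^ (Nat.gcdB (p ^ a) m) := by
    rw [← zpow_natCast, ← zpow_mul, ← zpow_natCast x m, ← zpow_mul, ← zpow_add,
      ← Nat.gcd_eq_gcd_ab, hc.gcd_eq_one, Nat.cast_one, zpow_one]
  rw [h3]
  exact K.mul_mem (K.zpow_mem k1 _) (K.zpow_mem k2 _)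

/-- A subnormal `p`-subgroup lies in every Sylow `p`-subgroup. -/
theorem isPGroup_subnormal_le [Finite G] [Fact p.Prime] {A : Subgroup G} (hA : A.IsSubnormal)
    (hp : IsPGroup p A) (S : Sylow p G) : A ≤ S := by
  obtain ⟨Q, hQ⟩ := S0542.result p A hA S
  have h : ((⊤ : Subgroup A)) = (Q : Subgroup A) := Q.is_maximal' (hp.to_subgroup ⊤) le_top
  rw [hQ] at h
  exact subgroupOf_eq_top.1 h.symm

/-- If `p`-powers of subnormal `X`, `Y` fall in the normal `L`, so do those of `X ⊔ Y`. -/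
theorem exists_pow_mem_sup [Finite G] [Fact p.Prime] {L X Y : Subgroup G} [L.Normal]
    (hX : X.IsSubnormal) (hY : Y.IsSubnormal) (h1 : ∀ x ∈ X, ∃ i, x ^ (p ^ i) ∈ L)
    (h2 : ∀ x ∈ Y, ∃ i, x ^ (p ^ i) ∈ L) {x : G} (hx : x ∈ X ⊔ Y) : ∃ i, x ^ (p ^ i) ∈ L := by
  set f := QuotientGroup.mk' L with hf
  obtain ⟨S⟩ := Sylow.nonempty (p := p) (G := G ⧸ L)
  have key : ∀ Z : Subgroup G, Z.IsSubnormal → (∀ z ∈ Z, ∃ i, z ^ (p ^ i) ∈ L) →
      Z.map f ≤ (S : Subgroup (G ⧸ L)) := by
    intro Z hZ hz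
    refine isPGroup_subnormal_le (hZ.map (QuotientGroup.mk'_surjective L)) ?_ S
    rintro ⟨_, z, hzZ, rfl⟩
    obtain ⟨i, hi⟩ := hz z hzZ
    refine ⟨i, Subtype.ext ?_⟩
    rw [SubmonoidClass.coe_pow, OneMemClass.coe_one, ← map_pow]
    exact (QuotientGroup.eq_one_iff _).2 hi
  have hxS : f x ∈ (S : Subgroup (G ⧸ L)) :=
    sup_le (key X hX h1) (key Y hY h2) (by rw [← Subgroup.map_sup]; exact mem_map_of_mem f hx)
  obtain ⟨i, hi⟩ := S.isPGroup' ⟨_, hxS⟩
  refine ⟨i, (QuotientGroup.eq_one_iff (N := L) _).1 ?_⟩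
  have := congrArg Subtype.val hi
  rw [SubmonoidClass.coe_pow, OneMemClass.coe_one, ← map_pow] at this
  exact this

/-- An element of order prime to `p` with a `p`-power in `L` is in `L`. -/
theorem mem_of_pow_mem {L : Subgroup G} {x : G} (hx : (orderOf x).Coprime p) {i : ℕ}
    (h : x ^ (p ^ i) ∈ L) : x ∈ L := by
  obtain ⟨k, hk⟩ := exists_pow_eq_self_of_coprime (x := x) (n := p ^ i) (hx.symm.pow_left i)
  rw [← hk]; exact L.pow_mem h k

/-- Normal subgroups with join everything: the `p'`-elements lie in the join of the `O^p`'s. -/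
theorem opA_top_le_of_normal [Finite G] [Fact p.Prime] {X Y : Subgroup G} [X.Normal] [Y.Normal]
    (h : X ⊔ Y = ⊤) : opA p (⊤ : Subgroup G) ≤ opA p X ⊔ opA p Y := by
  haveI := opA_normal (p := p) X
  haveI := opA_normal (p := p) Y
  refine opA_le_iff.2 fun x _ hx => ?_
  obtain ⟨i, hi⟩ := exists_pow_mem_sup (p := p) (L := opA p X ⊔ opA p Y) (X := X) (Y := Y)
    (Normal.isSubnormal inferInstance) (Normal.isSubnormal inferInstance)
    (fun x hx => (exists_pow_mem_opA hx).imp fun _ hi => mem_sup_left hi)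
    (fun x hx => (exists_pow_mem_opA hx).imp fun _ hi => mem_sup_right hi)
    (show x ∈ X ⊔ Y by rw [h]; trivial)
  exact mem_of_pow_mem hx hi

/-- A `p`-element of a subnormal `A` fixes the homomorphisms `K → V` killing `A ∩ K`. -/
theorem hom_conj_invariant {K : Subgroup G} [K.Normal] {V : Type*} [Group V]
    (hcomm : ∀ a b : V, a * b = b * a) {q : ℕ} (hq : ∀ v : V, v ^ q = 1) {s : G}
    (hs : (orderOf s).Coprime q) :
    ∀ A : Subgroup G, A.IsSubnormal → s ∈ A → ∀ η : K →* V, (∀ x : K, (x : G) ∈ A → η x = 1) →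
      ∀ x : K, η (MulAut.conjNormal s x) = η x := by
  intro A hA
  induction hA with
  | top => intro _ η hη x; rw [hη _ trivial, hη _ trivial]
  | step A B hAB _ hn ih =>
    intro hsA η hη
    set c : MulAut K := MulAut.conjNormal s with hc
    let η' : K →* V := MonoidHom.mk' (fun x => η (c x) * (η x)⁻¹) (fun x y => by
      rw [map_mul, map_mul, map_mul, mul_inv_rev, mul_assoc, mul_assoc]
      congr 1
      rw [← mul_assoc]
      exact hcomm _ _)
    have h' : ∀ x : K, (x : G) ∈ B → η' x = 1 := by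
      intro x hx
      show η (c x) * (η x)⁻¹ = 1
      rw [← map_inv, ← map_mul]
      refine hη _ ?_
      show s * (x : G) * s⁻¹ * (x : G)⁻¹ ∈ A
      have h1 : (⟨x, hx⟩ : B) * (⟨s, hAB hsA⟩ : B)⁻¹ * (⟨x, hx⟩ : B)⁻¹ ∈ A.subgroupOf B :=
        hn.conj_mem _ (inv_mem (show (⟨s, hAB hsA⟩ : B) ∈ A.subgroupOf B from hsA)) _
      have h2 : (x : G) * s⁻¹ * (x : G)⁻¹ ∈ A := h1
      simpa [mul_assoc] using A.mul_mem hsA h2
    have hinv := ih (hAB hsA) η' h'
    have hit : ∀ (n : ℕ) (x : K), η ((c ^ n) x) = η' x ^ n * η x := by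
      intro n
      induction n with
      | zero => intro x; simp
      | succ n ihn =>
        intro x
        rw [pow_succ, MulAut.mul_apply, ihn, hinv x, pow_succ, mul_assoc]
        show _ = η' x ^ n * (η (c x) * (η x)⁻¹ * η x)
        rw [inv_mul_cancel_right]
    intro x
    have h1 := hit (orderOf s) x
    have h2 : c ^ (orderOf s) = 1 := by rw [hc, ← map_pow, pow_orderOf_eq_one, map_one]
    rw [h2, MulAut.one_apply, eq_comm, mul_eq_right] at h1
    have h3 : η' x = 1 := orderOf_eq_one_iff.1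
      (Nat.eq_one_of_dvd_coprimes hs (orderOf_dvd_of_pow_eq_one h1) (orderOf_dvd_of_pow_eq_one (hq _)))
    exact mul_inv_eq_one.1 h3

theorem card_quotient_lt [Finite G] (N : Subgroup G) [N.Normal] (hN : N ≠ ⊥) :
    Nat.card (G ⧸ N) < Nat.card G := by
  rw [card_eq_card_quotient_mul_card_subgroup N]
  exact lt_mul_of_one_lt_right Nat.card_pos (one_lt_card_iff_ne_bot N |>.2 hN)

theorem exists_isMinNormal [Finite G] [Nontrivial G] : ∃ N : Subgroup G, H60.IsMinNormal N := by
  obtain ⟨K, -, hK⟩ := Finite.exists_le_minimal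
    (p := fun K : Subgroup G => K.Normal ∧ K ≠ ⊥) (a := (⊤ : Subgroup G)) ⟨inferInstance, top_ne_bot⟩
  exact ⟨K, hK.1.1, hK.1.2, fun L h1 h2 h3 => le_antisymm h2 (hK.2 ⟨h1, h3⟩ h2)⟩

/-- For a minimal normal `N` and `A ⊔ B = ⊤` subnormal, `(A ∩ N) ⊔ (B ∩ N)` is normal. -/
theorem inf_sup_inf_normal [Finite G] {A B N : Subgroup G} (hA : A.IsSubnormal)
    (hB : B.IsSubnormal) (hAB : A ⊔ B = ⊤) (hN : H60.IsMinNormal N) :
    ((A ⊓ N) ⊔ (B ⊓ N)).Normal := by
  haveI := hN.1
  have key : ∀ X Y : Subgroup G, X.IsSubnormal → ∀ a ∈ X, ∀ y ∈ (X ⊓ N) ⊔ (Y ⊓ N),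
      a * y * a⁻¹ ∈ (X ⊓ N) ⊔ (Y ⊓ N) := by
    intro X Y hX a ha y hy
    have hle : (X ⊓ N) ⊔ (Y ⊓ N) ≤
        ((X ⊓ N) ⊔ (Y ⊓ N)).comap (MulAut.conj a).toMonoidHom := by
      refine sup_le ?_ ?_
      · intro z hz
        show a * z * a⁻¹ ∈ (X ⊓ N) ⊔ (Y ⊓ N)
        exact mem_sup_left (show a * z * a⁻¹ ∈ X ⊓ N from
          mem_inf.2 ⟨X.mul_mem (X.mul_mem ha (mem_inf.1 hz).1) (X.inv_mem ha),
            hN.1.conj_mem _ (mem_inf.1 hz).2 _⟩)
      intro z hz
      show a * z * a⁻¹ ∈ (X ⊓ N) ⊔ (Y ⊓ N)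
      have hz' : z ∈ normalizer (X : Set G) := H60.minNormal_le_normalizer hN hX hz.2
      have h1 : z * a⁻¹ * z⁻¹ ∈ X := (mem_normalizer_iff.1 hz' _).1 (X.inv_mem ha)
      have h2 : a * z * a⁻¹ * z⁻¹ ∈ X ⊓ N :=
        ⟨by simpa [mul_assoc] using X.mul_mem ha h1,
          N.mul_mem (hN.1.conj_mem _ hz.2 _) (N.inv_mem hz.2)⟩
      have h3 : a * z * a⁻¹ * z⁻¹ * z ∈ (X ⊓ N) ⊔ (Y ⊓ N) :=
        mul_mem (mem_sup_left h2) (mem_sup_right hz)
      simpa [mul_assoc] using h3
    exact hle hy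
  refine normalizer_eq_top_iff.1 (top_le_iff.1 (hAB ▸ sup_le ?_ ?_))
  · refine fun a ha => mem_normalizer_iff.2 fun y => ⟨key A B hA a ha y, fun h => ?_⟩
    simpa [mul_assoc] using key A B hA a⁻¹ (A.inv_mem ha) _ h
  · rw [sup_comm]
    refine fun a ha => mem_normalizer_iff.2 fun y => ⟨key B A hB a ha y, fun h => ?_⟩
    simpa [mul_assoc] using key B A hB a⁻¹ (B.inv_mem ha) _ h

/-- If `N` meets `A` and `B` trivially it is central. -/
theorem minNormal_le_center [Finite G] {A B N : Subgroup G} (hA : A.IsSubnormal)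
    (hB : B.IsSubnormal) (hAB : A ⊔ B = ⊤) (hN : H60.IsMinNormal N)
    (h1 : A ⊓ N = ⊥) (h2 : B ⊓ N = ⊥) : N ≤ center G := by
  intro z hz
  have key : ∀ X : Subgroup G, X.IsSubnormal → X ⊓ N = ⊥ → X ≤ centralizer ({z} : Set G) := by
    intro X hX hXN a ha
    have hz' : z ∈ normalizer (X : Set G) := H60.minNormal_le_normalizer hN hX hz
    have h3 : a * z * a⁻¹ * z⁻¹ ∈ X ⊓ N :=
      ⟨by simpa [mul_assoc] using X.mul_mem ha ((mem_normalizer_iff.1 hz' _).1 (X.inv_mem ha)),
        N.mul_mem (hN.1.conj_mem _ hz _) (N.inv_mem hz)⟩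
    rw [hXN, mem_bot, mul_inv_eq_one, mul_inv_eq_iff_eq_mul] at h3
    exact mem_centralizer_singleton_iff.2 h3
  refine mem_center_iff.2 fun g => ?_
  exact mem_centralizer_singleton_iff.1
    ((hAB ▸ sup_le (key A hA h1) (key B hB h2) : (⊤ : Subgroup G) ≤ _) (mem_top g))

theorem prime_card_of_central [Finite G] {N : Subgroup G} (hN : H60.IsMinNormal N)
    (hc : N ≤ center G) : (Nat.card N).Prime := by
  have hne : Nat.card N ≠ 1 := fun h => hN.2.1 (eq_bot_of_card_eq N h)
  obtain ⟨q, hq, hqd⟩ := Nat.exists_prime_and_dvd hne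
  haveI := Fact.mk hq
  obtain ⟨z, hz⟩ := exists_prime_orderOf_dvd_card' q hqd
  have hzc : (zpowers (z : G)).Normal := ⟨fun a ha g => by
    have : a ∈ center G := hc ((zpowers_le.2 z.2) ha)
    rw [mem_center_iff.1 this g, mul_inv_cancel_right]; exact ha⟩
  have he : zpowers (z : G) = N := hN.2.2 _ hzc (zpowers_le.2 z.2) (fun h => hq.ne_one (by
    rw [← hz, orderOf_eq_one_iff]; exact Subtype.ext (zpowers_eq_bot.1 h)))
  rw [← he, Nat.card_zpowers, orderOf_coe, hz]
  exact hq

/-- Wielandt: `O^p` of a join of two subnormal subgroups. -/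
theorem opA_top_aux : ∀ (n : ℕ) (G : Type u) [Group G] [Finite G], Nat.card G ≤ n →
    ∀ (p : ℕ) [Fact p.Prime] (A B : Subgroup G), A.IsSubnormal → B.IsSubnormal → A ⊔ B = ⊤ →
      opA p (⊤ : Subgroup G) ≤ opA p A ⊔ opA p B := by
  intro n
  induction n with
  | zero => intro G _ _ hc; exact absurd hc (Nat.not_le.2 Nat.card_pos)
  | succ n ih =>
    intro G _ _ hc p hp A B hA hB hAB
    rcases subsingleton_or_nontrivial G with hs | hs
    · intro x _; rw [Subsingleton.elim x 1]; exact one_mem _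
    obtain ⟨N, hN⟩ := exists_isMinNormal (G := G)
    haveI := hN.1
    set L := opA p A ⊔ opA p B with hL
    set f := QuotientGroup.mk' N with hf
    have hfs : Function.Surjective f := QuotientGroup.mk'_surjective N
    have hq := ih (G ⧸ N) (by have := card_quotient_lt N hN.2.1; omega) p (A.map f) (B.map f)
      (hA.map hfs) (hB.map hfs) (by rw [← Subgroup.map_sup, hAB, map_top_of_surjective f hfs])
    rw [← map_opA, ← map_opA, ← Subgroup.map_sup, ← map_top_of_surjective f hfs, ← map_opA,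
      map_le_iff_le_comap, comap_map_eq, QuotientGroup.ker_mk'] at hq
    by_cases hNL : N ≤ L
    · exact hq.trans (sup_le le_rfl hNL)
    have hLs : L.IsSubnormal := H30.isSubnormal_sup (isSubnormal_opA hA) (isSubnormal_opA hB)
    by_cases hNp : IsPGroup p N
    · obtain ⟨k, hk⟩ := hNp.exists_card_eq
      exact opA_le_iff.2 fun x hx hxp => mem_of_subnormal_sup hLs
        (by rw [hk]; exact hxp.pow_right k) (hq (mem_opA hx hxp))
    haveI hP := inf_sup_inf_normal hA hB hAB hN
    by_cases hP0 : (A ⊓ N) ⊔ (B ⊓ N) = ⊥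
    · rw [sup_eq_bot_iff] at hP0
      have hcen := minNormal_le_center hA hB hAB hN hP0.1 hP0.2
      have hqp := prime_card_of_central hN hcen
      set q := Nat.card N with hq'
      have hne : q ≠ p := fun h => hNp (IsPGroup.of_card (n := 1) (by rw [pow_one, ← h]))
      set K := opA p (⊤ : Subgroup G) with hK
      haveI : K.Normal := opA_normal ⊤
      have hNK : N ≤ K := fun z hz => mem_opA trivial
        (((Nat.coprime_primes hqp hp.out).2 hne).coprime_dvd_left
          (by rw [← orderOf_mk z hz]; exact orderOf_dvd_natCard _))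
      have hLK : L ≤ K := sup_le (opA_mono le_top) (opA_mono le_top)
      have hnorm : K ≤ normalizer (L : Set G) := hq.trans (sup_le le_normalizer
        (hcen.trans (center_le_normalizer _)))
      haveI hLn : (L.subgroupOf K).Normal := (normal_subgroupOf_iff_le_normalizer hLK).2 hnorm
      set π := QuotientGroup.mk' (L.subgroupOf K) with hπ
      have hπ1 : ∀ x : K, π x = 1 ↔ (x : G) ∈ L :=
        fun x => QuotientGroup.eq_one_iff (N := L.subgroupOf K) x
      have hrep : ∀ v, ∃ z : K, (z : G) ∈ N ∧ π z = v := by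
        intro v
        obtain ⟨x, rfl⟩ := QuotientGroup.mk'_surjective _ v
        obtain ⟨l, hl, z, hz, hlz⟩ := mem_sup_of_normal_right.1 (hq x.2)
        refine ⟨⟨z, hNK hz⟩, hz, ?_⟩
        have h1 : x = (⟨l, hLK hl⟩ : K) * ⟨z, hNK hz⟩ := Subtype.ext hlz.symm
        rw [h1, map_mul, show QuotientGroup.mk' (L.subgroupOf K) (⟨l, hLK hl⟩ : K) = 1 from
          (hπ1 ⟨l, hLK hl⟩).2 hl, one_mul]
      have hcomm : ∀ a b : K ⧸ L.subgroupOf K, a * b = b * a := by
        intro a b
        obtain ⟨z, hz, rfl⟩ := hrep a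
        obtain ⟨w, -, rfl⟩ := hrep b
        rw [← map_mul, ← map_mul]
        exact congrArg π (Subtype.ext (mem_center_iff.1 (hcen hz) w).symm)
      have hexp : ∀ v : K ⧸ L.subgroupOf K, v ^ q = 1 := by
        intro v
        obtain ⟨z, hz, rfl⟩ := hrep v
        rw [← map_pow]
        have : z ^ q = 1 := Subtype.ext (by
          rw [SubmonoidClass.coe_pow, OneMemClass.coe_one]
          exact orderOf_dvd_iff_pow_eq_one.1 (by rw [← orderOf_mk _ hz]; exact orderOf_dvd_natCard _))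
        rw [this, map_one]
      have key : ∀ X : Subgroup G, X.IsSubnormal → opA p X ≤ L →
          X ≤ normalizer (L : Set G) := by
        intro X hX hXL
        refine le_of_primary (p := p) (fun s hs hsp => ?_)
          (fun s hs hsp => le_normalizer (hXL (mem_opA hs hsp)))
        obtain ⟨a, ha⟩ := hsp
        have hsq : (orderOf s).Coprime q :=
          (((Nat.coprime_primes hp.out hqp).2 hne.symm).pow_left a).coprime_dvd_left ha
        have hkill : ∀ x : K, (x : G) ∈ X → π x = 1 := by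
          intro x hx
          obtain ⟨i, hi⟩ := exists_pow_mem_opA (p := p) hx
          have h1 : π x ^ (p ^ i) = 1 := by
            rw [← map_pow]; exact (QuotientGroup.eq_one_iff (N := L.subgroupOf K) _).2 (hXL hi)
          exact orderOf_eq_one_iff.1 (Nat.eq_one_of_dvd_coprimes
            (((Nat.coprime_primes hp.out hqp).2 hne.symm).pow_left i)
            (orderOf_dvd_of_pow_eq_one h1) (orderOf_dvd_of_pow_eq_one (hexp _)))
        have hinv := hom_conj_invariant hcomm hexp hsq X hX hs π hkill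
        refine mem_normalizer_iff.2 fun y => ?_
        constructor
        · intro hy
          have h := hinv ⟨y, hLK hy⟩
          rw [(hπ1 ⟨y, hLK hy⟩).2 hy] at h
          exact (hπ1 _).1 h
        · intro hy
          have hyK : y ∈ K := by
            have := ‹K.Normal›.conj_mem _ (hLK hy) s⁻¹
            simpa [mul_assoc] using this
          have h := hinv ⟨y, hyK⟩
          rw [(hπ1 (MulAut.conjNormal s (⟨y, hyK⟩ : K))).2 hy] at h
          exact (hπ1 ⟨y, hyK⟩).1 h.symm
      haveI : L.Normal := normalizer_eq_top_iff.1 (top_le_iff.1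
        (hAB ▸ sup_le (key A hA le_sup_left) (key B hB le_sup_right)))
      refine opA_le_iff.2 fun x _ hxp => ?_
      obtain ⟨i, hi⟩ := exists_pow_mem_sup (p := p) (L := L) hA hB
        (fun x hx => (exists_pow_mem_opA hx).imp fun _ hi => mem_sup_left hi)
        (fun x hx => (exists_pow_mem_opA hx).imp fun _ hi => mem_sup_right hi)
        (show x ∈ A ⊔ B by rw [hAB]; trivial)
      exact mem_of_pow_mem hxp hi
    · exfalso
      apply hNL
      have hPN : (A ⊓ N) ⊔ (B ⊓ N) = N := hN.2.2 _ hP (sup_le inf_le_right inf_le_right) hP0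
      have hNn : ∀ X : Subgroup G, X.IsSubnormal → (X.subgroupOf N).Normal := fun X hX => by
        rw [← inf_subgroupOf_right]
        refine (normal_subgroupOf_iff_le_normalizer inf_le_right).2 ?_
        exact fun z hz => inf_normalizer_le_normalizer_inf
          ⟨H60.minNormal_le_normalizer hN hX hz, le_normalizer hz⟩
      haveI := hNn A hA
      haveI := hNn B hB
      have h1 := opA_top_le_of_normal (p := p) (X := A.subgroupOf N) (Y := B.subgroupOf N) (by
        rw [← inf_subgroupOf_right A, ← inf_subgroupOf_right B,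
          ← subgroupOf_sup inf_le_right inf_le_right, hPN, subgroupOf_self])
      have h2 := map_mono (f := N.subtype) h1
      rw [Subgroup.map_sup, map_opA, map_opA, map_opA, ← MonoidHom.range_eq_map,
        range_subtype, subgroupOf_map_subtype, subgroupOf_map_subtype] at h2
      have h3 : opA p N = N := by
        refine hN.2.2 _ (opA_normal N) (opA_le N) fun hbot => hNp ?_
        intro z
        obtain ⟨i, hi⟩ := exists_pow_mem_opA (p := p) z.2
        rw [hbot, mem_bot] at hi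
        exact ⟨i, Subtype.ext (by simpa using hi)⟩
      rw [h3] at h2
      exact h2.trans (sup_le ((opA_mono inf_le_left).trans le_sup_left)
        ((opA_mono inf_le_left).trans le_sup_right))

/-- A surjection maps `A ∩ S` onto the intersection of the images, for `A` subnormal. -/
theorem map_inf_sylow [Finite G] [Finite H] [Fact p.Prime] (f : G →* H) (S : Sylow p G)
    {A : Subgroup G} (hA : A.IsSubnormal) :
    A.map f ⊓ (S : Subgroup G).map f ≤ (A ⊓ (S : Subgroup G)).map f := by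
  obtain ⟨Q, hQ⟩ := S0542.result p A hA S
  set g := f.subgroupMap A with hg
  have hgs : Function.Surjective g := f.subgroupMap_surjective A
  set Q' := Q.mapSurjective hgs with hQ'
  have hle : (Q' : Subgroup (A.map f)) ≤ ((S : Subgroup G).map f).subgroupOf (A.map f) := by
    rw [hQ', Sylow.coe_mapSurjective, hQ]
    rintro _ ⟨a, ha, rfl⟩
    exact mem_map_of_mem f ha
  have heq := Q'.is_maximal' ((S.isPGroup'.map f).comap_of_injective (A.map f).subtype
    (A.map f).subtype_injective) hle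
  intro y hy
  have hy' : (⟨y, hy.1⟩ : A.map f) ∈ ((S : Subgroup G).map f).subgroupOf (A.map f) := hy.2
  have hy'' : (⟨y, hy.1⟩ : A.map f) ∈ (Q' : Subgroup (A.map f)) := (SetLike.ext_iff.1 heq _).1 hy'
  rw [hQ', Sylow.coe_mapSurjective, hQ] at hy''
  obtain ⟨a, ha, hay⟩ := hy''
  exact ⟨a, ⟨a.2, ha⟩, congrArg Subtype.val hay⟩

theorem sylow_le_of_normal [Finite G] [Fact p.Prime] {X Y : Subgroup G} [X.Normal] [hY : Y.Normal]
    (h : X ⊔ Y = ⊤) (S : Sylow p G) :
    (S : Subgroup G) ≤ (X ⊓ (S : Subgroup G)) ⊔ (Y ⊓ (S : Subgroup G)) := by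
  set f := QuotientGroup.mk' X with hf
  intro s hs
  have hfs : f s ∈ Y.map f := by
    obtain ⟨x, hx, y, hy, rfl⟩ := mem_sup_of_normal_left.1 (show s ∈ X ⊔ Y by rw [h]; trivial)
    exact ⟨y, hy, by rw [map_mul, show f x = 1 from (QuotientGroup.eq_one_iff _).2 hx, one_mul]⟩
  obtain ⟨y, hy, hys⟩ := map_inf_sylow f S hY.isSubnormal ⟨hfs, mem_map_of_mem f hs⟩
  have h1 : s * y⁻¹ ∈ X := (QuotientGroup.eq_one_iff (N := X) _).1 (by
    show f (s * y⁻¹) = 1
    rw [map_mul, map_inv, hys, mul_inv_cancel])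
  have h2 := mul_mem (mem_sup_left (T := Y ⊓ (S : Subgroup G))
    (show s * y⁻¹ ∈ X ⊓ (S : Subgroup G) from
      ⟨h1, (S : Subgroup G).mul_mem hs ((S : Subgroup G).inv_mem hy.2)⟩))
    (mem_sup_right (S := X ⊓ (S : Subgroup G)) hy)
  simpa using h2

/-- The main induction. -/
theorem sylow_le_aux : ∀ (n : ℕ) (G : Type u) [Group G] [Finite G], Nat.card G ≤ n →
    ∀ (p : ℕ) [Fact p.Prime] (A B : Subgroup G), A.IsSubnormal → B.IsSubnormal → A ⊔ B = ⊤ →
      ∀ S : Sylow p G, (S : Subgroup G) ≤ (A ⊓ (S : Subgroup G)) ⊔ (B ⊓ (S : Subgroup G)) := by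
  intro n
  induction n with
  | zero => intro G _ _ hc; exact absurd hc (Nat.not_le.2 Nat.card_pos)
  | succ n ih =>
    intro G _ _ hc p hp A B hA hB hAB S
    rcases subsingleton_or_nontrivial G with hs | hs
    · intro x _; rw [Subsingleton.elim x 1]; exact one_mem _
    obtain ⟨N, hN⟩ := exists_isMinNormal (G := G)
    haveI := hN.1
    set T := (A ⊓ (S : Subgroup G)) ⊔ (B ⊓ (S : Subgroup G)) with hT
    have hTS : T ≤ S := sup_le inf_le_right inf_le_right
    set f := QuotientGroup.mk' N with hf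
    have hfs : Function.Surjective f := QuotientGroup.mk'_surjective N
    have hq := ih (G ⧸ N) (by have := card_quotient_lt N hN.2.1; omega) p (A.map f) (B.map f)
      (hA.map hfs) (hB.map hfs) (by rw [← Subgroup.map_sup, hAB, map_top_of_surjective f hfs])
      (S.mapSurjective hfs)
    rw [Sylow.coe_mapSurjective] at hq
    have hq2 : (S : Subgroup G).map f ≤ T.map f := hq.trans (by
      rw [hT, Subgroup.map_sup]
      exact sup_le_sup (map_inf_sylow f S hA) (map_inf_sylow f S hB))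
    rw [map_le_iff_le_comap, comap_map_eq, QuotientGroup.ker_mk'] at hq2
    suffices hSN : (S : Subgroup G) ⊓ N ≤ T by
      intro s hs
      obtain ⟨t, ht, z, hz, rfl⟩ := mem_sup_of_normal_right.1 (hq2 hs)
      have hzS : z ∈ (S : Subgroup G) := by
        simpa using (S : Subgroup G).mul_mem ((S : Subgroup G).inv_mem (hTS ht)) hs
      exact T.mul_mem ht (hSN ⟨hzS, hz⟩)
    haveI hP := inf_sup_inf_normal hA hB hAB hN
    by_cases hP0 : (A ⊓ N) ⊔ (B ⊓ N) = ⊥
    swap
    · have hPN : (A ⊓ N) ⊔ (B ⊓ N) = N := hN.2.2 _ hP (sup_le inf_le_right inf_le_right) hP0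
      have hNn : ∀ X : Subgroup G, X.IsSubnormal → (X.subgroupOf N).Normal := fun X hX => by
        rw [← inf_subgroupOf_right]
        refine (normal_subgroupOf_iff_le_normalizer inf_le_right).2 ?_
        exact fun z hz => inf_normalizer_le_normalizer_inf
          ⟨H60.minNormal_le_normalizer hN hX hz, le_normalizer hz⟩
      haveI := hNn A hA
      haveI := hNn B hB
      obtain ⟨Q, hQ⟩ := S0542.result p N hN.1.isSubnormal S
      have h1 := sylow_le_of_normal (X := A.subgroupOf N) (Y := B.subgroupOf N) (by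
        rw [← inf_subgroupOf_right A, ← inf_subgroupOf_right B,
          ← subgroupOf_sup inf_le_right inf_le_right, hPN, subgroupOf_self]) Q
      have h2 := map_mono (f := N.subtype) h1
      rw [hQ, Subgroup.map_sup, subgroupOf_map_subtype] at h2
      refine h2.trans (sup_le ?_ ?_)
      · rintro _ ⟨z, hz, rfl⟩; exact mem_sup_left ⟨hz.1, hz.2⟩
      · rintro _ ⟨z, hz, rfl⟩; exact mem_sup_right ⟨hz.1, hz.2⟩
    rw [sup_eq_bot_iff] at hP0
    have hcen := minNormal_le_center hA hB hAB hN hP0.1 hP0.2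
    have hqp := prime_card_of_central hN hcen
    set q := Nat.card N with hq'
    by_cases hne : q = p
    swap
    · intro z hz
      obtain ⟨k, hk⟩ := S.isPGroup' ⟨z, hz.1⟩
      have h1 : orderOf z ∣ p ^ k := orderOf_dvd_of_pow_eq_one (by simpa using congrArg Subtype.val hk)
      have h2 : orderOf z ∣ q := by rw [← orderOf_mk z hz.2]; exact orderOf_dvd_natCard _
      rw [orderOf_eq_one_iff.1 (Nat.eq_one_of_dvd_coprimes
        (((Nat.coprime_primes hp.out hqp).2 (Ne.symm hne)).pow_left k) h1 h2)]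
      exact one_mem _
    set L := opA p A ⊔ opA p B with hL
    have hLeq : L = opA p ⊤ := le_antisymm (sup_le (opA_mono le_top) (opA_mono le_top))
      (opA_top_aux _ G le_rfl p A B hA hB hAB)
    haveI hLn : L.Normal := hLeq ▸ opA_normal ⊤
    by_cases hLt : L = ⊤
    swap
    · -- `G = T L`, and induction applies to `L`
      have hcov : ∀ X : Subgroup G, X.IsSubnormal → opA p X ≤ L → X ⊓ (S : Subgroup G) ≤ T →
          X ≤ T ⊔ L := by
        intro X hX hXL hXT
        obtain ⟨Q, hQ⟩ := S0542.result p X hX S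
        set g := QuotientGroup.mk' (L.subgroupOf X) with hg
        have hgs := QuotientGroup.mk'_surjective (L.subgroupOf X)
        have hpg : IsPGroup p (⊤ : Subgroup (X ⧸ L.subgroupOf X)) := by
          rintro ⟨v, -⟩
          obtain ⟨x, rfl⟩ := hgs v
          obtain ⟨i, hi⟩ := exists_pow_mem_opA (p := p) x.2
          refine ⟨i, Subtype.ext ?_⟩
          rw [SubmonoidClass.coe_pow, OneMemClass.coe_one, ← map_pow]
          exact (QuotientGroup.eq_one_iff (N := L.subgroupOf X) _).2 (hXL hi)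
        have htop := (Q.mapSurjective hgs).is_maximal' hpg le_top
        rw [Sylow.coe_mapSurjective] at htop
        intro x hx
        obtain ⟨y, hy, hyx⟩ : g ⟨x, hx⟩ ∈ (Q : Subgroup X).map g := htop ▸ mem_top _
        have h1 : y⁻¹ * (⟨x, hx⟩ : X) ∈ L.subgroupOf X :=
          (QuotientGroup.eq (s := L.subgroupOf X)).1 hyx
        rw [hQ] at hy
        have h2 := mul_mem (mem_sup_left (T := L) (hXT ⟨y.2, hy⟩))
          (mem_sup_right (S := T) (show (y : G)⁻¹ * x ∈ L from h1))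
        simpa using h2
      have htop : T ⊔ L = ⊤ := top_le_iff.1 (hAB ▸ sup_le (hcov A hA le_sup_left le_sup_left)
        (hcov B hB le_sup_right le_sup_right))
      have hcard : Nat.card L ≤ n := by
        have h1 : Nat.card L ≠ Nat.card G := fun h => hLt (eq_top_of_card_eq L h)
        have := Nat.lt_of_le_of_ne (Nat.le_of_dvd Nat.card_pos (card_subgroup_dvd_card L)) h1
        omega
      obtain ⟨Q, hQ⟩ := S0542.result p L hLn.isSubnormal S
      have h1 := ih L hcard p ((opA p A).subgroupOf L) ((opA p B).subgroupOf L)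
        (isSubnormal_opA hA).subgroupOf (isSubnormal_opA hB).subgroupOf
        ((subgroupOf_sup le_sup_left le_sup_right).symm.trans (subgroupOf_self L)) Q
      have hSL : (S : Subgroup G) ⊓ L ≤ T := by
        intro z hz
        have h2 : (⟨z, hz.2⟩ : L) ∈ _ := h1 (by rw [hQ]; exact hz.1)
        have h3 := mem_map_of_mem L.subtype h2
        refine SetLike.le_def.1 ?_ h3
        rw [Subgroup.map_sup, hQ]
        refine sup_le ?_ ?_
        · rintro _ ⟨w, hw, rfl⟩; exact mem_sup_left ⟨opA_le A hw.1, hw.2⟩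
        · rintro _ ⟨w, hw, rfl⟩; exact mem_sup_right ⟨opA_le B hw.1, hw.2⟩
      intro z hz
      obtain ⟨t, ht, l, hl, rfl⟩ := mem_sup_of_normal_right.1 (htop ▸ mem_top z)
      have hlS : l ∈ (S : Subgroup G) := by
        simpa using (S : Subgroup G).mul_mem ((S : Subgroup G).inv_mem (hTS ht)) hz.1
      exact T.mul_mem ht (hSL ⟨hlS, hl⟩)
    -- `G = O^p G`: transfer into `S ⧸ T`
    have hNS : N ≤ S := isPGroup_subnormal_le hN.1.isSubnormal
      (IsPGroup.of_card (n := 1) (by rw [pow_one, ← hne])) S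
    set T' := T.subgroupOf (S : Subgroup G) with hT'
    haveI : T'.Normal := (normal_subgroupOf_iff_le_normalizer hTS).2 (hq2.trans
      (sup_le le_normalizer (hcen.trans (center_le_normalizer _))))
    have hrep : ∀ v, ∃ z : (S : Subgroup G), (z : G) ∈ N ∧ QuotientGroup.mk' T' z = v := by
      intro v
      obtain ⟨x, rfl⟩ := QuotientGroup.mk'_surjective _ v
      obtain ⟨t, ht, z, hz, htz⟩ := mem_sup_of_normal_right.1 (hq2 x.2)
      refine ⟨⟨z, hNS hz⟩, hz, ?_⟩
      have h1 : x = (⟨t, hTS ht⟩ : (S : Subgroup G)) * ⟨z, hNS hz⟩ := Subtype.ext htz.symm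
      rw [h1, map_mul, show QuotientGroup.mk' T' (⟨t, hTS ht⟩ : (S : Subgroup G)) = 1 from
        (QuotientGroup.eq_one_iff (N := T') _).2
          (show (⟨t, hTS ht⟩ : (S : Subgroup G)) ∈ T' from ht), one_mul]
    have hcomm : ∀ a b : (S : Subgroup G) ⧸ T', a * b = b * a := by
      intro a b
      obtain ⟨z, hz, rfl⟩ := hrep a
      obtain ⟨w, -, rfl⟩ := hrep b
      rw [← map_mul, ← map_mul]
      exact congrArg (QuotientGroup.mk' T') (Subtype.ext (mem_center_iff.1 (hcen hz) w).symm)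
    letI : CommGroup ((S : Subgroup G) ⧸ T') :=
      { (inferInstance : Group ((S : Subgroup G) ⧸ T')) with mul_comm := hcomm }
    set φ : (S : Subgroup G) →* (S : Subgroup G) ⧸ T' := QuotientGroup.mk' T' with hφ
    set τ := MonoidHom.transfer φ with hτ
    have hker : τ.ker = ⊤ := top_le_iff.1 (by
      rw [← hLt, hLeq]
      refine opA_le_iff.2 fun x _ hx => MonoidHom.mem_ker.2 ?_
      obtain ⟨k, hk⟩ := S.isPGroup'.to_quotient T' (τ x)
      exact orderOf_eq_one_iff.1 (Nat.eq_one_of_dvd_coprimes (hx.pow_right k)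
        (orderOf_map_dvd τ x) (orderOf_dvd_of_pow_eq_one hk)))
    intro z hz
    have hzc : z ∈ center G := hcen hz.2
    have h1 : τ z = 1 := MonoidHom.mem_ker.1 (hker ▸ mem_top z)
    have hkey : ∀ (k : ℕ) (g₀ : G), g₀⁻¹ * z ^ k * g₀ ∈ (S : Subgroup G) →
        g₀⁻¹ * z ^ k * g₀ = z ^ k := by
      intro k g₀ _
      rw [mul_assoc, ← mem_center_iff.1 (pow_mem hzc k) g₀, inv_mul_cancel_left]
    rw [hτ, MonoidHom.transfer_eq_pow φ z hkey] at h1
    have h2 : z ^ (S : Subgroup G).index ∈ T := (QuotientGroup.eq_one_iff (N := T') _).1 h1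
    have hcop : (S : Subgroup G).index.Coprime (orderOf z) := by
      refine Nat.Coprime.coprime_dvd_right ?_
        ((hp.out.coprime_iff_not_dvd.2 S.not_dvd_index).symm)
      rw [← hne, hq', ← orderOf_mk z hz.2]
      exact orderOf_dvd_natCard _
    obtain ⟨k, hk⟩ := exists_pow_eq_self_of_coprime hcop
    rw [← hk]
    exact T.pow_mem h2 k

/-- `(A₁ ⊔ A₂) ∩ S = (A₁ ∩ S) ⊔ (A₂ ∩ S)` for subnormal `A₁`, `A₂`. -/
theorem sup_inf_sylow {G : Type u} [Group G] [Finite G] [Fact p.Prime] (S : Sylow p G)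
    (A₁ A₂ : Subgroup G) (h₁ : A₁.IsSubnormal) (h₂ : A₂.IsSubnormal) :
    (A₁ ⊔ A₂) ⊓ (S : Subgroup G) = (A₁ ⊓ (S : Subgroup G)) ⊔ (A₂ ⊓ (S : Subgroup G)) := by
  refine le_antisymm ?_ (sup_le (inf_le_inf_right _ le_sup_left) (inf_le_inf_right _ le_sup_right))
  set J := A₁ ⊔ A₂ with hJ
  obtain ⟨Q, hQ⟩ := S0542.result p J (H30.isSubnormal_sup h₁ h₂) S
  have h := sylow_le_aux _ J le_rfl p (A₁.subgroupOf J) (A₂.subgroupOf J) h₁.subgroupOf
    h₂.subgroupOf ((subgroupOf_sup le_sup_left le_sup_right).symm.trans (subgroupOf_self J)) Q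
  intro z hz
  have h2 : (⟨z, hz.1⟩ : J) ∈ _ := h (by rw [hQ]; exact hz.2)
  refine SetLike.le_def.1 ?_ (mem_map_of_mem J.subtype h2)
  rw [Subgroup.map_sup, hQ]
  refine sup_le ?_ ?_
  · rintro _ ⟨w, hw, rfl⟩; exact mem_sup_left ⟨hw.1, hw.2⟩
  · rintro _ ⟨w, hw, rfl⟩; exact mem_sup_right ⟨hw.1, hw.2⟩

end Cfsg.Agent.H62.SubnormalJoin
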