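/-
The subgroup `D*(S)` of a p-group.
-/
import Cfsg.Prelude.Def_DStar
import Cfsg.Prelude.Def_PLocal
import Cfsg.Agent.PGroups.Basic
import Cfsg.Agent.Thompson.Replacement

set_option autoImplicit false
open scoped commutatorElement

namespace Cfsg.Agent.H62

variable {S : Type*} [Group S]

theorem class_two_closure (s : Set S) (h : ∀ a ∈ s, ∀ b ∈ s, ∀ c ∈ s, ⁅a, b⁆ * c = c * ⁅a, b⁆) :
    ⁅⁅Subgroup.closure s, Subgroup.closure s⁆, Subgroup.closure s⁆ = ⊥ := by
  set X := Subgroup.closure s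
  set C := Subgroup.centralizer (X : Set S) with hC
  have hs : ∀ a ∈ s, ∀ b ∈ s, ⁅a, b⁆ ∈ C := fun a ha b hb => by
    rw [hC, Subgroup.centralizer_closure, Subgroup.mem_centralizer_iff]
    exact fun c hc => (h a ha b hb c hc).symm
  have hconj : ∀ c ∈ C, ∀ x ∈ X, x * c * x⁻¹ = c := fun c hc x hx => by
    rw [Subgroup.mem_centralizer_iff.mp hc x hx, mul_inv_cancel_right]
  have h1 : ∀ a ∈ s, ∀ y ∈ X, ⁅a, y⁆ ∈ C := by
    intro a ha y hy
    induction hy using Subgroup.closure_induction with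
    | mem b hb => exact hs a ha b hb
    | one => rw [commutatorElement_one_right]; exact C.one_mem
    | mul u v hu hv ihu ihv =>
      rw [show ⁅a, u * v⁆ = ⁅a, u⁆ * (u * ⁅a, v⁆ * u⁻¹) by simp only [commutatorElement_def]; group,
        hconj _ ihv u hu]
      exact C.mul_mem ihu ihv
    | inv u hu ihu =>
      rw [show ⁅a, u⁻¹⁆ = u⁻¹ * ⁅a, u⁆⁻¹ * u⁻¹⁻¹ by simp only [commutatorElement_def]; group,
        hconj _ (C.inv_mem ihu) _ (X.inv_mem hu)]
      exact C.inv_mem ihu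
  rw [Subgroup.commutator_eq_bot_iff_le_centralizer, ← hC, Subgroup.commutator_le]
  intro x hx y hy
  induction hx using Subgroup.closure_induction with
  | mem a ha => exact h1 a ha y hy
  | one => rw [commutatorElement_one_left]; exact C.one_mem
  | mul u v hu hv ihu ihv =>
    rw [show ⁅u * v, y⁆ = u * ⁅v, y⁆ * u⁻¹ * ⁅u, y⁆ by simp only [commutatorElement_def]; group,
      hconj _ ihv u hu]
    exact C.mul_mem ihv ihu
  | inv u hu ihu =>
    rw [show ⁅u⁻¹, y⁆ = u⁻¹ * ⁅u, y⁆⁻¹ * u⁻¹⁻¹ by simp only [commutatorElement_def]; group,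
      hconj _ (C.inv_mem ihu) _ (X.inv_mem hu)]
    exact C.inv_mem ihu

/-- If every `⁅a, x⁆` commutes with `A` and `x`, then `x` centralizes the member `A`. -/
theorem commute_of_mem_dStarFamily {A : Subgroup S} (hA : A ∈ Cfsg.dStarFamily S) {x : S}
    (h : ∀ a ∈ A, ⁅a, x⁆ * x = x * ⁅a, x⁆ ∧ ∀ a' ∈ A, ⁅a, x⁆ * a' = a' * ⁅a, x⁆) :
    ∀ a ∈ A, a * x = x * a := by
  refine hA.2 x ?_
  have hgen : A ⊔ Subgroup.zpowers x = Subgroup.closure ((A : Set S) ∪ {x}) := by
    rw [Subgroup.closure_union, Subgroup.closure_eq, Subgroup.zpowers_eq_closure]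
  rw [hgen]
  refine class_two_closure _ ?_
  have hcomm : ∀ a ∈ A, ∀ b ∈ A, ⁅a, b⁆ = 1 := fun a ha b hb =>
    commutatorElement_eq_one_iff_mul_comm.mpr (congrArg Subtype.val (hA.1.is_comm.comm ⟨a, ha⟩ ⟨b, hb⟩))
  rintro a (ha | rfl) b (hb | rfl) c hc
  · rw [hcomm a ha b hb, one_mul, mul_one]
  · rcases hc with hc | rfl
    · exact (h a ha).2 c hc
    · exact (h a ha).1
  · have e : ⁅a, b⁆ = ⁅b, a⁆⁻¹ := (commutatorElement_inv b a).symm
    rw [e]
    have : Commute ⁅b, a⁆ c := by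
      rcases hc with hc | rfl
      · exact (h b hb).2 c hc
      · exact (h b hb).1
    exact this.inv_left.eq
  · rw [commutatorElement_self, one_mul, mul_one]

theorem map_mem_dStarFamily {A : Subgroup S} (hA : A ∈ Cfsg.dStarFamily S) (φ : S ≃* S) :
    A.map φ.toMonoidHom ∈ Cfsg.dStarFamily S := by
  refine ⟨?_, ?_⟩
  · have := hA.1
    exact Subgroup.map_isMulCommutative A _
  · intro x hx
    have key : A.map φ.toMonoidHom ⊔ Subgroup.zpowers x =
        (A ⊔ Subgroup.zpowers (φ.symm x)).map φ.toMonoidHom := by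
      rw [Subgroup.map_sup, MonoidHom.map_zpowers]; simp
    rw [key, ← Subgroup.map_commutator, ← Subgroup.map_commutator,
      Subgroup.map_eq_bot_iff_of_injective _ φ.injective] at hx
    rintro _ ⟨a, ha, rfl⟩
    have := congrArg φ (hA.2 _ hx a ha)
    simpa using this

variable [Finite S] {p : ℕ} [Fact p.Prime]

theorem commute_members (hS : IsPGroup p S) {T : Subgroup S} :
    ∀ {A B : Subgroup S}, A ∈ Cfsg.dStarFamily S → B ∈ Cfsg.dStarFamily S → A ≤ T → B ≤ T →
      ∀ a ∈ A, ∀ b ∈ B, a * b = b * a := by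
  induction T using WellFoundedLT.induction with
  | ind T ih =>
  intro A B hA hB hAT hBT a ha b hb
  by_cases hgen : A ⊔ B < T
  · exact ih _ hgen hA hB le_sup_left le_sup_right a ha b hb
  by_cases hAeq : A = T
  · exact congrArg Subtype.val (hA.1.is_comm.comm ⟨a, ha⟩ ⟨b, hAeq ▸ hBT hb⟩)
  by_cases hBeq : B = T
  · exact congrArg Subtype.val (hB.1.is_comm.comm ⟨a, hBeq ▸ hAT ha⟩ ⟨b, hb⟩)
  -- conjugates of a proper member inside `T` commute pairwise
  have hconj : ∀ {C : Subgroup S}, C ∈ Cfsg.dStarFamily S → C ≤ T → C ≠ T → ∀ t ∈ T, ∀ c ∈ C, ∀ d ∈ C,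
      (t * c * t⁻¹) * d = d * (t * c * t⁻¹) := by
    intro C hC hCT hCne t ht c hc d hd
    obtain ⟨K₀, hK₀, hCK⟩ : ∃ K₀ : Subgroup T, IsCoatom K₀ ∧ C.subgroupOf T ≤ K₀ := by
      refine (eq_top_or_exists_le_coatom (C.subgroupOf T)).resolve_left fun e => hCne ?_
      exact le_antisymm hCT (Subgroup.subgroupOf_eq_top.mp e)
    have hn : K₀.Normal := PGroups.normal_of_isCoatom (hS.to_subgroup T) hK₀
    have hlt : K₀.map T.subtype < T := lt_of_le_of_ne (Subgroup.map_subtype_le _) fun e => hK₀.1 (by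
      rw [eq_top_iff]
      intro y _
      obtain ⟨z, hz, hzy⟩ : (y : S) ∈ K₀.map T.subtype := by rw [e]; exact y.2
      exact Subtype.ext hzy ▸ hz)
    refine ih _ hlt (map_mem_dStarFamily hC (MulAut.conj t)) hC ?_ ?_ _ ⟨c, hc, rfl⟩ d hd
    · rintro _ ⟨e, he, rfl⟩
      exact ⟨_, hn.conj_mem ⟨e, hCT he⟩ (hCK (Subgroup.mem_subgroupOf.mpr he)) ⟨t, ht⟩, rfl⟩
    · exact fun e he => ⟨⟨e, hCT he⟩, hCK (Subgroup.mem_subgroupOf.mpr he), rfl⟩
  have hca : ∀ a' ∈ A, ∀ a'' ∈ A, ⁅a', b⁆ * a'' = a'' * ⁅a', b⁆ := fun a' ha' a'' ha'' => by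
    have h1 : Commute a' a'' := congrArg Subtype.val (hA.1.is_comm.comm ⟨a', ha'⟩ ⟨a'', ha''⟩)
    have h2 : Commute (b * a'⁻¹ * b⁻¹) a'' := hconj hA hAT hAeq b (hBT hb) _ (A.inv_mem ha') _ ha''
    rw [show ⁅a', b⁆ = a' * (b * a'⁻¹ * b⁻¹) by simp [commutatorElement_def, mul_assoc]]
    exact (h1.mul_left h2).eq
  refine commute_of_mem_dStarFamily hA (fun a' ha' => ⟨?_, hca a' ha'⟩) a ha
  have h1 : Commute (a' * b * a'⁻¹) b := hconj hB hBT hBeq a' (hAT ha') _ hb _ hb
  rw [commutatorElement_def]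
  exact (h1.mul_left (Commute.refl b).inv_left).eq

theorem dStar_le_centralizer (hS : IsPGroup p S) :
    Cfsg.dStar S ≤ Subgroup.centralizer (Cfsg.dStar S : Set S) := by
  refine sSup_le fun A hA => Subgroup.le_centralizer_iff.mpr (sSup_le fun B hB => fun b hb => ?_)
  exact Subgroup.mem_centralizer_iff.mpr fun a ha => commute_members hS hA hB (le_top) le_top a ha b hb

theorem isMulCommutative_dStar (hS : IsPGroup p S) : IsMulCommutative (Cfsg.dStar S) :=
  ⟨⟨fun a b => Subtype.ext (Subgroup.mem_centralizer_iff.mp (dStar_le_centralizer hS b.2) a a.2)⟩⟩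

theorem dStar_mem_family (hS : IsPGroup p S) : Cfsg.dStar S ∈ Cfsg.dStarFamily S := by
  refine ⟨isMulCommutative_dStar hS, fun x hx => ?_⟩
  have : Cfsg.dStar S ≤ Subgroup.centralizer ({x} : Set S) := by
    refine sSup_le fun A hA a ha => Subgroup.mem_centralizer_singleton_iff.mpr ?_
    refine hA.2 x (le_bot_iff.mp (le_trans ?_ hx.le)) a ha
    have hle : A ⊔ Subgroup.zpowers x ≤ Cfsg.dStar S ⊔ Subgroup.zpowers x := sup_le_sup_right (le_sSup hA) _
    exact Subgroup.commutator_mono (Subgroup.commutator_mono hle hle) hle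
  exact fun a ha => Subgroup.mem_centralizer_singleton_iff.mp (this ha)

omit [Finite S] in
theorem dStar_normal : (Cfsg.dStar S).Normal := by
  constructor
  intro d hd g
  have : (Cfsg.dStar S).map (MulAut.conj g).toMonoidHom ≤ Cfsg.dStar S := by
    rw [Subgroup.map_le_iff_le_comap]
    refine sSup_le fun A hA => ?_
    rw [← Subgroup.map_le_iff_le_comap]
    exact le_sSup (map_mem_dStarFamily hA (MulAut.conj g))
  exact this ⟨d, hd, rfl⟩

/-- `D*` centralizes any abelian subgroup that it normalizes. -/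
theorem dStar_centralizes (hS : IsPGroup p S) {A : Subgroup S} (hA : IsMulCommutative A)
    (hn : Cfsg.dStar S ≤ Subgroup.normalizer (A : Set S)) :
    ∀ d ∈ Cfsg.dStar S, ∀ a ∈ A, d * a = a * d := by
  intro d hd a ha
  refine commute_of_mem_dStarFamily (dStar_mem_family hS) (fun e he => ⟨?_, fun e' he' => ?_⟩) d hd
  · have hcA : ⁅e, a⁆ ∈ A := A.mul_mem ((Subgroup.mem_normalizer_iff.mp (hn he) a).mp ha) (A.inv_mem ha)
    exact congrArg Subtype.val (hA.is_comm.comm ⟨_, hcA⟩ ⟨a, ha⟩)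
  · have hcD : ⁅e, a⁆ ∈ Cfsg.dStar S := by
      rw [show ⁅e, a⁆ = e * (a * e⁻¹ * a⁻¹) by simp [commutatorElement_def, mul_assoc]]
      exact (Cfsg.dStar S).mul_mem he (dStar_normal.conj_mem _ ((Cfsg.dStar S).inv_mem he) a)
    exact congrArg Subtype.val ((isMulCommutative_dStar hS).is_comm.comm ⟨_, hcD⟩ ⟨e', he'⟩)

theorem center_le_dStar : Subgroup.center S ≤ Cfsg.dStar S := by
  refine le_sSup ⟨inferInstance, fun x _ a ha => (Subgroup.mem_center_iff.mp ha x).symm⟩

theorem dStar_le_normal_abelian (hS : IsPGroup p S) {A : Subgroup S} (hAn : A.Normal) (hA : IsMulCommutative A)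
    (hmax : ∀ B : Subgroup S, B.Normal → IsMulCommutative B → A ≤ B → B = A) : Cfsg.dStar S ≤ A := by
  have hc := dStar_centralizes hS hA (by rw [Subgroup.normalizer_eq_top_iff.mpr hAn]; exact le_top)
  have hDn := dStar_normal (S := S)
  have hB : IsMulCommutative ↥(A ⊔ Cfsg.dStar S) := by
    have h1 : A ⊔ Cfsg.dStar S ≤ Subgroup.centralizer ((A ⊔ Cfsg.dStar S : Subgroup S) : Set S) := by
      refine sup_le ?_ ?_ <;> rw [Subgroup.le_centralizer_iff] <;> refine sup_le ?_ ?_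
      · exact fun a ha => Subgroup.mem_centralizer_iff.mpr fun b hb => congrArg Subtype.val (hA.is_comm.comm ⟨b, hb⟩ ⟨a, ha⟩)
      · exact fun d hd => Subgroup.mem_centralizer_iff.mpr fun a ha => (hc d hd a ha).symm
      · exact fun a ha => Subgroup.mem_centralizer_iff.mpr fun d hd => hc d hd a ha
      · exact dStar_le_centralizer hS
    exact ⟨⟨fun a b => Subtype.ext (Subgroup.mem_centralizer_iff.mp (h1 b.2) a a.2)⟩⟩
  exact le_sup_right.trans (hmax _ inferInstance hB le_sup_left).le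

theorem dStar_le_maxAbelian (hS : IsPGroup p S) {A : Subgroup S} (hA : A ∈ Cfsg.maxAbelianSubgroups S) :
    Cfsg.dStar S ≤ A := by
  set D := Cfsg.dStar S with hD
  induction hm : Nat.card D - Nat.card ↥(A ⊓ D) using Nat.strong_induction_on generalizing A with
  | _ m ih =>
  subst hm
  have hnorm : D ≤ Subgroup.normalizer (A : Set S) := by
    by_contra hnot
    have hDab := isMulCommutative_dStar hS
    have hD1 : ⁅D, D⁆ = ⊥ := Subgroup.commutator_eq_bot_iff_le_centralizer.mpr (dStar_le_centralizer hS)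
    obtain ⟨A', -, hA', hcard, hlt, hA'n, -⟩ := Thompson.replacement (p := p) (e := 0) (S := ⊤) (B := D) (A := A)
      (Or.inr hDab) (Or.inl rfl) (hS.to_subgroup ⊤) le_top
      (by rw [Subgroup.normalizer_eq_top_iff.mpr dStar_normal]) le_top ⟨hA.1, fun a _ => pow_zero a⟩
      (by rw [hD1]; exact Subgroup.commutator_bot_left _) (by rw [hD1]; exact bot_le) hnot
    have hA'max : A' ∈ Cfsg.maxAbelianSubgroups S := ⟨hA'.1, fun B hB => (hA.2 B hB).trans hcard.ge⟩
    have h1 : Nat.card ↥(A ⊓ D) < Nat.card ↥(A' ⊓ D) :=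
      lt_of_le_of_ne (Subgroup.card_le_of_le hlt.le) fun e => hlt.ne (Subgroup.eq_of_le_of_card_ge hlt.le e.ge)
    have h2 : Nat.card ↥(A' ⊓ D) ≤ Nat.card D := Subgroup.card_le_of_le inf_le_right
    exact hnot ((ih _ (by omega) hA'max rfl).trans hA'n)
  have hc := dStar_centralizes hS hA.1 hnorm
  have hB : IsMulCommutative ↥(A ⊔ D) := by
    have h1 : A ⊔ D ≤ Subgroup.centralizer ((A ⊔ D : Subgroup S) : Set S) := by
      refine sup_le ?_ ?_ <;> rw [Subgroup.le_centralizer_iff] <;> refine sup_le ?_ ?_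
      · exact fun a ha => Subgroup.mem_centralizer_iff.mpr fun b hb => congrArg Subtype.val (hA.1.is_comm.comm ⟨b, hb⟩ ⟨a, ha⟩)
      · exact fun d hd => Subgroup.mem_centralizer_iff.mpr fun a ha => (hc d hd a ha).symm
      · exact fun a ha => Subgroup.mem_centralizer_iff.mpr fun d hd => hc d hd a ha
      · exact dStar_le_centralizer hS
    exact ⟨⟨fun a b => Subtype.ext (Subgroup.mem_centralizer_iff.mp (h1 b.2) a a.2)⟩⟩
  exact le_sup_right.trans (Subgroup.eq_of_le_of_card_ge le_sup_left (hA.2 _ hB)).ge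

end Cfsg.Agent.H62
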