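/-
A 2-group with a nonabelian subgroup of order 8 containing its centraliser has maximal class.
-/
import Cfsg.Agent.PGroups.MaxClass
import Cfsg.Prelude.Def_CaseTheorems
import Mathlib

set_option autoImplicit false
set_option maxHeartbeats 1000000

namespace Cfsg.Agent.H62

open Subgroup

universe u

variable {X : Type u} [Group X] [Finite X]

theorem card_mul_relIndex_of_le {G : Type u} [Group G] {K L : Subgroup G} (h : K ≤ L) :
    Nat.card K * K.relIndex L = Nat.card L := by
  rw [← Subgroup.relIndex_bot_left K, ← Subgroup.relIndex_bot_left L]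
  exact Subgroup.relIndex_mul_relIndex _ _ _ bot_le h

/-- In a nonabelian subgroup of order 8, elements outside a cyclic subgroup of order 4 invert it. -/
theorem conj_eq_inv_of_card_eight {H : Subgroup X} (hH : Nat.card H = 8) (hna : ¬ IsMulCommutative H)
    {c y : X} (hc : c ∈ H) (hco : orderOf c = 4) (hy : y ∈ H) (hyc : y ∉ zpowers c) :
    H = zpowers c ⊔ zpowers y ∧ y * c * y⁻¹ = c⁻¹ := by
  set K := zpowers c ⊔ zpowers y with hKdef
  have hKH : K ≤ H := sup_le (zpowers_le.mpr hc) (zpowers_le.mpr hy)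
  have hd := Subgroup.card_dvd_of_le hKH
  rw [hH] at hd
  have hlt : 4 < Nat.card K := by
    by_contra hle
    push Not at hle
    have h : zpowers c = K := Subgroup.eq_of_le_of_card_ge le_sup_left (by rw [Nat.card_zpowers, hco]; exact hle)
    exact hyc (h.symm ▸ (mem_sup_right (mem_zpowers y) : y ∈ K))
  have hK8 : Nat.card K = 8 := by
    have := Nat.le_of_dvd (by norm_num) hd
    revert hd; interval_cases hn : Nat.card K <;> simp_all
  have hHK : H = K := (Subgroup.eq_of_le_of_card_ge hKH (by rw [hH, hK8])).symm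
  refine ⟨hHK, ?_⟩
  have hidx : ((zpowers c).subgroupOf H).index = 2 := by
    have h1 := ((zpowers c).subgroupOf H).card_mul_index
    rw [Nat.card_congr (Subgroup.subgroupOfEquivOfLe (zpowers_le.mpr hc)).toEquiv, Nat.card_zpowers, hco, hH] at h1
    omega
  haveI := Subgroup.normal_of_index_eq_two hidx
  have hm : y * c * y⁻¹ ∈ zpowers c :=
    Subgroup.mem_subgroupOf.mp (Subgroup.Normal.conj_mem inferInstance (⟨c, hc⟩ : H)
      (Subgroup.mem_subgroupOf.mpr (mem_zpowers c)) (⟨y, hy⟩ : H))
  classical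
  rw [← IsOfFinOrder.mem_powers_iff_mem_zpowers (isOfFinOrder_of_finite c),
    IsOfFinOrder.mem_powers_iff_mem_range_orderOf (isOfFinOrder_of_finite c), hco] at hm
  simp only [Finset.mem_image, Finset.mem_range] at hm
  obtain ⟨i, hi, he⟩ := hm
  have ho : orderOf (y * c * y⁻¹) = 4 := by
    rw [show y * c * y⁻¹ = MulAut.conj y c from rfl, MulEquiv.orderOf_eq, hco]
  interval_cases i
  · rw [← he] at ho; simp at ho
  · exfalso
    apply hna
    rw [hHK, hKdef]
    have hcy : Commute c y := by
      have := mul_inv_eq_iff_eq_mul.mp he.symm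
      rw [pow_one] at this
      exact this.symm
    rw [zpowers_eq_closure, zpowers_eq_closure, ← Subgroup.closure_union]
    refine Subgroup.isMulCommutative_closure fun a ha b hb => ?_
    simp only [Set.singleton_union, Set.mem_insert_iff, Set.mem_singleton_iff] at ha hb
    rcases ha with rfl | rfl <;> rcases hb with rfl | rfl
    exacts [rfl, hcy, hcy.symm, rfl]
  · rw [← he, orderOf_pow, hco] at ho; norm_num at ho
  · rw [← he]
    exact eq_inv_of_mul_eq_one_left (by rw [← pow_succ, show 3 + 1 = orderOf c by rw [hco], pow_orderOf_eq_one])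

/-- The inductive step: from `M` of index two to the whole group. -/
theorem centralizer_eq_of_step {H M : Subgroup X} (hH : Nat.card H = 8) (hna : ¬ IsMulCommutative H)
    (hCH : centralizer (H : Set X) ≤ H) (hHM : H ≤ M) {c y : X} (hc : c ∈ H) (hco : orderOf c = 4)
    (hn : ∀ g : X, g * c * g⁻¹ ∈ zpowers c) (hy : y ∈ H) (hyc : y ∉ zpowers c)
    (A : Subgroup X) (hA : Nat.card A = 4) (hAM : A = M ⊓ centralizer ({y} : Set X)) :
    centralizer (A : Set X) = A := by
  obtain ⟨hHK, hinv⟩ := conj_eq_inv_of_card_eight hH hna hc hco hy hyc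
  have hAab : IsMulCommutative A := by
    haveI : Fact (Nat.Prime 2) := ⟨Nat.prime_two⟩
    exact IsPGroup.isMulCommutative_of_card_eq_prime_sq (p := 2) (by rw [hA]; norm_num)
  refine le_antisymm (fun s hs => ?_) (fun a ha => mem_centralizer_iff.mpr fun b hb => ?_)
  · have hyA : y ∈ A := by
      rw [hAM]
      exact ⟨hHM hy, mem_centralizer_iff.mpr fun b hb => by rw [Set.mem_singleton_iff.mp hb]⟩
    have hsy : y * s = s * y := mem_centralizer_iff.mp hs y hyA
    rw [hAM]
    refine ⟨?_, mem_centralizer_iff.mpr fun b hb => by rw [Set.mem_singleton_iff.mp hb, hsy]⟩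
    by_contra hsM
    have hkey : ∀ w : X, y * w = w * y → w * c * w⁻¹ = c → w ∈ H := fun w h1 h2 => hCH (by
      have hle : H ≤ centralizer ({w} : Set X) := by
        rw [hHK]
        refine sup_le (zpowers_le.mpr (mem_centralizer_iff.mpr fun b hb => ?_))
          (zpowers_le.mpr (mem_centralizer_iff.mpr fun b hb => ?_)) <;> rw [Set.mem_singleton_iff.mp hb]
        · exact mul_inv_eq_iff_eq_mul.mp h2
        · exact h1.symm
      exact mem_centralizer_iff.mpr fun b hb => (mem_centralizer_iff.mp (hle hb) w rfl).symm)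
    classical
    have hm := hn s
    rw [← IsOfFinOrder.mem_powers_iff_mem_zpowers (isOfFinOrder_of_finite c),
      IsOfFinOrder.mem_powers_iff_mem_range_orderOf (isOfFinOrder_of_finite c), hco] at hm
    simp only [Finset.mem_image, Finset.mem_range] at hm
    obtain ⟨i, hi, he⟩ := hm
    have ho : orderOf (s * c * s⁻¹) = 4 := by
      rw [show s * c * s⁻¹ = MulAut.conj s c from rfl, MulEquiv.orderOf_eq, hco]
    interval_cases i
    · rw [← he] at ho; simp at ho
    · exact hsM (hHM (hkey s hsy (by rw [← he, pow_one])))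
    · rw [← he, orderOf_pow, hco] at ho; norm_num at ho
    · have h3 : s * c * s⁻¹ = c⁻¹ := by
        rw [← he]
        exact eq_inv_of_mul_eq_one_left (by rw [← pow_succ, show 3 + 1 = orderOf c by rw [hco], pow_orderOf_eq_one])
      have hw : s * y ∈ H := by
        refine hkey (s * y) (by rw [← mul_assoc, hsy]) ?_
        calc s * y * c * (s * y)⁻¹ = s * (y * c * y⁻¹) * s⁻¹ := by group
          _ = (s * c * s⁻¹)⁻¹ := by rw [hinv]; group
          _ = c := by rw [h3, inv_inv]
      exact hsM (hHM (by simpa using mul_mem hw (inv_mem hy)))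
  · exact PGroups.comm_of_isMulCommutative hAab hb ha

/-- The centraliser in `M` of an element outside the cyclic subgroup of index two. -/
theorem card_centralizer_eq_four {M : Type u} [Group M] [Finite M] {m : ℕ} (hm : 3 ≤ m)
    (hM : Nat.card M = 2 ^ m) {c₀ y : M} (hc₀ : orderOf c₀ = 2 ^ (m - 1)) (hy : y ∉ zpowers c₀) {r : ℤ}
    (hr : y * c₀ * y⁻¹ = c₀ ^ r) (hr' : r = -1 ∨ (4 ≤ m ∧ r = 2 ^ (m - 2) - 1)) :
    Nat.card (centralizer ({y} : Set M)) = 4 := by
  set C := zpowers c₀ with hC
  have hidx : C.index = 2 := by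
    have h1 := C.card_mul_index
    rw [hC, Nat.card_zpowers, hc₀, hM] at h1
    nth_rw 2 [show m = (m - 1) + 1 by omega] at h1
    rw [pow_succ] at h1
    exact Nat.eq_of_mul_eq_mul_left (by positivity) h1
  set u := c₀ ^ 2 ^ (m - 2) with hu
  have huo : orderOf u = 2 := by
    rw [hu, orderOf_pow' _ (by positivity), hc₀, Nat.gcd_eq_right (Nat.pow_dvd_pow 2 (by omega)),
      Nat.pow_div (by omega) two_pos, show m - 1 - (m - 2) = 1 by omega, pow_one]
  have hfix : ∀ x ∈ C, x * y = y * x → x ∈ zpowers u := by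
    intro x hx hxy
    obtain ⟨j, rfl⟩ := mem_zpowers_iff.mp hx
    have h1 : y * c₀ ^ j * y⁻¹ = c₀ ^ j := by rw [← hxy, mul_inv_cancel_right]
    rw [← conj_zpow, hr, ← zpow_mul] at h1
    have h2 := (zpow_eq_zpow_iff_modEq.mp h1).dvd
    rw [hc₀] at h2
    push_cast at h2
    have h3 : (2 : ℤ) ^ (m - 2) ∣ j := by
      have hpow : (2 : ℤ) ^ (m - 1) = 2 * 2 ^ (m - 2) := by
        rw [← pow_succ', show m - 2 + 1 = m - 1 by omega]
      rcases hr' with rfl | ⟨h4, rfl⟩
      · rw [hpow, show j - -1 * j = 2 * j by ring] at h2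
        exact Int.dvd_of_mul_dvd_mul_left two_ne_zero h2
      · obtain ⟨e, he⟩ : ∃ e : ℤ, (2 : ℤ) ^ (m - 2) = 2 * (2 * e) :=
          ⟨2 ^ (m - 4), by rw [← mul_assoc, show (2 : ℤ) * 2 = 2 ^ 2 by norm_num, ← pow_add,
            show 2 + (m - 4) = m - 2 by omega]⟩
        rw [hpow, show j - (2 ^ (m - 2) - 1) * j = 2 * ((1 - (2 : ℤ) * e) * j) by rw [he]; ring] at h2
        have h5 : (2 : ℤ) ^ (m - 2) ∣ (1 - 2 * e) * j := Int.dvd_of_mul_dvd_mul_left two_ne_zero h2
        refine IsCoprime.dvd_of_dvd_mul_left (IsCoprime.pow_left ?_) h5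
        exact ⟨e, 1, by ring⟩
    obtain ⟨t, rfl⟩ := h3
    exact mem_zpowers_iff.mpr ⟨t, by rw [hu, ← zpow_natCast, ← zpow_mul]; push_cast; rfl⟩
  set A := centralizer ({y} : Set M) with hA
  have hyA : y ∈ A := mem_centralizer_iff.mpr fun b hb => by rw [Set.mem_singleton_iff.mp hb]
  have hle : A ⊓ C ≤ zpowers u := fun x hx => hfix x hx.2 (mem_centralizer_iff.mp hx.1 y rfl).symm
  have huA : u ∈ A := by
    refine mem_centralizer_iff.mpr fun b hb => ?_
    rw [Set.mem_singleton_iff.mp hb]
    have h : y * u * y⁻¹ = u := by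
      rw [hu, ← conj_pow, hr, ← zpow_natCast, ← zpow_mul, ← zpow_natCast, zpow_eq_zpow_iff_modEq, hc₀]
      refine Int.modEq_iff_dvd.mpr ?_
      have hpow : (2 : ℤ) ^ (m - 1) = 2 ^ (m - 2) * 2 := by
        rw [← pow_succ, show m - 2 + 1 = m - 1 by omega]
      push_cast
      rw [hpow, show (2 : ℤ) ^ (m - 2) - r * 2 ^ (m - 2) = 2 ^ (m - 2) * (1 - r) by ring]
      refine mul_dvd_mul_left _ ?_
      rcases hr' with rfl | ⟨h4, rfl⟩
      · norm_num
      · rw [show (1 : ℤ) - (2 ^ (m - 2) - 1) = 2 - 2 ^ (m - 2) by ring]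
        exact dvd_sub (dvd_refl 2) (dvd_pow_self 2 (by omega))
    exact mul_inv_eq_iff_eq_mul.mp h
  have h2 : Nat.card ↥(A ⊓ C) = 2 := by
    rw [le_antisymm hle (zpowers_le.mpr ⟨huA, hu ▸ pow_mem (mem_zpowers c₀) _⟩), Nat.card_zpowers, huo]
  have hrel : C.relIndex A ∣ 2 := by
    haveI := Subgroup.normal_of_index_eq_two hidx
    exact hidx ▸ Subgroup.relIndex_dvd_index_of_normal C A
  have hne : C.relIndex A ≠ 1 := fun h => hy (Subgroup.relIndex_eq_one.mp h hyA)
  have h3 := card_mul_relIndex_of_le (inf_le_left : A ⊓ C ≤ A)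
  rw [h2, Subgroup.inf_relIndex_left, ((Nat.prime_two.eq_one_or_self_of_dvd _ hrel).resolve_left hne)] at h3
  omega

/-- Elements of large order lie in the cyclic subgroup of index two. -/
theorem mem_zpowers_of_order {M : Type u} [Group M] [Finite M] {m : ℕ} (hm : 4 ≤ m)
    {c₀ x : M} (hidx : (zpowers c₀).index = 2) (hc₀ : orderOf c₀ = 2 ^ (m - 1)) {r : ℤ}
    (hr : x * c₀ * x⁻¹ = c₀ ^ r) (hr' : (4 : ℤ) ∣ r + 1 ∧ (2 : ℤ) ^ (m - 2) ∣ r + 1)
    (hx : x ∉ zpowers c₀) (hx2 : x ^ 2 = 1 ∨ x ^ 2 = c₀ ^ 2 ^ (m - 2))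
    {v : M} (hv : v ^ 4 ≠ 1) : v ∈ zpowers c₀ := by
  by_contra hvC
  apply hv
  obtain ⟨i, hi⟩ : ∃ i : ℤ, v = c₀ ^ i * x := by
    have := (Subgroup.mul_mem_iff_of_index_two hidx (a := v) (b := x⁻¹)).mpr (by
      simp only [inv_mem_iff]; exact ⟨fun h => absurd h hvC, fun h => absurd h hx⟩)
    obtain ⟨i, hi⟩ := mem_zpowers_iff.mp this
    exact ⟨i, by rw [hi, inv_mul_cancel_right]⟩
  have hv2 : v ^ 2 = c₀ ^ (i * (r + 1)) * x ^ 2 := by
    rw [hi, sq, sq, mul_add, mul_one, add_comm, zpow_add, mul_comm i r, zpow_mul, ← hr, conj_zpow]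
    group
  obtain ⟨t, ht⟩ := hr'.2
  have hz : v ^ 2 ∈ zpowers (c₀ ^ 2 ^ (m - 2)) := by
    rw [hv2, ht, show i * ((2 : ℤ) ^ (m - 2) * t) = ((2 ^ (m - 2) : ℕ) : ℤ) * (i * t) by push_cast; ring,
      zpow_mul, zpow_natCast]
    refine mul_mem (zpow_mem (mem_zpowers _) _) ?_
    rcases hx2 with h | h <;> rw [h]
    exacts [one_mem _, mem_zpowers _]
  have ho : orderOf (v ^ 2) ∣ 2 := by
    refine (Subgroup.orderOf_dvd_natCard _ hz).trans ?_
    rw [Nat.card_zpowers, orderOf_pow' _ (by positivity), hc₀, Nat.gcd_eq_right (Nat.pow_dvd_pow 2 (by omega)),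
      Nat.pow_div (by omega) two_pos, show m - 1 - (m - 2) = 1 by omega]
    norm_num
  rw [show (4 : ℕ) = 2 * 2 by norm_num, pow_mul]
  exact orderOf_dvd_iff_pow_eq_one.mp ho

/-- A 2-group with a nonabelian subgroup of order 8 containing its own centraliser has maximal class. -/
theorem nilpotencyClass_of_eight : ∀ (n : ℕ) (X : Type u) [Group X] [Finite X],
    Nat.card X = 2 ^ n → ∀ H : Subgroup X, Nat.card H = 8 → ¬ IsMulCommutative H →
      centralizer (H : Set X) ≤ H → Group.nilpotencyClass X = n - 1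
  | n, X, _, _, hX, H, hH, hna, hCH => by
    haveI : Fact (Nat.Prime 2) := ⟨Nat.prime_two⟩
    have hXp := IsPGroup.of_card hX
    have hn : 3 ≤ n := (Nat.pow_dvd_pow_iff_le_right one_lt_two).mp
      (show 2 ^ 3 ∣ 2 ^ n by rw [← hX]; exact (show 2 ^ 3 = Nat.card H by rw [hH]; norm_num) ▸ H.card_subgroup_dvd_card)
    -- an element of order 4 in `H`
    obtain ⟨a, haH, hao⟩ : ∃ a ∈ H, orderOf a = 4 := by
      by_contra hall
      push Not at hall
      apply hna
      have hsq : ∀ h : H, h * h = 1 := fun h => by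
        have hd : orderOf (h : X) ∣ 8 := hH ▸ Subgroup.orderOf_dvd_natCard H h.2
        have hne : orderOf (h : X) ≠ 8 := fun h8 => by
          have := hall ((h : X) ^ 2) (pow_mem h.2 2)
          rw [orderOf_pow, h8] at this; norm_num at this
        have hne4 := hall h h.2
        have : orderOf (h : X) ∣ 2 := by
          obtain ⟨j, hj, hje⟩ := (Nat.dvd_prime_pow Nat.prime_two).mp (show orderOf (h : X) ∣ 2 ^ 3 by simpa using hd)
          interval_cases j <;> simp_all
        apply Subtype.ext
        rw [coe_mul, OneMemClass.coe_one, ← sq]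
        exact orderOf_dvd_iff_pow_eq_one.mp this
      exact ⟨⟨fun x y => by
        have hi : ∀ z : H, z⁻¹ = z := fun z => inv_eq_of_mul_eq_one_right (hsq z)
        calc x * y = (x * y)⁻¹ := (hi _).symm
          _ = y * x := by rw [mul_inv_rev, hi, hi]⟩⟩
    rcases hn.lt_or_eq with hn4 | rfl
    swap
    · -- base case
      have hHt : H = ⊤ := Subgroup.eq_top_of_card_eq _ (by rw [hH, hX]; norm_num)
      refine PGroups.nilpotencyClass_of_self_centralizing (p := 2) 3 X hX (zpowers a) (by rw [Nat.card_zpowers, hao]; norm_num) ?_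
      refine le_antisymm (fun s hs => ?_) (le_centralizer (zpowers a))
      by_contra hsC
      obtain ⟨hHK, hinv⟩ := conj_eq_inv_of_card_eight hH hna haH hao (hHt ▸ mem_top s) hsC
      have h1 : s * a * s⁻¹ = a := by
        rw [← mem_centralizer_iff.mp hs a (mem_zpowers a), mul_inv_cancel_right]
      have h2 : a ^ 2 = 1 := by
        rw [sq]; nth_rw 2 [← h1]; rw [hinv, mul_inv_cancel]
      have := orderOf_dvd_of_pow_eq_one h2
      rw [hao] at this
      norm_num at this
    obtain ⟨M, hM, hHM⟩ := Sylow.exists_subgroup_card_pow_prime_le 2 (G := X) (n := 3) (m := n - 1)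
      (hX ▸ Nat.pow_dvd_pow 2 (by omega)) H (by rw [hH]; norm_num) (by omega)
    have hMidx : M.index = 2 := by
      have h1 := M.card_mul_index
      rw [hM, hX] at h1
      nth_rw 2 [show n = (n - 1) + 1 by omega] at h1
      rw [pow_succ] at h1
      exact Nat.eq_of_mul_eq_mul_left (by positivity) h1
    have hMn := Subgroup.normal_of_index_eq_two hMidx
    -- data (c, y)
    suffices h : ∃ c y : X, c ∈ H ∧ orderOf c = 4 ∧ (∀ g : X, g * c * g⁻¹ ∈ zpowers c) ∧ y ∈ H ∧
        y ∉ zpowers c ∧ Nat.card ↥(M ⊓ centralizer ({y} : Set X)) = 4 by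
      obtain ⟨c, y, hc, hco, hgn, hy, hyc, hA⟩ := h
      exact PGroups.nilpotencyClass_of_self_centralizing (p := 2) n X hX _ (by rw [hA]; norm_num)
        (centralizer_eq_of_step hH hna hCH hHM hc hco hgn hy hyc _ hA rfl)
    rcases (show 4 ≤ n - 1 ∨ n - 1 = 3 by omega) with hm | hm
    · have hcls := nilpotencyClass_of_eight (n - 1) M hM (H.subgroupOf M)
        (by rw [Nat.card_congr (Subgroup.subgroupOfEquivOfLe hHM).toEquiv, hH])
        (fun h => hna ⟨⟨fun x y => by
          have := h.is_comm.comm (⟨⟨x, hHM x.2⟩, x.2⟩ : H.subgroupOf M) ⟨⟨y, hHM y.2⟩, y.2⟩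
          exact Subtype.ext (congrArg (fun z : H.subgroupOf M => ((z : M) : X)) this)⟩⟩)
        (fun s hs => Subgroup.mem_subgroupOf.mpr (hCH (mem_centralizer_iff.mpr fun b hb =>
          congrArg Subtype.val (mem_centralizer_iff.mp hs ⟨b, hHM hb⟩ hb))))
      obtain ⟨c₀, x, hc₀, hx, hcase, -⟩ := PGroups.maxClass_two (by omega) hM hcls
      rw [show n - 1 - 1 = n - 2 by omega] at hc₀
      rw [show n - 1 - 2 = n - 3 by omega] at hcase
      obtain ⟨r, hr, hr', hx2⟩ : ∃ r : ℤ, x * c₀ * x⁻¹ = c₀ ^ r ∧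
          (r = -1 ∨ (4 ≤ n - 1 ∧ r = 2 ^ (n - 1 - 2) - 1)) ∧
          (x ^ 2 = 1 ∨ x ^ 2 = c₀ ^ 2 ^ (n - 1 - 2)) := by
        rw [show n - 1 - 2 = n - 3 by omega]
        rcases hcase with ⟨h1, h2⟩ | ⟨h4, h1, h2⟩
        · exact ⟨-1, by rw [zpow_neg_one, h1], Or.inl rfl, h2⟩
        · refine ⟨2 ^ (n - 3) - 1, ?_, Or.inr ⟨h4, rfl⟩, Or.inl h2⟩
          rw [h1, ← zpow_natCast, Nat.cast_sub Nat.one_le_two_pow]
          push_cast; rfl
      have hr1 : (4 : ℤ) ∣ r + 1 ∧ (2 : ℤ) ^ (n - 1 - 2) ∣ r + 1 := by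
        rcases hr' with rfl | ⟨-, rfl⟩
        · simp
        · simp only [sub_add_cancel]
          exact ⟨show (2 : ℤ) ^ 2 ∣ _ from pow_dvd_pow 2 (by omega), dvd_refl _⟩
      have hidx : (zpowers c₀).index = 2 := by
        have h1 := (zpowers c₀).card_mul_index
        rw [Nat.card_zpowers, hc₀, hM] at h1
        rw [show 2 ^ (n - 1) = 2 ^ (n - 2) * 2 by rw [← pow_succ]; congr 1; omega] at h1
        exact Nat.eq_of_mul_eq_mul_left (by positivity) h1
      have hc₀' : orderOf c₀ = 2 ^ (n - 1 - 1) := by rw [hc₀, show n - 1 - 1 = n - 2 by omega]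
      have hbig : ∀ v : M, v ^ 4 ≠ 1 → v ∈ zpowers c₀ := fun v hv =>
        mem_zpowers_of_order hm hidx hc₀' hr hr1 hx hx2 hv
      set d : M := c₀ ^ 2 ^ (n - 4) with hd
      have hdo : orderOf d = 4 := by
        rw [hd, orderOf_pow' _ (by positivity), hc₀, Nat.gcd_eq_right (Nat.pow_dvd_pow 2 (by omega)),
          Nat.pow_div (by omega) two_pos, show n - 2 - (n - 4) = 2 by omega]
        norm_num
      -- elements of the cyclic subgroup killed by 4 are powers of `d`
      have hsmall : ∀ v ∈ zpowers c₀, v ^ 4 = 1 → v ∈ zpowers d := by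
        intro v hv h4
        haveI : IsCyclic (zpowers c₀) := isCyclic_zpowers c₀
        obtain ⟨j, rfl⟩ := mem_zpowers_iff.mp hv
        rw [← zpow_natCast, ← zpow_mul] at h4
        have h5 := orderOf_dvd_iff_zpow_eq_one.mpr h4
        rw [hc₀, show n - 2 = (n - 4) + 2 by omega, pow_add] at h5
        push_cast at h5
        norm_num at h5
        obtain ⟨t, ht⟩ := h5
        refine mem_zpowers_iff.mpr ⟨t, ?_⟩
        rw [hd, ← zpow_natCast, ← zpow_mul]
        push_cast
        congr 1
        linarith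
      -- elements of `H` outside `⟨c₀⟩` and inside
      have hCn := Subgroup.normal_of_index_eq_two hidx
      have hdH : (d : X) ∈ H := by
        -- `H ∩ ⟨c₀⟩` has order at least 4
        obtain ⟨K, hK⟩ : ∃ K, K = zpowers c₀ ⊓ H.subgroupOf M := ⟨_, rfl⟩
        have hrel : (zpowers c₀).relIndex (H.subgroupOf M) ∣ 2 :=
          hidx ▸ Subgroup.relIndex_dvd_index_of_normal _ _
        have h1 := card_mul_relIndex_of_le (hK.trans_le inf_le_right : K ≤ H.subgroupOf M)
        rw [hK, Subgroup.inf_relIndex_right, Nat.card_congr (Subgroup.subgroupOfEquivOfLe hHM).toEquiv, hH,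
          ← hK] at h1
        have hK4 : 4 ≤ Nat.card K := by
          have := Nat.le_of_dvd two_pos hrel
          nlinarith
        have hKd : K ≤ zpowers d := fun v hv => by
          rw [hK] at hv
          refine hsmall v hv.1 ?_
          by_contra hv4
          have ho : orderOf (v : X) = 8 := by
            have hd8 : orderOf (v : X) ∣ 2 ^ 3 := by
              have := Subgroup.orderOf_dvd_natCard H (Subgroup.mem_subgroupOf.mp hv.2)
              rwa [hH] at this
            obtain ⟨j, hj, hje⟩ := (Nat.dvd_prime_pow Nat.prime_two).mp hd8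
            have : ¬ orderOf (v : X) ∣ 4 := fun h => hv4 (Subtype.ext (by
              rw [SubmonoidClass.coe_pow, OneMemClass.coe_one]; exact orderOf_dvd_iff_pow_eq_one.mp h))
            interval_cases j <;> simp_all
          apply hna
          have hHc : H = zpowers (v : X) := (Subgroup.eq_of_le_of_card_ge
            (zpowers_le.mpr (Subgroup.mem_subgroupOf.mp hv.2)) (by rw [Nat.card_zpowers, ho, hH])).symm
          rw [hHc]; infer_instance
        have hKeq : K = zpowers d := Subgroup.eq_of_le_of_card_ge hKd (by rw [Nat.card_zpowers, hdo]; exact hK4)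
        have : d ∈ K := hKeq.symm ▸ mem_zpowers d
        rw [hK] at this
        exact Subgroup.mem_subgroupOf.mp this.2
      have hdoX : orderOf (d : X) = 4 := by rw [Subgroup.orderOf_coe, hdo]
      obtain ⟨y, hy, hyc⟩ : ∃ y ∈ H, y ∉ zpowers (d : X) := by
        by_contra hall
        push Not at hall
        have := Subgroup.card_le_of_le (show H ≤ zpowers (d : X) from hall)
        rw [hH, Nat.card_zpowers, hdoX] at this
        omega
      have hyC : (⟨y, hHM hy⟩ : M) ∉ zpowers c₀ := fun h => hyc (by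
        have h4 : (⟨y, hHM hy⟩ : M) ^ 4 = 1 := by
          by_contra h4
          have hd8 : orderOf y ∣ 2 ^ 3 := by
            have := Subgroup.orderOf_dvd_natCard H hy
            rwa [hH] at this
          obtain ⟨j, hj, hje⟩ := (Nat.dvd_prime_pow Nat.prime_two).mp hd8
          have : ¬ orderOf y ∣ 4 := fun h => h4 (Subtype.ext (orderOf_dvd_iff_pow_eq_one.mp h))
          interval_cases j <;> simp_all
          apply hna
          have hHc : H = zpowers y := (Subgroup.eq_of_le_of_card_ge
            (zpowers_le.mpr hy) (by rw [Nat.card_zpowers, hje, hH])).symm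
          rw [hHc]; infer_instance
        obtain ⟨t, ht⟩ := mem_zpowers_iff.mp (hsmall _ h h4)
        exact mem_zpowers_iff.mpr ⟨t, congrArg Subtype.val ht⟩)
      refine ⟨(d : X), y, hdH, hdoX, fun g => ?_, hy, hyc, ?_⟩
      · -- `⟨c₀⟩` is normal in the whole group
        set w : M := ⟨g * (c₀ : X) * g⁻¹, hMn.conj_mem _ c₀.2 g⟩ with hw
        have hw4 : w ^ 4 ≠ 1 := fun h => by
          have h1 : ((c₀ : X)) ^ 4 = 1 := by
            have := congrArg Subtype.val h
            simp only [hw, SubmonoidClass.coe_pow, OneMemClass.coe_one, conj_pow] at this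
            exact conj_eq_one_iff.mp this
          have h2 : c₀ ^ 4 = 1 := Subtype.ext h1
          have h3 := orderOf_dvd_of_pow_eq_one h2
          rw [hc₀, show (4 : ℕ) = 2 ^ 2 by norm_num, Nat.pow_dvd_pow_iff_le_right one_lt_two] at h3
          omega
        obtain ⟨t, ht⟩ := mem_zpowers_iff.mp (hbig w hw4)
        refine mem_zpowers_iff.mpr ⟨t, ?_⟩
        rw [hd, SubmonoidClass.coe_pow, ← conj_pow, ← zpow_natCast, ← zpow_mul, mul_comm, zpow_mul, zpow_natCast]
        congr 1
        exact congrArg Subtype.val ht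
      · have hy' : (⟨y, hHM hy⟩ : M) * c₀ * (⟨y, hHM hy⟩ : M)⁻¹ = c₀ ^ r := by
          have := (Subgroup.mul_mem_iff_of_index_two hidx (a := (⟨y, hHM hy⟩ : M)) (b := x⁻¹)).mpr (by
            simp only [inv_mem_iff]; exact ⟨fun h => absurd h hyC, fun h => absurd h hx⟩)
          obtain ⟨i, hi⟩ := mem_zpowers_iff.mp this
          rw [show (⟨y, hHM hy⟩ : M) = c₀ ^ i * x by rw [hi, inv_mul_cancel_right]]
          calc c₀ ^ i * x * c₀ * (c₀ ^ i * x)⁻¹ = c₀ ^ i * (x * c₀ * x⁻¹) * (c₀ ^ i)⁻¹ := by group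
            _ = c₀ ^ r := by rw [hr]; group
        rw [← card_centralizer_eq_four (by omega) hM hc₀' hyC hy' hr']
        refine (Nat.card_congr ⟨fun s => ⟨⟨s, s.2.1⟩, mem_centralizer_iff.mpr fun b hb => ?_⟩,
          fun s => ⟨((s : M) : X), (s : M).2, mem_centralizer_iff.mpr fun b hb => ?_⟩,
          fun _ => rfl, fun _ => rfl⟩)
        · rw [Set.mem_singleton_iff.mp hb]
          exact Subtype.ext (mem_centralizer_iff.mp s.2.2 y rfl)
        · rw [Set.mem_singleton_iff.mp hb]
          exact congrArg Subtype.val (mem_centralizer_iff.mp s.2 ⟨y, hHM hy⟩ rfl)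
    · -- `M = H`
      have hMH : H = M := Subgroup.eq_of_le_of_card_ge hHM (by rw [hM, hm, hH]; norm_num)
      have hHn : H.Normal := hMH ▸ hMn
      obtain ⟨c, hc, hco, hgn⟩ : ∃ c ∈ H, orderOf c = 4 ∧ ∀ g : X, g * c * g⁻¹ ∈ zpowers c := by
        by_cases hall : ∀ g : X, g * a * g⁻¹ ∈ zpowers a
        · exact ⟨a, haH, hao, hall⟩
        push Not at hall
        obtain ⟨g, hg⟩ := hall
        set y := g * a * g⁻¹ with hy
        have hyH : y ∈ H := hHn.conj_mem a haH g
        have hyo : orderOf y = 4 := by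
          rw [hy, show g * a * g⁻¹ = MulAut.conj g a from rfl, MulEquiv.orderOf_eq, hao]
        obtain ⟨hHK, hinv⟩ := conj_eq_inv_of_card_eight hH hna haH hao hyH hg
        have hay : a ∉ zpowers y := fun h => hg (by
          have := Subgroup.eq_of_le_of_card_ge (zpowers_le.mpr h) (by rw [Nat.card_zpowers, Nat.card_zpowers, hao, hyo])
          exact this.symm ▸ mem_zpowers y)
        have hinv' := (conj_eq_inv_of_card_eight hH hna hyH hyo haH hay).2
        have hg2 : g * g ∈ H := by
          have := Subgroup.mul_self_mem_of_index_two (hMH.symm ▸ hMidx) g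
          exact this
        have hgy : g * y * g⁻¹ = a ∨ g * y * g⁻¹ = a⁻¹ := by
          have he : g * y * g⁻¹ = g * g * a * (g * g)⁻¹ := by rw [hy]; group
          by_cases hga : g * g ∈ zpowers a
          · obtain ⟨t, ht⟩ := mem_zpowers_iff.mp hga
            left; rw [he, ← ht]; group
          · right; rw [he]; exact (conj_eq_inv_of_card_eight hH hna haH hao hg2 hga).2
        have hgH : g ∉ H := fun hgH => by
          refine hg ?_
          by_cases hga : g ∈ zpowers a
          · obtain ⟨t, ht⟩ := mem_zpowers_iff.mp hga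
            exact mem_zpowers_iff.mpr ⟨1, by rw [hy, ← ht]; group⟩
          · rw [hy, (conj_eq_inv_of_card_eight hH hna haH hao hgH hga).2]; exact inv_mem (mem_zpowers a)
        have ha4 : a * a * (a * a) = 1 := by
          have h := pow_orderOf_eq_one a
          rw [hao, show (4 : ℕ) = 2 * 2 by norm_num, pow_mul, sq, sq] at h
          exact h
        have hy4 : y * y * (y * y) = 1 := by
          have h := pow_orderOf_eq_one y
          rw [hyo, show (4 : ℕ) = 2 * 2 by norm_num, pow_mul, sq, sq] at h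
          exact h
        have ha2 : a * a = y * y := by
          calc a * a = a * (y * a * y⁻¹)⁻¹ := by rw [hinv, inv_inv]
            _ = (a * y * a⁻¹) * y⁻¹ := by group
            _ = (y * y)⁻¹ := by rw [hinv']; group
            _ = y * y := inv_eq_of_mul_eq_one_right hy4
        set c := a * y with hcdef
        have hcH : c ∈ H := mul_mem haH hyH
        have hc2 : c * c = a * a := by
          calc c * c = a * (y * a * y⁻¹) * (y * y) := by rw [hcdef]; group
            _ = a * a := by rw [hinv, mul_inv_cancel, one_mul, ha2]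
        have hco : orderOf c = 4 := by
          have h4 : c ^ 2 ^ 2 = 1 := by
            rw [show 2 ^ 2 = 2 * 2 by norm_num, pow_mul, sq, sq, hc2, ha4]
          have h2 : ¬ c ^ 2 ^ 1 = 1 := fun h => by
            rw [pow_one, sq, hc2, ← sq] at h
            have := orderOf_dvd_of_pow_eq_one h
            rw [hao] at this; norm_num at this
          rw [orderOf_eq_prime_pow h2 h4]; norm_num
        have hHc : ∀ h ∈ H, h * c * h⁻¹ ∈ zpowers c := fun h hh => by
          by_cases hhc : h ∈ zpowers c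
          · obtain ⟨t, ht⟩ := mem_zpowers_iff.mp hhc
            exact mem_zpowers_iff.mpr ⟨1, by rw [← ht]; group⟩
          · rw [(conj_eq_inv_of_card_eight hH hna hcH hco hh hhc).2]; exact inv_mem (mem_zpowers c)
        have hgc : g * c * g⁻¹ ∈ zpowers c := by
          have h1 : y * a ∈ zpowers c := by
            have := hHc y hyH
            rwa [show y * c * y⁻¹ = y * a by rw [hcdef]; group] at this
          rw [show g * c * g⁻¹ = (g * a * g⁻¹) * (g * y * g⁻¹) by rw [hcdef]; group, ← hy]
          rcases hgy with h | h <;> rw [h]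
          · exact h1
          · have h2 : a⁻¹ = a * (a * a) := by
              refine inv_eq_of_mul_eq_one_right ?_
              rw [← mul_assoc, ha4]
            rw [h2, ← mul_assoc, ← hc2]
            exact mul_mem h1 (mul_mem (mem_zpowers c) (mem_zpowers c))
        refine ⟨c, hcH, hco, fun g' => ?_⟩
        by_cases hg' : g' ∈ H
        · exact hHc g' hg'
        have hh : g⁻¹ * g' ∈ H := (Subgroup.mul_mem_iff_of_index_two (hMH.symm ▸ hMidx)).mpr
          (by simp only [inv_mem_iff]; exact ⟨fun h => absurd h hgH, fun h => absurd h hg'⟩)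
        obtain ⟨t, ht⟩ := mem_zpowers_iff.mp (hHc _ hh)
        rw [show g' * c * g'⁻¹ = g * ((g⁻¹ * g') * c * (g⁻¹ * g')⁻¹) * g⁻¹ by group, ← ht, ← conj_zpow]
        exact zpow_mem hgc t
      obtain ⟨y, hy, hyc⟩ : ∃ y ∈ H, y ∉ zpowers c := by
        by_contra hall
        push Not at hall
        have := Subgroup.card_le_of_le (show H ≤ zpowers c from hall)
        rw [hH, Nat.card_zpowers, hco] at this
        omega
      refine ⟨c, y, hc, hco, hgn, hy, hyc, ?_⟩
      rw [← hMH]
      obtain ⟨hHK, hinv⟩ := conj_eq_inv_of_card_eight hH hna hc hco hy hyc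
      set A := H ⊓ centralizer ({y} : Set X) with hA
      have hd : Nat.card A ∣ 8 := hH ▸ Subgroup.card_dvd_of_le inf_le_left
      have hyA : y ∈ A := ⟨hy, mem_centralizer_iff.mpr fun b hb => by rw [Set.mem_singleton_iff.mp hb]⟩
      have hzA : c * c ∈ A := ⟨mul_mem hc hc, mem_centralizer_iff.mpr fun b hb => by
        rw [Set.mem_singleton_iff.mp hb]
        have h4 : c * c * (c * c) = 1 := by
          have h := pow_orderOf_eq_one c
          rw [hco, show (4 : ℕ) = 2 * 2 by norm_num, pow_mul, sq, sq] at h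
          exact h
        calc y * (c * c) = (y * c * y⁻¹) * (y * c * y⁻¹) * y := by group
          _ = c * c * y := by rw [hinv, ← mul_inv_rev, inv_eq_of_mul_eq_one_right h4]⟩
      have hne8 : Nat.card A ≠ 8 := fun h8 => by
        have hAH : A = H := Subgroup.eq_of_le_of_card_ge inf_le_left (by rw [hH, h8])
        have hcA : c ∈ A := hAH.symm ▸ hc
        have h1 : y * c * y⁻¹ = c := by
          rw [mem_centralizer_iff.mp hcA.2 y rfl, mul_inv_cancel_right]
        rw [hinv] at h1
        have h2 : c ^ 2 = 1 := by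
          rw [sq]; nth_rw 1 [← h1]; exact inv_mul_cancel c
        have := orderOf_dvd_of_pow_eq_one h2
        rw [hco] at this; norm_num at this
      have hge : 2 < Nat.card A := by
        by_contra hle
        push Not at hle
        have hle' : zpowers (c * c) ≤ A := zpowers_le.mpr hzA
        have hcard : Nat.card (zpowers (c * c)) = 2 := by
          rw [Nat.card_zpowers, ← sq, orderOf_pow, hco]; norm_num
        have h := Subgroup.eq_of_le_of_card_ge hle' (by rw [hcard]; exact hle)
        exact hyc (zpowers_le.mpr (mul_mem (mem_zpowers c) (mem_zpowers c)) (h.symm ▸ hyA))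
      have := Nat.le_of_dvd (by norm_num) hd
      interval_cases hq : Nat.card A <;> simp_all
  termination_by n => n

end Cfsg.Agent.H62
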