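import Cfsg.Agent.H62.QuadraticSL2

/-!
Higman's theorem: abelian `2`-groups on which `SL₂(2ⁿ)` acts with an element of order three fixing
only zero are sums of natural modules.
-/

set_option autoImplicit false
set_option linter.style.haveILetI false
set_option linter.unusedSectionVars false

namespace Cfsg.Agent.H62.Fpf

open Matrix
open Cfsg.Agent.H62.Blocks
open Cfsg.Agent.H62.Quad

universe u v

variable {F : Type v} [Field F] [CharP F 2] {A : Type u} [AddCommGroup A]
  [DistribMulAction (SL2 F) A]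

variable (F A) in
/-- The relation satisfied by the elements of order three without fixed points. -/
def CubeRel : Prop :=
  ∀ t : F, t ≠ 0 → ∀ m : A, m + (upperT t * lowerT t⁻¹ : SL2 F) • m +
    (upperT t * lowerT t⁻¹ : SL2 F) • (upperT t * lowerT t⁻¹ : SL2 F) • m = 0

theorem neg_eq_self' (x : F) : -x = x := CharTwo.neg_eq x

theorem weyl_sq : (weyl : SL2 F) * weyl = 1 := by
  rw [weyl_mul_weyl]
  apply ext2 <;> simp [coe_diagT, neg_eq_self']

theorem weyl_weyl (m : A) : (weyl : SL2 F) • (weyl : SL2 F) • m = m := by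
  rw [← mul_smul, weyl_sq, one_smul]

theorem upperT_upperT (t : F) (m : A) : (upperT t : SL2 F) • (upperT t : SL2 F) • m = m := by
  rw [← mul_smul, ← upperT_add, CharTwo.add_self_eq_zero, upperT_zero, one_smul]

theorem cube_sq {t : F} (ht : t ≠ 0) :
    (upperT t * lowerT t⁻¹ : SL2 F) * (upperT t * lowerT t⁻¹) = lowerT t⁻¹ * upperT t := by
  apply ext2 <;>
    simp [coe_upperT, coe_lowerT, Matrix.mul_apply, Fin.sum_univ_two, ht,
      CharTwo.add_self_eq_zero]

/-- The basic relation. -/
theorem upperT_weyl (h : CubeRel F A) {t : F} (ht : t ≠ 0) (v : A) :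
    (upperT t : SL2 F) • (weyl : SL2 F) • v =
      -((diagT t ht : SL2 F) • v) - (weyl : SL2 F) • (upperT t⁻¹ : SL2 F) • v := by
  have hr := h t ht ((weyl : SL2 F) • v)
  rw [← mul_smul (upperT t * lowerT t⁻¹) (upperT t * lowerT t⁻¹), cube_sq ht] at hr
  have h1 := congrArg (fun m => (upperT t : SL2 F) • m) hr
  simp only [smul_add, smul_zero, mul_smul, upperT_upperT] at h1
  have h2 : (diagT t ht : SL2 F) • v = (upperT t : SL2 F) • (lowerT t⁻¹ : SL2 F) •
      (upperT t : SL2 F) • (weyl : SL2 F) • v := by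
    rw [← rel_diag ht, neg_eq_self', mul_smul, mul_smul, mul_smul]
  have h3 : (lowerT t⁻¹ : SL2 F) • (weyl : SL2 F) • v =
      (weyl : SL2 F) • (upperT t⁻¹ : SL2 F) • v := by
    rw [← mul_smul, lowerT_mul_weyl, neg_eq_self', mul_smul]
  rw [h2, ← h3, ← sub_eq_zero]
  rw [← h1]
  abel

theorem rootDiff_weyl (h : CubeRel F A) {t : F} (ht : t ≠ 0) (v : A) :
    rootDiff t ((weyl : SL2 F) • v) = -((diagT t ht : SL2 F) • v) - (weyl : SL2 F) • (v + v)
      - (weyl : SL2 F) • rootDiff t⁻¹ v := by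
  rw [rootDiff_apply, rootDiff_apply, upperT_weyl h ht, smul_add, smul_sub]
  abel

theorem diagT_one : (diagT 1 one_ne_zero : SL2 F) = 1 := by
  apply ext2 <;> simp [coe_diagT]

theorem rootDiff_weyl_one (h : CubeRel F A) (v : A) :
    rootDiff (1 : F) ((weyl : SL2 F) • v) =
      -v - (weyl : SL2 F) • (v + v) - (weyl : SL2 F) • rootDiff (1 : F) v := by
  rw [rootDiff_weyl h one_ne_zero, diagT_one, one_smul, inv_one]

theorem rootDiff_diagT (s : F) {t : F} (ht : t ≠ 0) (m : A) :
    rootDiff s ((diagT t ht : SL2 F) • m) = (diagT t ht : SL2 F) • rootDiff (s / (t * t)) m := by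
  rw [rootDiff_apply, rootDiff_apply, ← mul_smul, upperT_mul_diagT, mul_smul, smul_sub]

theorem rootDiff_add_arg (s t : F) (m : A) :
    rootDiff (s + t) m = (upperT s : SL2 F) • rootDiff t m + rootDiff s m := by
  simp only [rootDiff_apply, upperT_add, mul_smul, smul_sub]
  abel

theorem rootDiff_zero' (m : A) : rootDiff (0 : F) m = 0 := by
  rw [rootDiff_apply, upperT_zero, one_smul, sub_self]

theorem rootDiff_rootDiff (t : F) (m : A) :
    rootDiff t (rootDiff t m) = -(rootDiff t m + rootDiff t m) := by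
  simp only [rootDiff_apply, smul_sub, upperT_upperT]
  abel

variable (F A) in
/-- The elements killed by two that are fixed by the root group. -/
def fixTwo : AddSubgroup A where
  carrier := {m | m + m = 0 ∧ ∀ s : F, rootDiff s m = 0}
  zero_mem' := ⟨add_zero _, fun s => map_zero _⟩
  add_mem' ha hb := ⟨by rw [add_add_add_comm, ha.1, hb.1, add_zero],
    fun s => by rw [map_add, ha.2 s, hb.2 s, add_zero]⟩
  neg_mem' ha := ⟨by rw [← neg_add, ha.1, neg_zero], fun s => by rw [map_neg, ha.2 s, neg_zero]⟩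

theorem fixTwo_neg {x : A} (hx : x ∈ fixTwo F A) : -x = x :=
  neg_eq_of_add_eq_zero_left hx.1

theorem fixTwo_fixed {x : A} (hx : x ∈ fixTwo F A) (s : F) : (upperT s : SL2 F) • x = x :=
  sub_eq_zero.mp (hx.2 s)

theorem diagT_mem_fixTwo {x : A} (hx : x ∈ fixTwo F A) {t : F} (ht : t ≠ 0) :
    (diagT t ht : SL2 F) • x ∈ fixTwo F A :=
  ⟨by rw [← smul_add, hx.1, smul_zero], fun s => by rw [rootDiff_diagT, hx.2, smul_zero]⟩

theorem scal_eq (h : CubeRel F A) {x : A} (hx : x ∈ fixTwo F A) {t : F} (ht : t ≠ 0) :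
    rootDiff t ((weyl : SL2 F) • x) = (diagT t ht : SL2 F) • x := by
  rw [rootDiff_weyl h ht, hx.1, hx.2, smul_zero, sub_zero, sub_zero,
    fixTwo_neg (diagT_mem_fixTwo hx ht)]

theorem scal_mem (h : CubeRel F A) (t : F) {x : A} (hx : x ∈ fixTwo F A) :
    rootDiff t ((weyl : SL2 F) • x) ∈ fixTwo F A := by
  rcases eq_or_ne t 0 with rfl | ht
  · rw [rootDiff_zero']; exact zero_mem _
  · rw [scal_eq h hx ht]; exact diagT_mem_fixTwo hx ht

/-- The field acts on the fixed points of the root group. -/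
@[reducible]
def fixModule (h : CubeRel F A) : Module F (fixTwo F A) where
  smul t x := ⟨rootDiff t ((weyl : SL2 F) • (x : A)), scal_mem h t x.2⟩
  one_smul x := Subtype.ext (by
    show rootDiff (1 : F) ((weyl : SL2 F) • (x : A)) = _
    rw [scal_eq h x.2 one_ne_zero, diagT_one, one_smul])
  mul_smul s t x := Subtype.ext (by
    show rootDiff (s * t) ((weyl : SL2 F) • (x : A)) =
      rootDiff s ((weyl : SL2 F) • rootDiff t ((weyl : SL2 F) • (x : A)))
    rcases eq_or_ne s 0 with rfl | hs
    · rw [zero_mul, rootDiff_zero', rootDiff_zero']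
    rcases eq_or_ne t 0 with rfl | ht
    · rw [mul_zero, rootDiff_zero', smul_zero, map_zero]
    rw [scal_eq h x.2 (mul_ne_zero hs ht), scal_eq h (scal_mem h t x.2) hs, scal_eq h x.2 ht,
      ← mul_smul, diagT_mul])
  smul_zero t := Subtype.ext (by
    show rootDiff t ((weyl : SL2 F) • (0 : A)) = 0
    rw [smul_zero, map_zero])
  smul_add t x y := Subtype.ext (by
    show rootDiff t ((weyl : SL2 F) • ((x : A) + y)) = _
    rw [smul_add, map_add]
    rfl)
  add_smul s t x := Subtype.ext (by
    show rootDiff (s + t) ((weyl : SL2 F) • (x : A)) = _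
    rw [rootDiff_add_arg, fixTwo_fixed (scal_mem h t x.2) s, add_comm]
    rfl)
  zero_smul x := Subtype.ext (by
    show rootDiff (0 : F) ((weyl : SL2 F) • (x : A)) = _
    rw [rootDiff_zero']
    rfl)

theorem fixModule_smul (h : CubeRel F A) (t : F) (x : fixTwo F A) :
    letI := fixModule h
    ((t • x : fixTwo F A) : A) = rootDiff t ((weyl : SL2 F) • (x : A)) := rfl

theorem eq_zero_of_weyl_mem (h : CubeRel F A) {x : A} (hx : x ∈ fixTwo F A)
    (hwx : (weyl : SL2 F) • x ∈ fixTwo F A) : x = 0 := by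
  have := scal_eq h hx (one_ne_zero : (1 : F) ≠ 0)
  rw [hwx.2, diagT_one, one_smul] at this
  exact this.symm

theorem exists_ne_zero_one [Finite F] (hq : 4 ≤ Nat.card F) : ∃ b : F, b ≠ 0 ∧ b ≠ 1 := by
  obtain ⟨t, ht, ht2⟩ := Blocks.exists_sq_ne_one hq
  exact ⟨t, ht, fun h => ht2 (by rw [h, one_mul])⟩

/-- The computation: a root-stable coset representative is fixed and killed by two. -/
theorem lift_eq [Finite F] (hq : 4 ≤ Nat.card F) (h : CubeRel F A) {v : A}
    (h1 : rootDiff (1 : F) v = 0) (hf : ∀ s : F, rootDiff s v ∈ fixTwo F A)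
    (hz : v + v ∈ fixTwo F A) : v + v = 0 ∧ ∀ s : F, rootDiff s v = 0 := by
  letI := fixModule h
  let z : fixTwo F A := ⟨v + v, hz⟩
  let f : F → fixTwo F A := fun s => ⟨rootDiff s v, hf s⟩
  have hf1 : f 1 = 0 := Subtype.ext h1
  have hfadd : ∀ s t, f (s + t) = f s + f t := fun s t => Subtype.ext (by
    show rootDiff (s + t) v = rootDiff s v + rootDiff t v
    rw [rootDiff_add_arg, fixTwo_fixed (hf t), add_comm])
  have hH : ∀ s t : F, s ≠ 0 → t ≠ 0 →
      t • f (s / (t * t)) + s • z + s • f t⁻¹ = s • f (t / (s * s)) + t • z + t • f s⁻¹ := by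
    have hkey : ∀ s t : F, s ≠ 0 → t ≠ 0 → rootDiff s (rootDiff t ((weyl : SL2 F) • v)) =
        -((t • f (s / (t * t)) + s • z + s • f t⁻¹ : fixTwo F A) : A) := by
      intro s t hs ht
      rw [rootDiff_weyl h ht, map_sub, map_sub, map_neg, rootDiff_diagT]
      simp only [AddSubgroup.coe_add, fixModule_smul, z, f]
      rw [scal_eq h (hf (s / (t * t))) ht]
      abel
    intro s t hs ht
    have := rootDiff_comm s t ((weyl : SL2 F) • v)
    rw [hkey s t hs ht, hkey t s ht hs, neg_inj] at this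
    exact Subtype.ext this
  have h2 : ∀ m : fixTwo F A, m + m = 0 := fun m => Subtype.ext m.2.1
  -- step one
  have hE1 : ∀ x y : F, x ≠ 0 → y ≠ 0 →
      f (x * y) + x • z + x • f y = x • f (y / (x * x)) + z + f (y / x) := by
    intro x y hx hy
    have h0 := congrArg (fun m => y • m) (hH (x * y⁻¹) y⁻¹ (mul_ne_zero hx (inv_ne_zero hy))
      (inv_ne_zero hy))
    have e1 : x * y⁻¹ / (y⁻¹ * y⁻¹) = x * y := by field_simp
    have e2 : y⁻¹ / (x * y⁻¹ * (x * y⁻¹)) = y / (x * x) := by field_simp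
    have e3 : (x * y⁻¹)⁻¹ = y / x := by field_simp
    have e4 : y * y⁻¹ = 1 := mul_inv_cancel₀ hy
    have e5 : y * (x * y⁻¹) = x := by field_simp
    simp only [e1, e2, e3, inv_inv, smul_add, smul_smul, e4, e5, one_smul] at h0
    exact h0
  -- step two
  have hE2 : ∀ a y : F, a ≠ 0 → y ≠ 0 →
      f (a * y) + f y + (a • f y + a • f (y / a) + (z + a • z)) = 0 := by
    intro a y ha hy
    obtain ⟨x, rfl⟩ := FiniteField.isSquare_of_char_two (ringChar.eq F 2) a
    have hx : x ≠ 0 := fun h => ha (by rw [h, zero_mul])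
    have p1 := hE1 x y hx hy
    have p2 := hE1 x (x * y) hx (mul_ne_zero hx hy)
    have e1 : x * y / (x * x) = y / x := by field_simp
    have e2 : x * y / x = y := by field_simp
    rw [e1, e2, ← mul_assoc] at p2
    have p1' := congrArg (fun m => x • m) p1
    simp only [smul_add, smul_smul] at p1'
    linear_combination (norm := (match_scalars <;> ring_nf <;>
      simp [CharTwo.two_eq_zero, CharTwo.add_self_eq_zero])) p2 + p1'
  -- step three
  have hE5 : ∀ b y : F, b ≠ 0 → y ≠ 0 →
      f (b * (y * y)) + f y + ((b * y) • f y + y • f b + (z + y • z)) = 0 := by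
    intro b y hb hy
    have p1 := hE2 (b * y) y (mul_ne_zero hb hy) hy
    have p2 := congrArg (fun m => y • m) (hE2 b 1 hb one_ne_zero)
    simp only [mul_one, one_div, hf1, smul_zero, smul_add, smul_smul, add_zero, zero_add] at p2
    have e1 : y / (b * y) = b⁻¹ := by field_simp
    rw [e1, mul_assoc] at p1
    linear_combination (norm := (match_scalars <;> ring_nf <;>
      simp [CharTwo.two_eq_zero, CharTwo.add_self_eq_zero])) p1 + p2
  obtain ⟨β, hβ0, hβ1⟩ := exists_ne_zero_one hq
  have hβ2 : (1 : F) + β ≠ 0 := fun h => hβ1 (CharTwo.add_eq_zero.mp h).symm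
  have hfy : ∀ y : F, y ≠ 0 → f y + (z + y • z) = 0 := by
    intro y hy
    have q1 := hE5 1 y one_ne_zero hy
    have q2 := hE5 β y hβ0 hy
    have q3 := hE5 (1 + β) y hβ2 hy
    rw [add_mul, one_mul, hfadd, hfadd, add_mul] at q3
    rw [one_mul] at q1
    linear_combination (norm := (match_scalars <;> ring_nf <;>
      simp [CharTwo.two_eq_zero, CharTwo.add_self_eq_zero,
        show (3 : F) = 1 from by linear_combination (CharTwo.two_eq_zero : (2 : F) = 0)]))
      q1 + q2 + q3
  have hz0 : z = 0 := by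
    have r1 := hfy β hβ0
    have r2 := hfy (1 + β) hβ2
    rw [hfadd, hf1] at r2
    linear_combination (norm := (match_scalars <;> ring_nf <;>
      simp [CharTwo.two_eq_zero, CharTwo.add_self_eq_zero,
        show (3 : F) = 1 from by linear_combination (CharTwo.two_eq_zero : (2 : F) = 0)])) r1 + r2
  refine ⟨congrArg Subtype.val hz0, fun s => ?_⟩
  rcases eq_or_ne s 0 with rfl | hs
  · exact rootDiff_zero' v
  · have := hfy s hs
    rw [hz0, smul_zero, add_zero, add_zero] at this
    exact congrArg Subtype.val this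

/-- An invariant subgroup not inside another has an element fixed modulo it. -/
theorem exists_fixed_mod [Finite F] {K W : AddSubgroup A}
    (hK : ∀ s : F, ∀ k ∈ K, rootDiff s k ∈ K) (hW : ∀ s : F, ∀ k ∈ W, rootDiff s k ∈ W)
    (h2 : ∀ s : F, ∀ k ∈ K, rootDiff s (rootDiff s k) ∈ W) (hKW : ¬ K ≤ W) :
    ∃ v ∈ K, v ∉ W ∧ ∀ s : F, rootDiff s v ∈ W := by
  classical
  cases nonempty_fintype F
  have hS : ∀ S : Finset F, ∃ v ∈ K, v ∉ W ∧ ∀ s ∈ S, rootDiff s v ∈ W := by
    intro S
    induction S using Finset.induction_on with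
    | empty =>
      obtain ⟨x, hx, hxW⟩ := SetLike.not_le_iff_exists.mp hKW
      exact ⟨x, hx, hxW, by simp⟩
    | insert a S haS ih =>
      obtain ⟨x, hx, hxW, hxS⟩ := ih
      by_cases ha : rootDiff a x ∈ W
      · refine ⟨x, hx, hxW, fun s hs => ?_⟩
        rcases Finset.mem_insert.mp hs with rfl | hs
        exacts [ha, hxS s hs]
      · refine ⟨rootDiff a x, hK a x hx, ha, fun s hs => ?_⟩
        rcases Finset.mem_insert.mp hs with rfl | hs
        · exact h2 _ x hx
        · rw [rootDiff_comm]; exact hW a _ (hxS s hs)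
  obtain ⟨v, hv, hvW, hvS⟩ := hS Finset.univ
  exact ⟨v, hv, hvW, fun s => hvS s (Finset.mem_univ s)⟩

/-- An element killed by two whose root translates lie in `X + wX` is corrected by `wX`. -/
theorem exists_correction (h : CubeRel F A) {x : A} (hx : rootDiff (1 : F) x = 0)
    {a b : A} (ha : a ∈ fixTwo F A) (hb : b ∈ fixTwo F A) (e : x = a + (weyl : SL2 F) • b) :
    x ∈ fixTwo F A := by
  rw [e, map_add, ha.2, scal_eq h hb one_ne_zero, diagT_one, one_smul, zero_add] at hx
  rw [e, hx, smul_zero, add_zero]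
  exact ha

/-- Every module of exponent two is `X + wX`. -/
theorem exists_decomp [Finite F] (hq : 4 ≤ Nat.card F) (h : CubeRel F A) (m : A) (hm : m + m = 0) :
    ∃ x ∈ fixTwo F A, ∃ y ∈ fixTwo F A, x + (weyl : SL2 F) • y = m := by
  let K : AddSubgroup A :=
    { carrier := {m | m + m = 0}
      zero_mem' := add_zero _
      add_mem' := fun {a b} ha hb => show a + b + (a + b) = 0 by
        rw [add_add_add_comm, show a + a = 0 from ha, show b + b = 0 from hb, add_zero]
      neg_mem' := fun {a} ha => show -a + -a = 0 by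
        rw [← neg_add, show a + a = 0 from ha, neg_zero] }
  let W : AddSubgroup A :=
    { carrier := {m | ∃ x ∈ fixTwo F A, ∃ y ∈ fixTwo F A, x + (weyl : SL2 F) • y = m}
      zero_mem' := ⟨0, zero_mem _, 0, zero_mem _, by rw [smul_zero, add_zero]⟩
      add_mem' := by
        rintro _ _ ⟨x, hx, y, hy, rfl⟩ ⟨x', hx', y', hy', rfl⟩
        exact ⟨x + x', add_mem hx hx', y + y', add_mem hy hy', by rw [smul_add]; abel⟩
      neg_mem' := by
        rintro _ ⟨x, hx, y, hy, rfl⟩
        exact ⟨-x, neg_mem hx, -y, neg_mem hy, by rw [smul_neg]; abel⟩ }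
  suffices hKW : K ≤ W from hKW (show m ∈ K from hm)
  by_contra hne
  have hK : ∀ s : F, ∀ k ∈ K, rootDiff s k ∈ K := fun s k hk => by
    show rootDiff s k + rootDiff s k = 0
    rw [← map_add, show k + k = 0 from hk, map_zero]
  have hWmem : ∀ s : F, ∀ k ∈ W, rootDiff s k ∈ fixTwo F A := by
    rintro s _ ⟨x, hx, y, hy, rfl⟩
    rw [map_add, hx.2, zero_add]
    exact scal_mem h s hy
  obtain ⟨v, hvK, hvW, hv⟩ := exists_fixed_mod (W := W) hK
    (fun s k hk => ⟨_, hWmem s k hk, 0, zero_mem _, by rw [smul_zero, add_zero]⟩)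
    (fun s k hk => by
      rw [rootDiff_rootDiff, show rootDiff s k + rootDiff s k = 0 from hK s k hk, neg_zero]
      exact zero_mem W) hne
  have hN1 : rootDiff (1 : F) v ∈ fixTwo F A := by
    obtain ⟨a, ha, b, hb, e⟩ := hv 1
    refine exists_correction h ?_ ha hb e.symm
    rw [rootDiff_rootDiff, show rootDiff (1 : F) v + rootDiff (1 : F) v = 0 from hK 1 v hvK,
      neg_zero]
  set x := rootDiff (1 : F) v
  set v' := v + (weyl : SL2 F) • x with hv'
  have hv'1 : rootDiff (1 : F) v' = 0 := by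
    rw [hv', map_add, scal_eq h hN1 one_ne_zero, diagT_one, one_smul]
    exact hN1.1
  have hv'f : ∀ s : F, rootDiff s v' ∈ fixTwo F A := by
    intro s
    obtain ⟨a, ha, b, hb, e⟩ := hv s
    have e' : rootDiff s v' = (a + rootDiff s ((weyl : SL2 F) • x)) + (weyl : SL2 F) • b := by
      rw [hv', map_add, ← e]; abel
    refine exists_correction h ?_ (add_mem ha (scal_mem h s hN1)) hb e'
    rw [rootDiff_comm, hv'1, map_zero]
  have hv'2 : v' + v' = 0 := by
    rw [hv', add_add_add_comm, show v + v = 0 from hvK, ← smul_add, hN1.1, smul_zero, add_zero]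
  obtain ⟨-, hfix⟩ := lift_eq hq h hv'1 hv'f (hv'2 ▸ zero_mem _)
  refine hvW ⟨v', ⟨hv'2, hfix⟩, x, hN1, ?_⟩
  rw [hv', add_assoc, ← smul_add, hN1.1, smul_zero, add_zero]

/-- A fixed-point-free module of exponent four has exponent two. -/
theorem exponent_two [Finite F] (hq : 4 ≤ Nat.card F) (h : CubeRel F A)
    (h4 : ∀ m : A, (m + m) + (m + m) = 0) (m : A) : m + m = 0 := by
  let S : AddSubgroup A :=
    { carrier := {m | m + m = 0}
      zero_mem' := add_zero _
      add_mem' := fun {a b} ha hb => show a + b + (a + b) = 0 by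
        rw [add_add_add_comm, show a + a = 0 from ha, show b + b = 0 from hb, add_zero]
      neg_mem' := fun {a} ha => show -a + -a = 0 by
        rw [← neg_add, show a + a = 0 from ha, neg_zero] }
  suffices hS : (⊤ : AddSubgroup A) ≤ S from hS (AddSubgroup.mem_top m)
  by_contra hne
  obtain ⟨v, -, hvS, hv⟩ := exists_fixed_mod (F := F) (K := (⊤ : AddSubgroup A)) (W := S)
    (fun _ _ _ => trivial)
    (fun s k hk => show rootDiff s k + rootDiff s k = 0 by
      rw [← map_add, show k + k = 0 from hk, map_zero])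
    (fun s k _ => show rootDiff s (rootDiff s k) + rootDiff s (rootDiff s k) = 0 by
      rw [rootDiff_rootDiff, ← neg_add, h4, neg_zero]) hne
  have hN1 : rootDiff (1 : F) v ∈ fixTwo F A := by
    obtain ⟨a, ha, b, hb, e⟩ := exists_decomp hq h _ (hv 1)
    refine exists_correction h ?_ ha hb e.symm
    rw [rootDiff_rootDiff, show rootDiff (1 : F) v + rootDiff (1 : F) v = 0 from hv 1, neg_zero]
  set x := rootDiff (1 : F) v
  set v' := v + (weyl : SL2 F) • x with hv'
  have hv'1 : rootDiff (1 : F) v' = 0 := by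
    rw [hv', map_add, scal_eq h hN1 one_ne_zero, diagT_one, one_smul]
    exact hN1.1
  have hvv : v' + v' = v + v := by
    rw [hv', add_add_add_comm, ← smul_add, hN1.1, smul_zero, add_zero]
  have hv'S : ∀ s : F, rootDiff s v' + rootDiff s v' = 0 := fun s => by
    rw [← map_add, hvv, map_add]
    exact hv s
  have hv'f : ∀ s : F, rootDiff s v' ∈ fixTwo F A := by
    intro s
    obtain ⟨a, ha, b, hb, e⟩ := exists_decomp hq h _ (hv'S s)
    refine exists_correction h ?_ ha hb e.symm
    rw [rootDiff_comm, hv'1, map_zero]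
  have hz : v' + v' ∈ fixTwo F A := by
    refine ⟨h4 v', fun s => ?_⟩
    rw [map_add]
    exact hv'S s
  obtain ⟨h0, -⟩ := lift_eq hq h hv'1 hv'f hz
  exact hvS (show v + v = 0 from hvv ▸ h0)

section Natural

variable [Finite F]

/-- The embedding of the natural module given by a fixed point. -/
noncomputable def natMap (h : CubeRel F A) (x : fixTwo F A) : (Fin 2 → F) →+ A :=
  letI := fixModule h
  { toFun := fun c => ((c 0 • x : fixTwo F A) : A) + (weyl : SL2 F) • ((c 1 • x : fixTwo F A) : A)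
    map_zero' := by simp
    map_add' := fun a b => by
      simp only [Pi.add_apply, add_smul, AddSubgroup.coe_add, smul_add]
      abel }

theorem natMap_equivariant (h : CubeRel F A) (x : fixTwo F A) (g : SL2 F) (c : Fin 2 → F) :
    natMap h x ((g : Matrix (Fin 2) (Fin 2) F).mulVec c) = g • natMap h x c := by
  letI := fixModule h
  have hval : ∀ c : Fin 2 → F, natMap h x c =
      ((c 0 • x : fixTwo F A) : A) + (weyl : SL2 F) • ((c 1 • x : fixTwo F A) : A) := fun _ => rfl
  let Good : SL2 F → Prop := fun g => ∀ c : Fin 2 → F,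
    natMap h x ((g : Matrix (Fin 2) (Fin 2) F).mulVec c) = g • natMap h x c
  have hmul : ∀ g g', Good g → Good g' → Good (g * g') := fun g g' h1 h2 c => by
    rw [Matrix.SpecialLinearGroup.coe_mul, ← Matrix.mulVec_mulVec, h1, h2, mul_smul]
  have hu' : ∀ (s : F) (y : fixTwo F A), (upperT s : SL2 F) • (weyl : SL2 F) • (y : A) =
      (weyl : SL2 F) • (y : A) + ((s • y : fixTwo F A) : A) := fun s y => by
    rw [fixModule_smul, rootDiff_apply]
    abel
  have hu : ∀ s, Good (upperT s) := fun s c => by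
    rw [hval, hval, smul_add, fixTwo_fixed (c 0 • x).2, hu', smul_smul]
    simp [coe_upperT, Matrix.mulVec, dotProduct, Fin.sum_univ_two, add_smul]
    abel
  have hl : ∀ s, Good (lowerT s) := fun s c => by
    have hlw : (lowerT s : SL2 F) = weyl * upperT s * weyl := by
      rw [mul_assoc, upperT_mul_weyl, ← mul_assoc, weyl_sq, one_mul, neg_eq_self']
    rw [hval, hval, hlw, mul_smul, mul_smul, smul_add, weyl_weyl, smul_add, hu',
      fixTwo_fixed (c 1 • x).2, smul_add, smul_add, weyl_weyl, smul_smul, ← hlw]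
    simp [coe_lowerT, Matrix.mulVec, dotProduct, Fin.sum_univ_two, add_smul]
    abel
  have hw : Good weyl := by
    rw [weyl_eq]
    exact hmul _ _ (hmul _ _ (hu _) (hl _)) (hu _)
  have hd : ∀ (t : F) (ht : t ≠ 0), Good (diagT t ht) := fun t ht => by
    rw [← rel_diag ht]
    exact hmul _ _ (hmul _ _ (hmul _ _ (hu _) (hl _)) (hu _)) hw
  rcases decomp_lower g with ⟨s, t, y, ht, rfl⟩ | ⟨t, y, ht, rfl⟩
  · exact hmul _ _ (hmul _ _ (hu _) (hd t ht)) (hl _) c
  · exact hmul _ _ (hmul _ _ hw (hd t ht)) (hl _) c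

/-- A fixed-point-free module of exponent two is a sum of natural modules. -/
theorem exists_natural_sum [Finite A] (hq : 4 ≤ Nat.card F) (h : CubeRel F A)
    (h2 : ∀ m : A, m + m = 0) :
    ∃ (k : ℕ) (Φ : (Fin k → Fin 2 → F) ≃+ A),
      ∀ (g : SL2 F) (c : Fin k → Fin 2 → F),
        Φ (fun i => (g : Matrix (Fin 2) (Fin 2) F).mulVec (c i)) = g • Φ c := by
  classical
  letI := fixModule h
  haveI : Module.Finite F (fixTwo F A) := Module.Finite.of_finite
  let b := Module.finBasis F (fixTwo F A)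
  let Φ : (Fin (Module.finrank F (fixTwo F A)) → Fin 2 → F) →+ A :=
    { toFun := fun c => ∑ i, natMap h (b i) (c i)
      map_zero' := by simp
      map_add' := fun c d => by simp [Finset.sum_add_distrib] }
  have hval : ∀ c, Φ c = (((∑ i, c i 0 • b i) : fixTwo F A) : A) +
      (weyl : SL2 F) • (((∑ i, c i 1 • b i) : fixTwo F A) : A) := fun c => by
    show ∑ i, natMap h (b i) (c i) = _
    rw [AddSubgroup.val_finsetSum, AddSubgroup.val_finsetSum, Finset.smul_sum,
      ← Finset.sum_add_distrib]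
    rfl
  have hinj : Function.Injective Φ := by
    refine (injective_iff_map_eq_zero Φ).mpr fun c hc => ?_
    rw [hval] at hc
    set x : fixTwo F A := ∑ i, c i 0 • b i with hx
    set y : fixTwo F A := ∑ i, c i 1 • b i with hy
    have hy0 : (y : A) = 0 := by
      refine eq_zero_of_weyl_mem h y.2 ?_
      rw [eq_neg_of_add_eq_zero_right hc]
      exact neg_mem x.2
    have hx0 : (x : A) = 0 := by rwa [hy0, smul_zero, add_zero] at hc
    have hx1 : x = 0 := Subtype.ext hx0
    have hy1 : y = 0 := Subtype.ext hy0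
    funext i j
    fin_cases j
    · exact Fintype.linearIndependent_iff.mp b.linearIndependent _ hx1 i
    · exact Fintype.linearIndependent_iff.mp b.linearIndependent _ hy1 i
  have hsurj : Function.Surjective Φ := fun m => by
    obtain ⟨x, hx, y, hy, rfl⟩ := exists_decomp hq h m (h2 m)
    refine ⟨fun i => ![b.repr ⟨x, hx⟩ i, b.repr ⟨y, hy⟩ i], ?_⟩
    rw [hval]
    simp [b.sum_repr]
  refine ⟨_, AddEquiv.ofBijective Φ ⟨hinj, hsurj⟩, fun g c => ?_⟩
  show ∑ i, natMap h (b i) ((g : Matrix (Fin 2) (Fin 2) F).mulVec (c i)) =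
    g • ∑ i, natMap h (b i) (c i)
  rw [Finset.smul_sum]
  exact Finset.sum_congr rfl fun i _ => natMap_equivariant h _ g _

end Natural

section Bilinear

variable {B C : Type u} [AddCommGroup B] [DistribMulAction (SL2 F) B] [AddCommGroup C]
  [DistribMulAction (SL2 F) C]

/-- An equivariant biadditive map between such modules vanishes. -/
theorem bilinear_eq_zero [Finite F] (hq : 4 ≤ Nat.card F) (hA : CubeRel F A) (hB : CubeRel F B)
    (hC : CubeRel F C) (hA2 : ∀ a : A, a + a = 0) (hB2 : ∀ b : B, b + b = 0)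
    (hC2 : ∀ c : C, c + c = 0) (β : A →+ B →+ C)
    (hβ : ∀ (g : SL2 F) (a : A) (b : B), β (g • a) (g • b) = g • β a b) (a : A) (b : B) :
    β a b = 0 := by
  obtain ⟨t, ht0, ht1⟩ := exists_ne_zero_one hq
  have huw : ∀ {M : Type u} [AddCommGroup M] [DistribMulAction (SL2 F) M] (s : F) (y : M),
      (upperT s : SL2 F) • (weyl : SL2 F) • y =
        (weyl : SL2 F) • y + rootDiff s ((weyl : SL2 F) • y) := fun s y => by
    rw [rootDiff_apply]; abel
  have hXX : ∀ x ∈ fixTwo F A, ∀ y ∈ fixTwo F B, β x y ∈ fixTwo F C := fun x hx y hy =>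
    ⟨hC2 _, fun s => by
      rw [rootDiff_apply, ← hβ, fixTwo_fixed hx, fixTwo_fixed hy, sub_self]⟩
  -- scalars pass through
  have hright : ∀ x ∈ fixTwo F A, ∀ y ∈ fixTwo F B,
      (∀ s : F, β x (rootDiff s ((weyl : SL2 F) • y)) = rootDiff s ((weyl : SL2 F) • β x y)) := by
    intro x hx y hy
    obtain ⟨c, hc, d, hd, hcd⟩ := exists_decomp hq hC (β x ((weyl : SL2 F) • y)) (hC2 _)
    have key : ∀ s : F, β x (rootDiff s ((weyl : SL2 F) • y)) =
        rootDiff s ((weyl : SL2 F) • d) := fun s => by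
      have h0 := hβ (upperT s) x ((weyl : SL2 F) • y)
      rw [fixTwo_fixed hx, huw, map_add, ← hcd, smul_add, fixTwo_fixed hc, huw] at h0
      rw [← add_assoc] at h0
      exact add_left_cancel h0
    have hd' : d = β x y := by
      have h1 := key 1
      rw [scal_eq hB hy one_ne_zero, scal_eq hC hd one_ne_zero, diagT_one, one_smul,
        one_smul] at h1
      exact h1.symm
    intro s
    rw [key s, hd']
  have hleft : ∀ x ∈ fixTwo F A, ∀ y ∈ fixTwo F B,
      (∀ s : F, β (rootDiff s ((weyl : SL2 F) • x)) y = rootDiff s ((weyl : SL2 F) • β x y)) := by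
    intro x hx y hy
    obtain ⟨c, hc, d, hd, hcd⟩ := exists_decomp hq hC (β ((weyl : SL2 F) • x) y) (hC2 _)
    have key : ∀ s : F, β (rootDiff s ((weyl : SL2 F) • x)) y =
        rootDiff s ((weyl : SL2 F) • d) := fun s => by
      have h0 := hβ (upperT s) ((weyl : SL2 F) • x) y
      rw [fixTwo_fixed hy, huw, map_add, AddMonoidHom.add_apply, ← hcd, smul_add,
        fixTwo_fixed hc, huw] at h0
      rw [← add_assoc] at h0
      exact add_left_cancel h0
    have hd' : d = β x y := by
      have h1 := key 1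
      rw [scal_eq hA hx one_ne_zero, scal_eq hC hd one_ne_zero, diagT_one, one_smul,
        one_smul] at h1
      exact h1.symm
    intro s
    rw [key s, hd']
  -- the fixed part
  have h00 : ∀ x ∈ fixTwo F A, ∀ y ∈ fixTwo F B, β x y = 0 := by
    intro x hx y hy
    letI := fixModule hC
    have h1 := hβ (diagT t ht0) x y
    rw [← scal_eq hA hx ht0, ← scal_eq hB hy ht0, hleft x hx _ (scal_mem hB t hy) t,
      hright x hx y hy t, ← scal_eq hC (hXX x hx y hy) ht0] at h1
    have h2 : t • t • (⟨β x y, hXX x hx y hy⟩ : fixTwo F C) = t • ⟨β x y, hXX x hx y hy⟩ :=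
      Subtype.ext h1
    rw [← sub_eq_zero, smul_smul, ← sub_smul, smul_eq_zero] at h2
    rcases h2 with h2 | h2
    · exfalso
      refine ht1 (mul_left_cancel₀ ht0 ?_)
      rw [mul_one]
      exact sub_eq_zero.mp h2
    · exact congrArg Subtype.val h2
  have h01 : ∀ x ∈ fixTwo F A, ∀ y ∈ fixTwo F B, β x ((weyl : SL2 F) • y) = 0 := by
    intro x hx y hy
    have m1 : β x ((weyl : SL2 F) • y) ∈ fixTwo F C := by
      refine ⟨hC2 _, fun s => ?_⟩
      rw [rootDiff_apply, ← hβ, fixTwo_fixed hx, huw, map_add, add_sub_cancel_left]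
      exact h00 x hx _ (scal_mem hB s hy)
    refine eq_zero_of_weyl_mem hC m1 ⟨hC2 _, fun s => ?_⟩
    rw [← hβ, weyl_weyl, rootDiff_apply, ← hβ, fixTwo_fixed hy, huw, map_add,
      AddMonoidHom.add_apply, add_sub_cancel_left]
    exact h00 _ (scal_mem hA s hx) y hy
  have h10 : ∀ x ∈ fixTwo F A, ∀ y ∈ fixTwo F B, β ((weyl : SL2 F) • x) y = 0 := by
    intro x hx y hy
    have := hβ weyl x ((weyl : SL2 F) • y)
    rw [weyl_weyl, h01 x hx y hy, smul_zero] at this
    exact this
  obtain ⟨x, hx, x', hx', rfl⟩ := exists_decomp hq hA a (hA2 a)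
  obtain ⟨y, hy, y', hy', rfl⟩ := exists_decomp hq hB b (hB2 b)
  rw [map_add β, AddMonoidHom.add_apply, map_add, map_add, hβ weyl x' y', h00 x hx y hy,
    h01 x hx y' hy', h10 x' hx' y hy, h00 x' hx' y' hy', smul_zero, add_zero, add_zero]

end Bilinear

end Cfsg.Agent.H62.Fpf
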