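import Cfsg.Agent.H62.FpfSL2
import Cfsg.Agent.H31.Stable

/-!
A normal `2`-subgroup with quotient `SL₂(2ⁿ)` and a fixed-point-free element of order three is
elementary abelian.
-/

set_option autoImplicit false
set_option linter.style.haveILetI false
set_option linter.unusedSectionVars false

namespace Cfsg.Agent.H62.Fpf

open Matrix
open Cfsg.Agent.H62.Blocks
open Cfsg.Agent.H62.Quad
open scoped IsMulCommutative commutatorElement

universe u v

variable {F : Type v} [Field F] [CharP F 2]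

/-- Elements of order three are conjugate to `u(t) l(1/t)`. -/
theorem exists_conj_cube [Finite F] {x : SL2 F} (hx3 : x ^ 3 = 1) (hx1 : x ≠ 1) {t : F}
    (ht : t ≠ 0) : ∃ P : SL2 F, P * (upperT t * lowerT t⁻¹) = x * P := by
  have hdet := det_eq x
  set M := (x : Matrix (Fin 2) (Fin 2) F) with hM
  have h3 : M * M * M = 1 := by
    rw [hM, ← Matrix.SpecialLinearGroup.coe_mul, ← Matrix.SpecialLinearGroup.coe_mul, ← pow_two,
      ← pow_succ, hx3, Matrix.SpecialLinearGroup.coe_one]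
  have e00 := congrFun (congrFun h3 0) 0
  have e01 := congrFun (congrFun h3 0) 1
  have e10 := congrFun (congrFun h3 1) 0
  have e11 := congrFun (congrFun h3 1) 1
  simp [Matrix.mul_apply, Fin.sum_univ_two] at e00 e01 e10 e11
  have h2 : (2 : F) = 0 := CharTwo.two_eq_zero
  have htr : M 0 0 + M 1 1 = 1 := by
    by_contra hne
    have hsq : (M 0 0 + M 1 1) * (M 0 0 + M 1 1) + 1 ≠ 0 := fun h => by
      refine hne ?_
      have : (M 0 0 + M 1 1 + 1) * (M 0 0 + M 1 1 + 1) = 0 := by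
        linear_combination h + (M 0 0 + M 1 1) * h2
      exact CharTwo.add_eq_zero.mp (mul_self_eq_zero.mp this)
    have hb : M 0 1 = 0 := by
      refine (mul_eq_zero.mp ?_).resolve_left hsq
      linear_combination e01 + M 0 1 * hdet + M 0 1 * h2
    have hc : M 1 0 = 0 := by
      refine (mul_eq_zero.mp ?_).resolve_left hsq
      linear_combination e10 + M 1 0 * hdet + M 1 0 * h2
    rw [hb, hc] at hdet e00
    have h1 : M 0 0 * M 0 0 * M 0 0 = 1 := by linear_combination e00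
    have hne1 : M 0 0 ≠ 1 := fun h => by
      apply hx1
      have h11 : M 1 1 = 1 := by rw [h] at hdet; linear_combination hdet
      apply ext2 <;> simp [← hM, h, hb, hc, h11]
    have hq : M 0 0 * M 0 0 + M 0 0 + 1 = 0 := by
      refine (mul_eq_zero.mp ?_).resolve_left (sub_ne_zero.mpr hne1)
      linear_combination h1
    apply hne
    have h4 : M 0 0 * (M 0 0 + M 1 1 - 1) = 0 := by
      linear_combination hdet + hq - M 0 0 * h2
    rcases mul_eq_zero.mp h4 with h | h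
    · rw [h] at h1; simp at h1
    · exact sub_eq_zero.mp h
  -- a vector with independent image
  let D : F → F → F := fun v0 v1 =>
    v0 * (M 1 0 * v0 + M 1 1 * v1) - v1 * (M 0 0 * v0 + M 0 1 * v1)
  obtain ⟨v0, v1, hD⟩ : ∃ v0 v1, D v0 v1 ≠ 0 := by
    by_contra hne
    simp only [not_exists, not_not] at hne
    have d1 := hne 1 0
    have d2 := hne 0 1
    have d3 := hne 1 1
    simp only [D] at d1 d2 d3
    exact one_ne_zero (α := F) (by linear_combination d3 - d1 - d2 - htr + M 0 0 * h2)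
  obtain ⟨c, hc⟩ := FiniteField.isSquare_of_char_two (ringChar.eq F 2) ((t * D v0 v1)⁻¹)
  let p00 := c * v0
  let p10 := c * v1
  let p01 := t * (M 0 0 * p00 + M 0 1 * p10)
  let p11 := t * (M 1 0 * p00 + M 1 1 * p10)
  have hP : (!![p00, p01; p10, p11]).det = 1 := by
    rw [det_fin_two_of]
    have : c * c * (t * D v0 v1) = 1 := by rw [← hc, inv_mul_cancel₀ (mul_ne_zero ht hD)]
    simp only [p00, p10, p01, p11, D] at *
    linear_combination this
  let P : SL2 F := ⟨_, hP⟩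
  have hPv : (P : Matrix (Fin 2) (Fin 2) F) = !![p00, p01; p10, p11] := rfl
  refine ⟨P, ?_⟩
  have h11 : M 1 1 = M 0 0 + 1 := by linear_combination htr - M 0 0 * h2
  apply ext2 <;>
    simp [← hM, hPv, coe_upperT, coe_lowerT, Matrix.mul_apply, Fin.sum_univ_two, p00, p10, p01,
      p11, ht, CharTwo.add_self_eq_zero] <;>
    first
      | (field_simp; done)
      | linear_combination t * c * v0 * h2 + t * c * v0 * hdet -
          (t * c * v0 * M 0 0 + t * c * v1 * M 0 1) * htr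
      | linear_combination t * c * v1 * h2 + t * c * v1 * hdet -
          (t * c * v1 * M 1 1 + t * c * v0 * M 1 0) * htr

section Action

variable {G : Type u} [Group G] (f : G →* SL2 F) (hf : Function.Surjective f) (N : Subgroup G)
  [N.Normal] [IsMulCommutative N] (hN : ∀ q : G, f q = 1 → ∀ n ∈ N, q * n * q⁻¹ = n)

/-- The action of `SL₂(F)` on a section centralized by the kernel. -/
noncomputable def actHom : SL2 F →* MulAut N :=
  f.liftOfSurjective hf ⟨MulAut.conjNormal, fun q hq => MonoidHom.mem_ker.mpr (MulEquiv.ext fun n =>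
    Subtype.ext (hN q (MonoidHom.mem_ker.mp hq) n n.2))⟩

theorem actHom_apply (g : G) (n : N) :
    ((actHom f hf N hN (f g) n : N) : G) = g * (n : G) * g⁻¹ := by
  rw [actHom]
  erw [MonoidHom.liftOfRightInverse_comp_apply]
  exact MulAut.conjNormal_apply g n

/-- The action as a distributive action on the additive group. -/
@[reducible]
noncomputable def sectionAction : DistribMulAction (SL2 F) (Additive N) where
  smul g m := Additive.ofMul (actHom f hf N hN g m.toMul)
  one_smul m := by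
    show Additive.ofMul (actHom f hf N hN 1 m.toMul) = m
    rw [map_one]
    rfl
  mul_smul g g' m := by
    show Additive.ofMul (actHom f hf N hN (g * g') m.toMul) = _
    rw [map_mul]
    rfl
  smul_zero g := congrArg Additive.ofMul (map_one (actHom f hf N hN g))
  smul_add g a b := congrArg Additive.ofMul (map_mul (actHom f hf N hN g) a.toMul b.toMul)

theorem sectionAction_smul (g : G) (m : Additive N) :
    letI := sectionAction f hf N hN
    (((f g • m).toMul : N) : G) = g * (m.toMul : N) * g⁻¹ :=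
  actHom_apply f hf N hN g m.toMul

theorem sectionAction_cubeRel [Finite F] {x : G} (hx3 : f x ^ 3 = 1) (hx1 : f x ≠ 1)
    (hfix : ∀ n ∈ N, x * n * x⁻¹ = n → n = 1) :
    letI := sectionAction f hf N hN
    CubeRel F (Additive N) := by
  letI := sectionAction f hf N hN
  intro t ht m
  set g := (upperT t * lowerT t⁻¹ : SL2 F) with hg
  obtain ⟨P, hP⟩ := exists_conj_cube hx3 hx1 ht
  obtain ⟨p, rfl⟩ := hf P
  have hgy : g = f (p⁻¹ * x * p) := by
    rw [map_mul, map_mul, map_inv, mul_assoc, ← hP, inv_mul_cancel_left]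
  have hg3 : g * (g * g) = 1 := by
    have : g = (f p)⁻¹ * f x * f p := by rw [hgy, map_mul, map_mul, map_inv]
    have hx3' : f x * f x * f x = 1 := by rw [← hx3, pow_succ, pow_two]
    rw [this, show (f p)⁻¹ * f x * f p * ((f p)⁻¹ * f x * f p * ((f p)⁻¹ * f x * f p)) =
      (f p)⁻¹ * (f x * f x * f x) * f p by group, hx3']
    group
  set s := m + g • m + g • g • m with hs
  have hgs : g • s = s := by
    have h3 : g • g • g • m = m := by
      rw [← mul_smul, ← mul_smul, mul_assoc, hg3, one_smul]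
    rw [hs, smul_add, smul_add, h3]
    abel
  rw [hgy] at hgs
  have h := congrArg (fun a : Additive N => ((a.toMul : N) : G)) hgs
  simp only [sectionAction_smul f hf N hN] at h
  set n := ((s.toMul : N) : G) with hn
  have hfixed : x * (p * n * p⁻¹) * x⁻¹ = p * n * p⁻¹ := by
    calc x * (p * n * p⁻¹) * x⁻¹ = p * ((p⁻¹ * x * p) * n * (p⁻¹ * x * p)⁻¹) * p⁻¹ := by group
      _ = p * n * p⁻¹ := by rw [h]
  have h1 := hfix _ ((inferInstance : N.Normal).conj_mem n s.toMul.2 p) hfixed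
  rw [conj_eq_one_iff] at h1
  exact Additive.toMul.injective (Subtype.ext h1)

end Action

theorem mem_of_orderOf_two_pow {G : Type u} [Group G] {Q : Subgroup G} (hQ : IsPGroup 2 Q) {x : G}
    (hx : orderOf x = 3) : x ∉ Q := fun h => by
  obtain ⟨k, hk⟩ := hQ ⟨x, h⟩
  have h1 : x ^ 2 ^ k = 1 := congrArg Subtype.val hk
  have h2 := orderOf_dvd_of_pow_eq_one h1
  rw [hx] at h2
  have := (Nat.prime_dvd_prime_iff_eq Nat.prime_three Nat.prime_two).mp
    (Nat.prime_three.dvd_of_dvd_pow h2)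
  omega

theorem omega_center_ne_bot {G : Type u} [Group G] [Finite G] {Q : Subgroup G} (hQ : IsPGroup 2 Q)
    (hQ0 : Q ≠ ⊥) : Cfsg.omegaOne 2 (Q ⊓ Subgroup.centralizer (Q : Set G)) ≠ ⊥ := by
  haveI : Nontrivial Q := (Subgroup.nontrivial_iff_ne_bot Q).mpr hQ0
  haveI : Nontrivial (Subgroup.center Q) := hQ.center_nontrivial
  obtain ⟨n, hn0, hn⟩ := (hQ.to_subgroup (Subgroup.center Q)).nontrivial_iff_card.mp inferInstance
  haveI := Fact.mk Nat.prime_two
  obtain ⟨z, hz⟩ := exists_prime_orderOf_dvd_card' (G := Subgroup.center Q) 2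
    (hn ▸ dvd_pow_self 2 hn0.ne')
  intro h
  have hm : (((z : Q) : G)) ∈ Cfsg.omegaOne 2 (Q ⊓ Subgroup.centralizer (Q : Set G)) := by
    refine H31.mem_omegaOne ⟨(z : Q).2, Subgroup.mem_centralizer_iff.mpr fun y hy => ?_⟩ ?_
    · exact congrArg Subtype.val (Subgroup.mem_center_iff.mp z.2 ⟨y, hy⟩)
    · have := congrArg (fun w : Subgroup.center Q => ((w : Q) : G)) (hz ▸ pow_orderOf_eq_one z)
      simpa using this
  rw [h, Subgroup.mem_bot] at hm
  have : z = 1 := Subtype.ext (Subtype.ext hm)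
  rw [this, orderOf_one] at hz
  omega

/-- The main induction: `Q` is elementary abelian. -/
theorem elementary [Finite F] (hq : 4 ≤ Nat.card F) : ∀ (k : ℕ) (G : Type u) [Group G] [Finite G]
    (Q : Subgroup G) [Q.Normal] (f : G →* SL2 F) (x : G), Nat.card G = k → IsPGroup 2 Q →
    Function.Surjective f → (∀ g, f g = 1 ↔ g ∈ Q) → orderOf x = 3 →
    (∀ q ∈ Q, x * q * x⁻¹ = q → q = 1) →
    (∀ a ∈ Q, ∀ b ∈ Q, a * b = b * a) ∧ ∀ a ∈ Q, a * a = 1 := by
  intro k
  induction k using Nat.strong_induction_on with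
  | _ k IH =>
  intro G _ _ Q _ f x hk hQ hf hker hx hfix
  by_cases hQ0 : Q = ⊥
  · subst hQ0
    simp
  have hxQ : f x ≠ 1 := fun h => mem_of_orderOf_two_pow hQ hx ((hker x).mp h)
  have hx3 : x ^ 3 = 1 := hx ▸ pow_orderOf_eq_one x
  have hfx3 : f x ^ 3 = 1 := by rw [← map_pow, hx3, map_one]
  set Z := Cfsg.omegaOne 2 (Q ⊓ Subgroup.centralizer (Q : Set G)) with hZ
  haveI : Z.Normal := H31.normal_omegaOne_center Q
  have hZQ : Z ≤ Q := (H31.omegaOne_le 2 _).trans inf_le_left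
  have hZc : ∀ z ∈ Z, ∀ q ∈ Q, q * z = z * q := fun z hz q hq =>
    Subgroup.mem_centralizer_iff.mp (Subgroup.mem_inf.mp (H31.omegaOne_le 2 _ hz)).2 q hq
  have hZel := H31.elem_omegaOne_center 2 Q
  rw [← hZ] at hZel
  -- the quotient
  let π := QuotientGroup.mk' Z
  have hπ : Function.Surjective π := QuotientGroup.mk'_surjective Z
  let Q' := Q.map π
  haveI hQ'n : Q'.Normal := (inferInstance : Q.Normal).map π hπ
  let f' : G ⧸ Z →* SL2 F := QuotientGroup.lift Z f (fun z hz => (hker z).mpr (hZQ hz))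
  have hf'π : ∀ g, f' (π g) = f g := fun g => rfl
  have hmemQ' : ∀ g, π g ∈ Q' ↔ g ∈ Q := by
    intro g
    constructor
    · rintro ⟨q, hq, hqg⟩
      have : q⁻¹ * g ∈ Z := (QuotientGroup.eq).mp hqg
      simpa using mul_mem hq (hZQ this)
    · exact fun h => Subgroup.mem_map_of_mem π h
  have hker' : ∀ g, f' g = 1 ↔ g ∈ Q' := fun g => by
    obtain ⟨g, rfl⟩ := hπ g
    rw [hf'π, hker, hmemQ']
  have hx' : orderOf (π x) = 3 := by
    haveI := Fact.mk Nat.prime_three
    refine orderOf_eq_prime (by rw [← map_pow, hx3, map_one]) fun h => hxQ ?_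
    rw [← hf'π, h, map_one]
  have hfix' : ∀ q ∈ Q', π x * q * (π x)⁻¹ = q → q = 1 := by
    rintro _ ⟨q, hq, rfl⟩ heq
    rw [← map_inv, ← map_mul, ← map_mul] at heq
    have hc : (x * q * x⁻¹)⁻¹ * q ∈ Z := (QuotientGroup.eq).mp heq
    let φ : Z → Z := fun z =>
      ⟨x * z * x⁻¹ * (z : G)⁻¹, mul_mem ((inferInstance : Z.Normal).conj_mem z z.2 x) (inv_mem z.2)⟩
    have hφ : Function.Injective φ := by
      intro a b hab
      have h : x * a * x⁻¹ * (a : G)⁻¹ = x * b * x⁻¹ * (b : G)⁻¹ := congrArg Subtype.val hab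
      have hw : (a : G) * (b : G)⁻¹ = 1 := by
        refine hfix _ (mul_mem (hZQ a.2) (inv_mem (hZQ b.2))) ?_
        have hcm := H31.elem_comm hZel ((inferInstance : Z.Normal).conj_mem _ (inv_mem b.2) x) a.2
        calc x * ((a : G) * (b : G)⁻¹) * x⁻¹
            = (x * a * x⁻¹ * (a : G)⁻¹) * ((a : G) * (x * (b : G)⁻¹ * x⁻¹)) := by group
          _ = (x * b * x⁻¹ * (b : G)⁻¹) * ((x * (b : G)⁻¹ * x⁻¹) * a) := by rw [h, hcm]
          _ = (x * b * x⁻¹) * ((b : G)⁻¹ * (x * (b : G)⁻¹ * x⁻¹)) * a := by group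
          _ = (x * b * x⁻¹) * ((x * (b : G)⁻¹ * x⁻¹) * (b : G)⁻¹) * a := by
            rw [H31.elem_comm hZel (inv_mem b.2)
              ((inferInstance : Z.Normal).conj_mem _ (inv_mem b.2) x)]
          _ = (b : G)⁻¹ * a := by group
          _ = (a : G) * (b : G)⁻¹ := H31.elem_comm hZel (inv_mem b.2) a.2
      exact Subtype.ext (mul_inv_eq_one.mp hw)
    obtain ⟨z, hz⟩ := (Finite.injective_iff_surjective.mp hφ) ⟨_, hc⟩
    have hz' : x * z * x⁻¹ * (z : G)⁻¹ = (x * q * x⁻¹)⁻¹ * q := congrArg Subtype.val hz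
    have h1 : q * (z : G) = 1 := by
      refine hfix _ (mul_mem hq (hZQ z.2)) ?_
      calc x * (q * z) * x⁻¹ = (x * q * x⁻¹) * ((x * z * x⁻¹ * (z : G)⁻¹) * z) := by group
        _ = q * z := by rw [hz']; group
    have : q = (z : G)⁻¹ := eq_inv_of_mul_eq_one_left h1
    exact (QuotientGroup.eq_one_iff q).mpr (this ▸ inv_mem z.2)
  have hcard : Nat.card (G ⧸ Z) < k := by
    rw [← hk, Subgroup.card_eq_card_quotient_mul_card_subgroup Z]
    refine lt_mul_of_one_lt_right Nat.card_pos ?_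
    exact Subgroup.one_lt_card_iff_ne_bot Z |>.mpr (omega_center_ne_bot hQ hQ0)
  have hf' : Function.Surjective f' := fun y => by
    obtain ⟨g, rfl⟩ := hf y
    exact ⟨π g, hf'π g⟩
  obtain ⟨hcomm', hexp'⟩ := IH _ hcard (G ⧸ Z) Q' f' (π x) rfl (hQ.map π) hf' hker' hx' hfix'
  haveI : IsMulCommutative Q' := ⟨⟨fun a b => Subtype.ext (hcomm' a a.2 b b.2)⟩⟩
  haveI : IsMulCommutative Z := hZel.1
  have hN' : ∀ g : G ⧸ Z, f' g = 1 → ∀ n ∈ Q', g * n * g⁻¹ = n := fun g hg n hn => by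
    rw [hcomm' g ((hker' g).mp hg) n hn, mul_inv_cancel_right]
  have hNZ : ∀ g : G, f g = 1 → ∀ n ∈ Z, g * n * g⁻¹ = n := fun g hg n hn => by
    rw [hZc n hn g ((hker g).mp hg), mul_inv_cancel_right]
  -- the commutator pairing
  letI iQ := sectionAction f' hf' Q' hN'
  letI iZ := sectionAction f hf Z hNZ
  have hcubQ : CubeRel F (Additive Q') :=
    sectionAction_cubeRel f' hf' Q' hN' (by rw [hf'π]; exact hfx3) (by rw [hf'π]; exact hxQ) hfix'
  have hcubZ : CubeRel F (Additive Z) :=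
    sectionAction_cubeRel f hf Z hNZ hfx3 hxQ fun n hn h => hfix n (hZQ hn) h
  have hQ2 : ∀ a : Additive Q', a + a = 0 := fun a =>
    Additive.toMul.injective (Subtype.ext (hexp' _ a.toMul.2))
  have hZ2 : ∀ a : Additive Z, a + a = 0 := fun a =>
    Additive.toMul.injective (Subtype.ext (by
      show (a.toMul : G) * (a.toMul : G) = 1
      rw [← pow_two]
      exact hZel.2 _ a.toMul.2))
  have hcz : ∀ a ∈ Q, ∀ b ∈ Q, ⁅a, b⁆ ∈ Z := by
    intro a ha b hb
    rw [← QuotientGroup.eq_one_iff, ← QuotientGroup.mk'_apply, map_commutatorElement,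
      commutatorElement_def, hcomm' _ ((hmemQ' a).mpr ha) _ ((hmemQ' b).mpr hb)]
    simp [π, mul_assoc]
  have hmulL : ∀ a ∈ Q, ∀ b ∈ Q, ∀ c ∈ Q, ⁅a * b, c⁆ = ⁅a, c⁆ * ⁅b, c⁆ := by
    intro a ha b hb c hc
    calc ⁅a * b, c⁆ = a * ⁅b, c⁆ * a⁻¹ * ⁅a, c⁆ := by simp only [commutatorElement_def]; group
      _ = ⁅b, c⁆ * ⁅a, c⁆ := by rw [hZc _ (hcz b hb c hc) a ha, mul_inv_cancel_right]
      _ = ⁅a, c⁆ * ⁅b, c⁆ := H31.elem_comm hZel (hcz b hb c hc) (hcz a ha c hc)
  have hmulR : ∀ a ∈ Q, ∀ b ∈ Q, ∀ c ∈ Q, ⁅a, b * c⁆ = ⁅a, b⁆ * ⁅a, c⁆ := by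
    intro a ha b hb c hc
    calc ⁅a, b * c⁆ = ⁅a, b⁆ * (b * ⁅a, c⁆ * b⁻¹) := by simp only [commutatorElement_def]; group
      _ = ⁅a, b⁆ * ⁅a, c⁆ := by rw [hZc _ (hcz a ha c hc) b hb, mul_inv_cancel_right]
  have hrep : ∀ a : Additive Q', ∃ q ∈ Q, π q = ((a.toMul : Q') : G ⧸ Z) := fun a => a.toMul.2
  choose r hrQ hr using hrep
  let β0 : Additive Q' → Additive Q' → Additive Z := fun a b =>
    Additive.ofMul ⟨⁅r a, r b⁆, hcz _ (hrQ a) _ (hrQ b)⟩
  have hindep : ∀ (a b : Additive Q') (p q : G), p ∈ Q → q ∈ Q →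
      π p = ((a.toMul : Q') : G ⧸ Z) → π q = ((b.toMul : Q') : G ⧸ Z) →
      (((β0 a b).toMul : Z) : G) = ⁅p, q⁆ := by
    intro a b p q hp hq hpa hqb
    show ⁅r a, r b⁆ = ⁅p, q⁆
    have h1 : p⁻¹ * r a ∈ Z := (QuotientGroup.eq).mp (hpa.trans (hr a).symm)
    have h2 : q⁻¹ * r b ∈ Z := (QuotientGroup.eq).mp (hqb.trans (hr b).symm)
    have e1 : ∀ z ∈ Z, ∀ c ∈ Q, ⁅z, c⁆ = 1 := fun z hz c hc => by
      rw [commutatorElement_def, ← hZc z hz c hc]; group
    have e2 : ∀ z ∈ Z, ∀ c ∈ Q, ⁅c, z⁆ = 1 := fun z hz c hc => by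
      rw [commutatorElement_def, hZc z hz c hc]; group
    rw [show r a = p * (p⁻¹ * r a) by group, show r b = q * (q⁻¹ * r b) by group,
      hmulL p hp _ (hZQ h1) _ (mul_mem hq (hZQ h2)), hmulR p hp q hq _ (hZQ h2),
      e1 _ h1 _ (mul_mem hq (hZQ h2)), e2 _ h2 p hp, mul_one, mul_one]
  let β : Additive Q' →+ Additive Q' →+ Additive Z :=
    AddMonoidHom.mk' (fun a => AddMonoidHom.mk' (β0 a) (fun b c => by
      apply Additive.toMul.injective
      apply Subtype.ext
      rw [hindep a (b + c) (r a) (r b * r c) (hrQ a) (mul_mem (hrQ b) (hrQ c)) (hr a)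
        (by rw [map_mul, hr b, hr c]; rfl)]
      exact hmulR _ (hrQ a) _ (hrQ b) _ (hrQ c))) (fun a b => by
      refine AddMonoidHom.ext fun c => ?_
      apply Additive.toMul.injective
      apply Subtype.ext
      show (((β0 (a + b) c).toMul : Z) : G) = _
      rw [hindep (a + b) c (r a * r b) (r c) (mul_mem (hrQ a) (hrQ b)) (hrQ c)
        (by rw [map_mul, hr a, hr b]; rfl) (hr c)]
      exact hmulL _ (hrQ a) _ (hrQ b) _ (hrQ c))
  have hβ : ∀ (g : SL2 F) (a b : Additive Q'), β (g • a) (g • b) = g • β a b := by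
    intro g a b
    obtain ⟨g, rfl⟩ := hf g
    apply Additive.toMul.injective
    apply Subtype.ext
    have hsa : ∀ c : Additive Q', π (g * r c * g⁻¹) = (((f g • c).toMul : Q') : G ⧸ Z) := fun c => by
      rw [map_mul, map_mul, map_inv, hr c, ← hf'π g, sectionAction_smul f' hf' Q' hN']
    rw [sectionAction_smul f hf Z hNZ]
    show (((β0 (f g • a) (f g • b)).toMul : Z) : G) = g * ⁅r a, r b⁆ * g⁻¹
    rw [hindep _ _ (g * r a * g⁻¹) (g * r b * g⁻¹) ((inferInstance : Q.Normal).conj_mem _ (hrQ a) g)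
      ((inferInstance : Q.Normal).conj_mem _ (hrQ b) g) (hsa a) (hsa b)]
    simp only [commutatorElement_def]
    group
  have hcommQ : ∀ a ∈ Q, ∀ b ∈ Q, a * b = b * a := by
    intro a ha b hb
    have h0 := bilinear_eq_zero hq hcubQ hcubQ hcubZ hQ2 hQ2 hZ2 β hβ
      (Additive.ofMul ⟨π a, (hmemQ' a).mpr ha⟩) (Additive.ofMul ⟨π b, (hmemQ' b).mpr hb⟩)
    have h1 := hindep (Additive.ofMul ⟨π a, (hmemQ' a).mpr ha⟩)
      (Additive.ofMul ⟨π b, (hmemQ' b).mpr hb⟩) a b ha hb rfl rfl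
    exact commutatorElement_eq_one_iff_mul_comm.mp
      (h1.symm.trans (congrArg (fun c : Additive Z => ((c.toMul : Z) : G)) h0))
  refine ⟨hcommQ, fun a ha => ?_⟩
  haveI : IsMulCommutative Q := ⟨⟨fun c d => Subtype.ext (hcommQ c c.2 d d.2)⟩⟩
  have hNQ : ∀ g : G, f g = 1 → ∀ n ∈ Q, g * n * g⁻¹ = n := fun g hg n hn => by
    rw [hcommQ g ((hker g).mp hg) n hn, mul_inv_cancel_right]
  letI := sectionAction f hf Q hNQ
  have h4 : ∀ m : Additive Q, (m + m) + (m + m) = 0 := fun m => by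
    apply Additive.toMul.injective
    apply Subtype.ext
    show ((m.toMul : Q) : G) * (m.toMul : Q) * (((m.toMul : Q) : G) * (m.toMul : Q)) = 1
    have hmz : ((m.toMul : Q) : G) * (m.toMul : Q) ∈ Z := by
      rw [← QuotientGroup.eq_one_iff, ← QuotientGroup.mk'_apply, map_mul]
      exact hexp' _ ((hmemQ' _).mpr m.toMul.2)
    rw [← pow_two]
    exact hZel.2 _ hmz
  have h := exponent_two hq (sectionAction_cubeRel f hf Q hNQ hfx3 hxQ hfix) h4
    (Additive.ofMul ⟨a, ha⟩)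
  exact congrArg (fun c : Additive Q => ((c.toMul : Q) : G)) h

end Cfsg.Agent.H62.Fpf
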