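/-
Sylow subgroups all of whose subgroups of one fixed order are strongly closed in their normalizers.
-/
import Cfsg.Agent.H62.CoprimeFix
import Cfsg.Agent.H62.CD
import Cfsg.Agent.Fusion.Alperin
import Cfsg.Agent.Fusion.Frobenius
import Cfsg.Agent.Fusion.Tate
import Cfsg.Agent.Fusion.PResidual
import Cfsg.Agent.Fusion.PComplement

set_option autoImplicit false
open scoped Pointwise

namespace Cfsg.Agent.H62

variable {G : Type*} [Group G] [Finite G] {p : ℕ} [Fact p.Prime]

/-- Every subgroup of `P` of order `p^k` (and of order `4` if `p^k = 2`) is strongly closed in its normalizer. -/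
def HHyp (p k : ℕ) (P : Subgroup G) : Prop :=
  ∀ E : Subgroup G, E ≤ P → (Nat.card E = p ^ k ∨ (p ^ k = 2 ∧ Nat.card E = 4)) →
    ∀ g : G, E.map (MulAut.conj g).toMonoidHom ⊓ Subgroup.normalizer (E : Set G) ≤ E

theorem le_normalizer_of_hsub {P E : Subgroup G} (hP : IsPGroup p P) (hEP : E ≤ P)
    (h : ∀ g : G, E.map (MulAut.conj g).toMonoidHom ⊓ Subgroup.normalizer (E : Set G) ≤ E) :
    P ≤ Subgroup.normalizer (E : Set G) := by
  set N := P ⊓ Subgroup.normalizer (E : Set G) with hN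
  by_contra hcon
  have hlt : N < P := lt_of_le_of_ne inf_le_left fun e => hcon (e ▸ inf_le_right)
  obtain ⟨x, ⟨hxP, hxN⟩, hx⟩ := SetLike.exists_of_lt (Fusion.ofSubgroupInfLt P hP hlt)
  apply hx
  refine ⟨hxP, ?_⟩
  have hEN : E ≤ N := le_inf hEP Subgroup.le_normalizer
  have hle : E.map (MulAut.conj x).toMonoidHom ≤ E := fun y hy => h x ⟨hy, by
    obtain ⟨e, he, rfl⟩ := hy
    exact ((Subgroup.mem_normalizer_iff.mp hxN e).mp (hEN he)).2⟩
  have heq := Subgroup.eq_of_le_of_card_ge hle (Subgroup.card_map_of_injective (MulAut.conj x).injective).ge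
  show x ∈ Subgroup.normalizer (E : Set G)
  rw [Subgroup.mem_normalizer_iff]
  intro y
  conv_rhs => rw [← heq]
  simp [Subgroup.mem_map]

theorem closed_of_hsub {P E : Subgroup G} (hP : IsPGroup p P) (hEP : E ≤ P)
    (h : ∀ g : G, E.map (MulAut.conj g).toMonoidHom ⊓ Subgroup.normalizer (E : Set G) ≤ E)
    {x : G} (hx : x ∈ E) (g : G) (hg : g * x * g⁻¹ ∈ P) : g * x * g⁻¹ ∈ E :=
  h g ⟨⟨x, hx, rfl⟩, le_normalizer_of_hsub hP hEP h hg⟩

/-- Subgroups of every intermediate `p`-power order between two given ones. -/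
theorem exists_between {H K : Subgroup G} (hHK : H ≤ K) {i m l : ℕ} (hH : Nat.card H = p ^ i)
    (hK : Nat.card K = p ^ l) (him : i ≤ m) (hml : m ≤ l) :
    ∃ J : Subgroup G, H ≤ J ∧ J ≤ K ∧ Nat.card J = p ^ m := by
  obtain ⟨J, hJ, hHJ⟩ := Sylow.exists_subgroup_card_pow_prime_le p (G := K) (n := i) (m := m)
    (hK ▸ pow_dvd_pow p hml) (H.subgroupOf K)
    (by rw [Nat.card_congr (Subgroup.subgroupOfEquivOfLe hHK).toEquiv, hH]) him
  refine ⟨J.map K.subtype, ?_, Subgroup.map_subtype_le J, by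
    rw [Subgroup.card_map_of_injective K.subtype_injective, hJ]⟩
  intro x hx
  exact ⟨⟨x, hHK hx⟩, hHJ hx, rfl⟩

theorem exists_le_card {P : Subgroup G} (hP : IsPGroup p P) {k : ℕ} (hk : p ^ k ≤ Nat.card P) {x : G} (hx : x ∈ P)
    (hxk : x ^ (p ^ k) = 1) : ∃ F : Subgroup G, F ≤ P ∧ x ∈ F ∧ Nat.card F = p ^ k := by
  have hp := (Fact.out : p.Prime)
  obtain ⟨n, hn⟩ := IsPGroup.iff_card.mp hP
  obtain ⟨j, hj, hxj⟩ := (Nat.dvd_prime_pow hp).mp (orderOf_dvd_of_pow_eq_one hxk)
  obtain ⟨F, h1, h2, h3⟩ := exists_between (p := p) (Subgroup.zpowers_le.mpr hx) (i := j) (m := k)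
    (by rw [Nat.card_zpowers, hxj]) hn hj ((Nat.pow_le_pow_iff_right hp.one_lt).mp (hn ▸ hk))
  exact ⟨F, h2, h1 (Subgroup.mem_zpowers x), h3⟩

theorem isPGroup_quotient_subgroupOf {P : Subgroup G} (hP : IsPGroup p P) (E : Subgroup P) [E.Normal] :
    IsPGroup p (↥P ⧸ E) := hP.to_quotient E

theorem mk_eq_mk_of_mul_inv_mem {H : Type*} [Group H] {N : Subgroup H} [N.Normal] {a b : H} (h : a * b⁻¹ ∈ N) :
    (QuotientGroup.mk a : H ⧸ N) = QuotientGroup.mk b := by
  rw [← mul_inv_eq_one, ← QuotientGroup.mk_inv, ← QuotientGroup.mk_mul]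
  exact (QuotientGroup.eq_one_iff _).mpr h

/-- A `p'`-element normalizing `A` and `B ≤ A` with `|A:B| ∣ p` centralizes `A / B`. -/
theorem trivial_on_prime_section {A B : Subgroup G} {h : G} (hn : PStrong p (orderOf h))
    (hA : h ∈ Subgroup.normalizer (A : Set G)) (hB : h ∈ Subgroup.normalizer (B : Set G))
    (hAB : A ≤ Subgroup.normalizer (B : Set G)) (hidx : B.relIndex A ∣ p) {x : G} (hx : x ∈ A) :
    h * x * h⁻¹ * x⁻¹ ∈ B := by
  have hp := (Fact.out : p.Prime)
  set N := Subgroup.normalizer (B : Set G) with hN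
  set π := QuotientGroup.mk' (B.subgroupOf N) with hπ
  set X := (A.subgroupOf N).map π with hX
  have hcard : Nat.card X = B.relIndex A := by
    rw [hX, ← Subgroup.relIndex_ker, hπ, QuotientGroup.ker_mk', Subgroup.relIndex_subgroupOf hAB]
  obtain ⟨j, hj, hj'⟩ := (Nat.dvd_prime_pow hp).mp (show B.relIndex A ∣ p ^ 1 by rwa [pow_one])
  rw [hj'] at hcard
  have : IsCyclic X := by
    interval_cases j
    · have : Subsingleton X := (Nat.card_eq_one_iff_unique.mp (by simpa using hcard)).1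
      exact isCyclic_of_subsingleton
    · exact isCyclic_of_prime_card (p := p) (by simpa using hcard)
  have hord : orderOf (π ⟨h, hB⟩) ∣ orderOf h := by
    refine (orderOf_map_dvd π ⟨h, hB⟩).trans ?_
    rw [Subgroup.orderOf_mk]
  have hstr : PStrong p (orderOf (π ⟨h, hB⟩)) :=
    ⟨hn.1.coprime_dvd_left hord, fun q hq hqd => hn.2 q hq (hqd.trans hord)⟩
  have hnorm : π ⟨h, hB⟩ ∈ Subgroup.normalizer (X : Set _) := by
    have hXle : X.map (MulAut.conj (π ⟨h, hB⟩)).toMonoidHom ≤ X := by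
      rintro _ ⟨_, ⟨y, hy, rfl⟩, rfl⟩
      exact ⟨⟨h, hB⟩ * y * ⟨h, hB⟩⁻¹, (Subgroup.mem_normalizer_iff.mp hA y).mp hy, by simp⟩
    have := Subgroup.eq_of_le_of_card_ge hXle (Subgroup.card_map_of_injective (MulAut.conj _).injective).ge
    rw [Subgroup.mem_normalizer_iff]
    intro y
    conv_rhs => rw [← this]
    simp [Subgroup.mem_map]
  have key := commute_of_normalizes_cyclic hp X hcard hstr hnorm
    (x := π ⟨x, hAB hx⟩) ⟨⟨x, hAB hx⟩, hx, rfl⟩
  rw [← map_inv, ← map_mul, ← map_mul, hπ, QuotientGroup.mk'_apply, QuotientGroup.mk'_apply, QuotientGroup.eq] at key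
  have hkey : (h * x * h⁻¹)⁻¹ * x ∈ B := key
  have := (Subgroup.mem_normalizer_iff.mp (hAB hx) _).mp (B.inv_mem hkey)
  simpa [mul_assoc] using this

section

variable {k : ℕ} {P : Subgroup G} {U : Subgroup G} {h : G}

theorem HHyp.normalizes_inf (hH : HHyp p k P) (hP : IsPGroup p P) (hUP : U ≤ P)
    (hh : h ∈ Subgroup.normalizer (U : Set G)) {E : Subgroup G} (hEP : E ≤ P)
    (hE : Nat.card E = p ^ k ∨ (p ^ k = 2 ∧ Nat.card E = 4)) :
    h ∈ Subgroup.normalizer ((U ⊓ E : Subgroup G) : Set G) := by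
  have hle : (U ⊓ E).map (MulAut.conj h).toMonoidHom ≤ U ⊓ E := by
    rintro _ ⟨x, ⟨hxU, hxE⟩, rfl⟩
    have h1 := (Subgroup.mem_normalizer_iff.mp hh x).mp hxU
    exact ⟨h1, closed_of_hsub hP hEP (hH E hEP hE) hxE h (hUP h1)⟩
  have := Subgroup.eq_of_le_of_card_ge hle (Subgroup.card_map_of_injective (MulAut.conj _).injective).ge
  rw [Subgroup.mem_normalizer_iff]
  intro y
  conv_rhs => rw [← this]
  simp [Subgroup.mem_map]

theorem HHyp.trivial_adjacent (hH : HHyp p k P) (hP : IsPGroup p P) (hUP : U ≤ P)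
    (hn : PStrong p (orderOf h)) (hh : h ∈ Subgroup.normalizer (U : Set G))
    {E F : Subgroup G} (hEP : E ≤ P) (hE : Nat.card E = p ^ k) (hFP : F ≤ P) (hF : Nat.card F = p ^ k)
    (hadj : E.relIndex F = p) {c : G} (hcU : c ∈ U) (hcF : c ∈ F) : h * c * h⁻¹ * c⁻¹ ∈ E := by
  set A := U ⊓ F with hA
  have hEn := le_normalizer_of_hsub hP hEP (hH E hEP (Or.inl hE))
  have h1 := hH.normalizes_inf hP hUP hh hFP (Or.inl hF)
  have h2 := hH.normalizes_inf hP hUP hh hEP (Or.inl hE)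
  have h3 : h ∈ Subgroup.normalizer ((A ⊓ E : Subgroup G) : Set G) := by
    rw [Subgroup.mem_normalizer_iff] at h1 h2 ⊢
    intro y
    exact ⟨fun hy => ⟨(h1 y).mp hy.1, ((h2 y).mp ⟨hy.1.1, hy.2⟩).2⟩,
      fun hy => ⟨(h1 y).mpr hy.1, ((h2 y).mpr ⟨hy.1.1, hy.2⟩).2⟩⟩
  have hAn : A ≤ Subgroup.normalizer ((A ⊓ E : Subgroup G) : Set G) := by
    intro a ha
    have hae := Subgroup.mem_normalizer_iff.mp (hEn (hUP ha.1))
    rw [Subgroup.mem_normalizer_iff]
    exact fun y => ⟨fun hy => ⟨A.mul_mem (A.mul_mem ha hy.1) (A.inv_mem ha), (hae y).mp hy.2⟩,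
      fun hy => ⟨by simpa [mul_assoc] using A.mul_mem (A.mul_mem (A.inv_mem ha) hy.1) ha, (hae y).mpr hy.2⟩⟩
  have hidx : (A ⊓ E).relIndex A ∣ p := by
    rw [Subgroup.inf_relIndex_left]
    obtain ⟨j, hj⟩ := IsPGroup.iff_card.mp (hP.to_le ((inf_le_left : A ≤ U).trans hUP))
    obtain ⟨i, hi, hi'⟩ := (Nat.dvd_prime_pow (Fact.out : p.Prime)).mp (hj ▸ Subgroup.relIndex_dvd_card E A)
    have hle : E.relIndex A ≤ p := hadj ▸ Subgroup.relIndex_le_of_le_right (inf_le_right : A ≤ F)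
      (by rw [hadj]; exact (Fact.out : p.Prime).ne_zero)
    rw [hi'] at hle ⊢
    have : i ≤ 1 := (Nat.pow_le_pow_iff_right (Fact.out : p.Prime).one_lt).mp (by simpa using hle)
    interval_cases i <;> simp
  exact (trivial_on_prime_section hn h1 h3 hAn hidx ⟨hcU, hcF⟩).2

/-- Key property: a `p'`-element normalizing `U ≤ P` moves small elements of `U` only within every
subgroup of order `p^k`. -/
theorem HHyp.comm_mem (hH : HHyp p k P) (hP : IsPGroup p P) (hk : p ^ k < Nat.card P) (hUP : U ≤ P)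
    (hn : PStrong p (orderOf h)) (hh : h ∈ Subgroup.normalizer (U : Set G))
    {x : G} (hxU : x ∈ U) (hxk : x ^ (p ^ k) = 1) {E : Subgroup G} (hEP : E ≤ P) (hE : Nat.card E = p ^ k) :
    h * x * h⁻¹ * x⁻¹ ∈ E := by
  have hp := (Fact.out : p.Prime)
  obtain ⟨F, hFP, hxF, hF⟩ := exists_le_card hP hk.le (hUP hxU) hxk
  have hhxU := (Subgroup.mem_normalizer_iff.mp hh x).mp hxU
  have hFc : ∀ y ∈ F, ∀ u : G, u * y * u⁻¹ ∈ P → u * y * u⁻¹ ∈ F := fun y hy u hu =>
    closed_of_hsub hP hFP (hH F hFP (Or.inl hF)) hy u hu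
  induction hm : p ^ k - Nat.card ↥(E ⊓ F) using Nat.strong_induction_on generalizing E with
  | _ m ih =>
  obtain ⟨i, hik, hi⟩ := (Nat.dvd_prime_pow hp).mp (hE ▸ Subgroup.card_dvd_of_le (inf_le_left : E ⊓ F ≤ E))
  rcases eq_or_lt_of_le hik with rfl | hik
  · have e1 : E ⊓ F = E := Subgroup.eq_of_le_of_card_ge inf_le_left (by rw [hi, hE])
    have e2 : E ⊓ F = F := Subgroup.eq_of_le_of_card_ge inf_le_right (by rw [hi, hF])
    have : E = F := e1.symm.trans e2
    subst this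
    exact E.mul_mem (hFc x hxF h (hUP hhxU)) (E.inv_mem hxF)
  obtain ⟨R, hR1, hR2, hR⟩ := exists_between (p := p) (inf_le_right : E ⊓ F ≤ F) (m := i + 1) hi hF (by omega) (by omega)
  have hEn := le_normalizer_of_hsub hP hEP (hH E hEP (Or.inl hE))
  have hER : E ⊓ R = E ⊓ F := le_antisymm (inf_le_inf_left E hR2) (le_inf inf_le_left hR1)
  have hcardT : Nat.card ↥(E ⊔ R) = p ^ (k + 1) := by
    have h := card_prod_mul_card_inf E R
    rw [← Subgroup.coe_mul_of_right_le_normalizer_left E R ((hR2.trans hFP).trans hEn), hER, hi, hE, hR,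
      ← pow_add, show k + (i + 1) = (k + 1) + i by omega, pow_add p (k + 1)] at h
    exact Nat.eq_of_mul_eq_mul_right (Nat.pow_pos hp.pos) h
  have hETP : E ⊔ R ≤ P := sup_le hEP (hR2.trans hFP)
  obtain ⟨F', hF'1, hF'2, hF'⟩ := exists_between (p := p) (le_sup_right : R ≤ E ⊔ R) (m := k) hR hcardT (by omega) (by omega)
  have hF'P : F' ≤ P := hF'2.trans hETP
  have hlt : p ^ k - Nat.card ↥(F' ⊓ F) < m := by
    have h1 : p ^ (i + 1) ≤ Nat.card ↥(F' ⊓ F) := hR ▸ Subgroup.card_le_of_le (le_inf hF'1 hR2)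
    have h2 : p ^ i < p ^ (i + 1) := Nat.pow_lt_pow_right hp.one_lt (by omega)
    have h3 : p ^ i < p ^ k := Nat.pow_lt_pow_right hp.one_lt hik
    omega
  have hc := ih _ hlt hF'P hF' rfl
  have hne : ¬ F' ≤ E := fun hle => by
    have e : R ≤ E ⊓ F := le_inf (hF'1.trans hle) hR2
    have := Subgroup.card_le_of_le e
    rw [hR, hi] at this
    have := Nat.pow_lt_pow_right hp.one_lt (show i < i + 1 by omega)
    omega
  have hadj : E.relIndex F' = p := by
    have h := card_prod_mul_card_inf E F'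
    rw [← Subgroup.coe_mul_of_right_le_normalizer_left E F' (hF'P.trans hEn)] at h
    have hsup : E ⊔ F' = E ⊔ R := le_antisymm (sup_le le_sup_left hF'2) (sup_le le_sup_left (hF'1.trans le_sup_right))
    rw [show Nat.card ↥((E ⊔ F' : Subgroup G) : Set G) = p ^ (k + 1) from hsup ▸ hcardT, hE, hF'] at h
    have h' : Nat.card ↥(E ⊓ F') * E.relIndex F' = p ^ k := by
      have h1 := Subgroup.relIndex_mul_relIndex ⊥ (F' ⊓ E) F' bot_le inf_le_left
      rw [Subgroup.relIndex_bot_left, Subgroup.relIndex_bot_left, Subgroup.inf_relIndex_left, hF', inf_comm] at h1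
      exact h1
    have hpos : 0 < Nat.card ↥(E ⊓ F') := Nat.card_pos
    refine Nat.eq_of_mul_eq_mul_left hpos ?_
    rw [h']
    refine Nat.eq_of_mul_eq_mul_left (show 0 < p ^ k by exact Nat.pow_pos hp.pos) ?_
    calc p ^ k * p ^ k = p ^ (k + 1) * Nat.card ↥(E ⊓ F') := h.symm
      _ = p ^ k * (Nat.card ↥(E ⊓ F') * p) := by ring
  have hcU : h * x * h⁻¹ * x⁻¹ ∈ U := U.mul_mem hhxU (U.inv_mem hxU)
  have : (E.subgroupOf P).Normal := (Subgroup.normal_subgroupOf_iff_le_normalizer hEP).mpr hEn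
  let f : U →* ↥P ⧸ E.subgroupOf P := (QuotientGroup.mk' _).comp (Subgroup.inclusion hUP)
  have hfix : ∀ z : U, (z : G) ∈ F' → ((conjAut U hh z : U) : G) ∈ F' ∧ f (conjAut U hh z) = f z := by
    intro z hz
    refine ⟨closed_of_hsub hP hF'P (hH F' hF'P (Or.inl hF')) hz h (hUP (Subtype.mem (conjAut U hh z))), ?_⟩
    exact mk_eq_mk_of_mul_inv_mem (hH.trivial_adjacent hP hUP hn hh hEP hE hF'P hF' hadj z.2 hz)
  have hpush := push_eq_one (hP.to_quotient (E.subgroupOf P)) hn.1 (conjAut U hh) (conjAut_pow_orderOf U hh) f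
    (u := ⟨x, hxU⟩) (c := ⟨_, hcU⟩) (Subtype.ext (by simp [conjAut_coe])) ?_
  · exact (QuotientGroup.eq_one_iff (⟨h * x * h⁻¹ * x⁻¹, hUP hcU⟩ : P)).mp hpush
  · intro j
    have key : ((((conjAut U hh) ^ j) ⟨_, hcU⟩ : U) : G) ∈ F' ∧ f (((conjAut U hh) ^ j) ⟨_, hcU⟩) = f ⟨_, hcU⟩ := by
      induction j with
      | zero => exact ⟨hc, rfl⟩
      | succ j ihj =>
        rw [pow_succ', MulAut.mul_apply]
        exact ⟨(hfix _ ihj.1).1, (hfix _ ihj.1).2.trans ihj.2⟩
    exact key.2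

end

theorem pStrong_orderOf (hmin : ∀ q : ℕ, q.Prime → q ∣ Nat.card G → p ≤ q) {h : G}
    (hc : (orderOf h).Coprime p) : PStrong p (orderOf h) :=
  ⟨hc, fun q hq hd => hmin q hq (hd.trans (orderOf_dvd_natCard h))⟩

/-- Large exponent case: all `p'`-elements normalizing a `p`-subgroup centralize it. -/
theorem hasNormalPComplement_of_big (hmin : ∀ q : ℕ, q.Prime → q ∣ Nat.card G → p ≤ q) (P : Sylow p G) {k : ℕ}
    (hk0 : 1 ≤ k) (hk : p ^ k < Nat.card P) (hH : HHyp p k (P : Subgroup G))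
    {x₀ : G} (hx₀ : x₀ ∈ (P : Subgroup G)) (hbig : x₀ ^ (p ^ k) ≠ 1) : HasNormalPComplement p G := by
  have hp := (Fact.out : p.Prime)
  obtain ⟨j₀, hj₀⟩ := P.isPGroup' ⟨x₀, hx₀⟩
  obtain ⟨l, hl, hxl⟩ := (Nat.dvd_prime_pow hp).mp (orderOf_dvd_of_pow_eq_one (congrArg Subtype.val hj₀ : x₀ ^ (p ^ j₀) = 1))
  have hkl : k < l := by
    by_contra hle
    exact hbig (orderOf_dvd_iff_pow_eq_one.mp (hxl ▸ pow_dvd_pow p (not_lt.mp hle)))
  set E₀ := Subgroup.zpowers (x₀ ^ (p ^ (l - k))) with hE₀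
  have hE₀P : E₀ ≤ (P : Subgroup G) := Subgroup.zpowers_le.mpr ((P : Subgroup G).pow_mem hx₀ _)
  have hE₀c : Nat.card E₀ = p ^ k := by
    rw [hE₀, Nat.card_zpowers, orderOf_pow' _ (pow_ne_zero _ hp.ne_zero), hxl,
      Nat.gcd_eq_right (pow_dvd_pow p (Nat.sub_le l k)), Nat.pow_div (Nat.sub_le l k) hp.pos]
    congr 1
    omega
  rw [Fusion.frobenius_criterion P]
  intro U hUP h hh hc
  have hn := pStrong_orderOf hmin hc
  have hsmall : ∀ x : U, (x : G) ^ (p ^ k) = 1 → conjAut U hh x = x := by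
    intro x hx
    set c : U := conjAut U hh x * x⁻¹ with hcdef
    have hcE : (c : G) ∈ E₀ := hH.comm_mem P.isPGroup' hk hUP hn hh x.2 hx hE₀P hE₀c
    set X := U ⊓ E₀ with hX
    have : IsCyclic X := isCyclic_of_injective (Subgroup.inclusion (inf_le_right : X ≤ E₀)) (Subgroup.inclusion_injective _)
    obtain ⟨i, hi⟩ := IsPGroup.iff_card.mp (P.isPGroup'.to_le ((inf_le_left : X ≤ U).trans hUP))
    have hXn := hH.normalizes_inf P.isPGroup' hUP hh hE₀P (Or.inl hE₀c)
    have hcfix : conjAut U hh c = c := Subtype.ext (by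
      rw [conjAut_coe]; exact commute_of_normalizes_cyclic hp X hi hn hXn ⟨c.2, hcE⟩)
    have h1 := push_eq_one (p := p) (P.isPGroup'.to_le hUP) hn.1 (conjAut U hh) (conjAut_pow_orderOf U hh)
      (MonoidHom.id U) (u := x) (c := c) (by rw [hcdef]; group) fun m => by
        induction m with
        | zero => rfl
        | succ m ihm => rw [pow_succ, MulAut.mul_apply, hcfix]; exact ihm
    exact mul_inv_eq_one.mp (show c = 1 from h1)
  have hfixall : conjAut U hh = 1 := by
    refine fix_all (P.isPGroup'.to_le hUP) _ hn.1 (conjAut_pow_orderOf U hh) (fun x hx => hsmall x ?_) (fun hp2 x hx => ?_)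
    · have h1 : (x : G) ^ p = 1 := congrArg Subtype.val hx
      rw [show p ^ k = p * p ^ (k - 1) by rw [← pow_succ']; congr 1; omega, pow_mul, h1, one_pow]
    · subst hp2
      have h1 : (x : G) ^ 4 = 1 := congrArg Subtype.val hx
      rcases eq_or_lt_of_le hk0 with rfl | hk2
      · by_cases hx2 : (x : G) ^ 2 = 1
        · exact hsmall x (by rwa [pow_one])
        have hord : orderOf (x : G) = 4 := orderOf_eq_prime_pow (p := 2) (n := 1) hx2 h1
        set X := Subgroup.zpowers (x : G) with hX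
        have hXP : X ≤ (P : Subgroup G) := Subgroup.zpowers_le.mpr (hUP x.2)
        have hXU : X ≤ U := Subgroup.zpowers_le.mpr x.2
        have hXc : Nat.card X = 4 := by rw [hX, Nat.card_zpowers, hord]
        have hXn := hH.normalizes_inf P.isPGroup' hUP hh hXP (Or.inr ⟨by norm_num, hXc⟩)
        rw [inf_eq_right.mpr hXU] at hXn
        exact Subtype.ext (by
          rw [conjAut_coe]
          exact commute_of_normalizes_cyclic (k := 2) hp X (by rw [hXc]; norm_num) hn hXn (Subgroup.mem_zpowers _))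
      · refine hsmall x ?_
        rw [show 2 ^ k = 4 * 2 ^ (k - 2) by rw [show (4:ℕ) = 2 ^ 2 by norm_num, ← pow_add]; congr 1; omega, pow_mul, h1, one_pow]
  refine Subgroup.mem_centralizer_iff.mpr fun y hy => ?_
  have h2 : h * y * h⁻¹ = y := by
    have := congrArg (fun a : MulAut U => ((a ⟨y, hy⟩ : U) : G)) hfixall
    simpa [conjAut_coe] using this
  calc y * h = h * y * h⁻¹ * h := by rw [h2]
    _ = h * y := by group

/-- Small exponent case: the focal subgroup lies in the Frattini subgroup of `P`. -/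
theorem hasNormalPComplement_of_small (hmin : ∀ q : ℕ, q.Prime → q ∣ Nat.card G → p ≤ q) (P : Sylow p G) {k : ℕ}
    (hk : p ^ k < Nat.card P) (hH : HHyp p k (P : Subgroup G))
    (hall : ∀ x ∈ (P : Subgroup G), x ^ (p ^ k) = 1) : HasNormalPComplement p G := by
  have hp := (Fact.out : p.Prime)
  obtain ⟨n, hn⟩ := IsPGroup.iff_card.mp P.isPGroup'
  have hkn : k < n := (Nat.pow_lt_pow_iff_right hp.one_lt).mp (hn ▸ hk)
  have key : ∀ (L : Subgroup (P : Subgroup G)) [L.Normal], L.index = p →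
      ∀ x : (P : Subgroup G), ∀ g : G, ∀ hg : g * x * g⁻¹ ∈ (P : Subgroup G),
        (QuotientGroup.mk (⟨_, hg⟩ : (P : Subgroup G)) : ↥(P : Subgroup G) ⧸ L) = QuotientGroup.mk x := by
    intro L _ hL x g hg
    have hLcard : Nat.card (L.map (P : Subgroup G).subtype) = p ^ (n - 1) := by
      rw [Subgroup.card_map_of_injective (P : Subgroup G).subtype_injective]
      have := Subgroup.card_mul_index L
      rw [hL, hn, show n = (n - 1) + 1 by omega, pow_succ] at this
      exact Nat.eq_of_mul_eq_mul_right hp.pos this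
    obtain ⟨E, -, hEL, hE⟩ := exists_between (p := p) (bot_le : (⊥ : Subgroup G) ≤ L.map (P : Subgroup G).subtype)
      (i := 0) (m := k) (by simp) hLcard (Nat.zero_le _) (by omega)
    have hEP : E ≤ (P : Subgroup G) := hEL.trans (Subgroup.map_subtype_le L)
    have hcyc : IsCyclic (↥(P : Subgroup G) ⧸ L) := isCyclic_of_prime_card (p := p) (by rw [← Subgroup.index_eq_card, hL])
    let _ := hcyc.commGroup
    let f := QuotientGroup.mk' L
    have main : ∀ (A : Set G) (u : G), Fusion.Conn P A u → ∀ (a : (P : Subgroup G)), (a : G) ∈ A →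
        ∀ h' : u⁻¹ * a * u ∈ (P : Subgroup G), f ⟨_, h'⟩ = f a := by
      intro A u hu
      induction hu with
      | refl A => intro a _ h'; congr 1; ext; simp
      | step A u w Q hQ hA hw _ ih =>
        intro a ha h'
        set U := (P : Subgroup G) ⊓ (Q : Subgroup G) with hU
        have hUP : U ≤ (P : Subgroup G) := inf_le_left
        have hconj : ∀ v ∈ Subgroup.normalizer (U : Set G), ∀ y ∈ U, v * y * v⁻¹ ∈ (P : Subgroup G) :=
          fun v hv y hy => hUP ((Subgroup.mem_normalizer_iff.mp hv y).mp hy)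
        let S : Subgroup (Subgroup.normalizer (U : Set G)) :=
          { carrier := {v | ∀ y, ∀ hy : y ∈ U, f ⟨_, hconj v v.2 y hy⟩ = f ⟨y, hUP hy⟩}
            one_mem' := fun y hy => by congr 1; ext; simp
            mul_mem' := fun {v₁ v₂} h1 h2 y hy => by
              have hy2 := (Subgroup.mem_normalizer_iff.mp v₂.2 y).mp hy
              rw [← h2 y hy, ← h1 _ hy2]
              congr 1; ext; simp [mul_assoc]
            inv_mem' := fun {v} h1 y hy => by
              have hy2 := (Subgroup.mem_normalizer_iff.mp (Subgroup.inv_mem _ v.2) y).mp hy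
              refine (h1 _ hy2).symm.trans ?_
              congr 1; ext; simp [mul_assoc] }
        have hp' : pResidual p (Subgroup.normalizer (U : Set G)) ≤ S := by
          refine Fusion.pResidual_le.mpr fun v hv y hy => ?_
          have hvn : PStrong p (orderOf (v : G)) := pStrong_orderOf hmin (by rwa [Subgroup.orderOf_coe])
          have hm := hH.comm_mem P.isPGroup' hk hUP hvn v.2 hy (hall y (hUP hy)) hEP hE
          exact mk_eq_mk_of_mul_inv_mem (by
            obtain ⟨z, hz, hzv⟩ := hEL hm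
            have : z = ⟨(v : G) * y * (v : G)⁻¹, hconj v v.2 y hy⟩ * ⟨y, hUP hy⟩⁻¹ := Subtype.ext hzv
            exact this ▸ hz)
        let T : Sylow p (Subgroup.normalizer (U : Set G)) :=
          (P.isPGroup'.to_le (inf_le_left : (P : Subgroup G) ⊓ Subgroup.normalizer (U : Set G) ≤ P)).comap_subtype.toSylow hQ.1
        have hT : (T : Subgroup (Subgroup.normalizer (U : Set G))) ≤ S := by
          intro v hv y hy
          have hvP : (v : G) ∈ (P : Subgroup G) := (show (v : G) ∈ (P : Subgroup G) ⊓ _ from hv).1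
          have : (⟨(v : G) * y * (v : G)⁻¹, hconj v v.2 y hy⟩ : (P : Subgroup G)) = ⟨v, hvP⟩ * ⟨y, hUP hy⟩ * ⟨v, hvP⟩⁻¹ := rfl
          rw [this, map_mul, map_mul, map_inv, mul_comm (f ⟨v, hvP⟩), mul_inv_cancel_right]
        have hS : S = ⊤ := top_le_iff.mp ((Fusion.sylow_sup_pResidual T).symm.le.trans (sup_le hT hp'))
        have haU : (a : G) ∈ U := hA ha
        have h1 := (hS ▸ Subgroup.mem_top (⟨w⁻¹, Subgroup.inv_mem _ hw⟩ : Subgroup.normalizer (U : Set G)) :
          (⟨w⁻¹, Subgroup.inv_mem _ hw⟩ : Subgroup.normalizer (U : Set G)) ∈ S) a haU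
        have hb : w⁻¹ * (a : G) * w ∈ (P : Subgroup G) := by simpa using hconj w⁻¹ (Subgroup.inv_mem _ hw) a haU
        have hb2 : u⁻¹ * (w⁻¹ * (a : G) * w) * u ∈ (P : Subgroup G) := by simpa [mul_assoc] using h'
        have h2 := ih ⟨_, hb⟩ ⟨a, ha, rfl⟩ hb2
        refine Eq.trans ?_ ((h2.trans ?_).trans h1)
        · congr 1; ext; simp [mul_assoc]
        · congr 1; ext; simp
    have hcn : Fusion.Conn P {(x : G)} g⁻¹ := Fusion.alperin P (Set.singleton_subset_iff.mpr x.2) (by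
      rw [Set.image_singleton, inv_inv, Set.singleton_subset_iff]; exact hg)
    have h3 := main _ _ hcn x rfl (by simpa using hg)
    refine Eq.trans ?_ h3
    show f _ = f _
    congr 1; ext; simp
  rw [Fusion.hasNormalPComplement_iff_inf_eq_bot P]
  have htate := Fusion.tate (H := (P : Subgroup G)) P.not_dvd_index (fun L hLn hL => ?_)
  · have hbot : pResidual p (P : Subgroup G) = ⊥ := by
      refine le_bot_iff.mp (Fusion.pResidual_le_of_quotient (N := ⊥) (P.isPGroup'.to_quotient ⊥))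
    rw [hbot, Subgroup.subgroupOf_eq_bot, disjoint_iff, inf_comm] at htate
    exact htate
  · intro x hx
    have h1 : (x : G) ∈ (P : Subgroup G).focalSubgroup :=
      (Fusion.pResidual_sup_commutator_inf P).le ⟨Subgroup.mem_sup_left hx, x.2⟩
    have h2 : (P : Subgroup G).focalSubgroup ≤ L.map (P : Subgroup G).subtype := by
      rw [Subgroup.focalSubgroup_def, Subgroup.closure_le]
      rintro _ ⟨hy, a, ha, u, rfl⟩
      have hua : u * a⁻¹ * u⁻¹ ∈ (P : Subgroup G) := by
        have := (P : Subgroup G).mul_mem ((P : Subgroup G).inv_mem ha) hy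
        simpa [commutatorElement_def, mul_assoc] using this
      have h4 := key L hL ⟨a⁻¹, (P : Subgroup G).inv_mem ha⟩ u hua
      rw [QuotientGroup.eq] at h4
      refine ⟨⟨_, hy⟩, ?_, rfl⟩
      have h5 : (⟨u * a⁻¹ * u⁻¹, hua⟩ : (P : Subgroup G))⁻¹ * ⟨a⁻¹, (P : Subgroup G).inv_mem ha⟩ = (⟨_, hy⟩ : (P : Subgroup G))⁻¹ :=
        Subtype.ext (by simp [commutatorElement_def, mul_assoc])
      rw [h5] at h4
      exact inv_mem_iff.mp h4
    obtain ⟨y, hy, hyx⟩ := h2 h1
    exact (Subtype.ext hyx : y = x) ▸ hy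

end Cfsg.Agent.H62
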