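import Cfsg.Agent.Components.Layer
import Cfsg.Agent.Components.Fitting
import Cfsg.Agent.Components.FStarQuot
import Cfsg.Agent.Coprime.Action
import Cfsg.Agent.Coprime.Commutator
import Cfsg.Agent.H30.ComplementSystem
import Cfsg.Agent.PGroups.Basic
import Cfsg.Agent.H59.FrattiniResidual
import Cfsg.Agent.S0660

/-!
The quotient by the p-core of a group with an isolated p-minimal subgroup.
`R` is the image of `O^p(P)`, `Q` the image of `O_p(L)`: every `S`-invariant subgroup contains `R`
or lies in `L`.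
-/

set_option autoImplicit false
set_option linter.style.haveILetI false

namespace Cfsg.Agent.H62

open Subgroup
open scoped commutatorElement

universe u

variable {G : Type u} [Group G] [Finite G]

/-- The hypotheses satisfied modulo `O_p(G)`. -/
structure IsoSetting (p : ℕ) (S R Q L : Subgroup G) : Prop where
  hS : IsPGroup p S
  hQS : Q ≤ S
  hSL : S ≤ L
  hLQ : L ≤ normalizer (Q : Set G)
  hSR : S ≤ normalizer (R : Set G)
  hgen : R ⊔ L = ⊤
  hO : Cfsg.pCore p G = ⊥
  hne : ⁅R, Q⁆ ≠ ⊥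
  hkey : ∀ X : Subgroup G, S ≤ normalizer (X : Set G) → R ≤ X ∨ X ≤ L

theorem le_bot_of_pCore_normal {p : ℕ} [Fact p.Prime] (hO : Cfsg.pCore p G = ⊥)
    {X U : Subgroup G} (hX : X.IsSubnormal) (hUX : U ≤ X) (hU : IsPGroup p U)
    (hn : X ≤ normalizer (U : Set G)) : U = ⊥ := by
  suffices ∀ Z : Subgroup G, Z.IsSubnormal → ∀ (W : Subgroup G), W ≤ Z → IsPGroup p W →
      Z ≤ normalizer (W : Set G) → W ≤ Cfsg.pCore p G from
    le_bot_iff.mp (hO ▸ this X hX U hUX hU hn)
  intro Z hZ
  induction hZ with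
  | top =>
    intro W _ hWp hWn
    exact Components.le_pCore (normalizer_eq_top_iff.mp (top_le_iff.mp hWn)) hWp
  | step H K hle _ hn' ih =>
    intro W hWH hWp hWn
    have hsub : (W.subgroupOf H).Normal := normal_subgroupOf_of_le_normalizer hWn
    have h1 : W.subgroupOf H ≤ Cfsg.pCore p H :=
      Components.le_pCore hsub (hWp.comap_of_injective H.subtype H.subtype_injective)
    set C := (Cfsg.pCore p H).map H.subtype with hC
    have hCp : IsPGroup p C := (Components.isPGroup_pCore p).map _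
    have hnorm : K ≤ normalizer (C : Set G) := by
      have hKH : K ≤ normalizer (H : Set G) :=
        (normal_subgroupOf_iff_le_normalizer hle).mp hn'
      have hch : (Cfsg.pCore p H).Characteristic := by
        refine characteristic_iff_map_le.mpr fun φ => Components.le_pCore ?_ ?_
        · refine Subgroup.Normal.map ?_ φ.toMonoidHom φ.surjective
          exact sSup_normal _ fun _ h => h.1
        · exact (Components.isPGroup_pCore p).map _
      intro k hk
      exact mem_normalizer_of_characteristic H (Cfsg.pCore p H) (hKH hk)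
    refine le_trans ?_ (ih C ((map_subtype_le _).trans hle) hCp hnorm)
    rw [← map_subgroupOf_eq_of_le hWH]
    exact map_mono h1
where
  mem_normalizer_of_characteristic (H : Subgroup G) (A : Subgroup H) [A.Characteristic] {k : G}
      (hk : k ∈ normalizer (H : Set G)) : k ∈ normalizer ((A.map H.subtype : Subgroup G) : Set G) := by
    apply Coprime.mem_normalizer_of_map_conj
    set φ : MulAut H := H.normalizerMonoidHom ⟨k, hk⟩ with hφ
    have h2 : A.map φ.toMonoidHom = A := characteristic_iff_map_eq.mp inferInstance φ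
    conv_rhs => rw [← h2]
    rw [map_map, map_map]
    rfl

namespace IsoSetting

variable {p : ℕ} [Fact p.Prime] {S R Q L : Subgroup G}

section

variable (h : IsoSetting p S R Q L)
include h

theorem hQ : IsPGroup p Q := h.hS.to_le h.hQS

theorem R_ne_bot : R ≠ ⊥ := by
  rintro rfl
  exact h.hne (commutator_bot_left _)

/-- An `S`-invariant subnormal subgroup contains `R` or is centralized by `Q`. -/
theorem subnormal_dichotomy {X : Subgroup G} (hX : X.IsSubnormal)
    (hSX : S ≤ normalizer (X : Set G)) : R ≤ X ∨ ⁅X, Q⁆ = ⊥ := by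
  refine (h.hkey X hSX).imp_right fun hXL => ?_
  have h1 : ⁅X, Q⁆ ≤ X ⊓ Q :=
    le_inf (Coprime.commutator_le_left_of_normalizer (h.hQS.trans hSX))
      (Components.commutator_le_of_le_normalizer (hXL.trans h.hLQ))
  refine le_bot_iff.mp (h1.trans (le_of_eq ?_))
  refine le_bot_of_pCore_normal h.hO hX inf_le_left (h.hQ.to_le inf_le_right) ?_
  exact Subgroup.le_normalizer_iff.mpr fun x hx y hy =>
    ⟨Coprime.conj_mem (le_normalizer hx) hy.1, Coprime.conj_mem (h.hLQ (hXL hx)) hy.2⟩

theorem Q_ne_bot : Q ≠ ⊥ := by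
  rintro rfl
  exact h.hne (commutator_bot_right _)

theorem not_centralizes_genFitting :
    ⁅Cfsg.generalizedFittingSubgroup G, Q⁆ ≠ ⊥ := by
  intro hc
  set F := Cfsg.generalizedFittingSubgroup G
  have h1 : Q ≤ centralizer (F : Set G) := by
    rw [← commutator_eq_bot_iff_le_centralizer, commutator_comm]; exact hc
  have h2 : centralizer (F : Set G) ≤ centralizer ((centralizer (F : Set G) : Subgroup G) : Set G) := by
    intro x hx
    refine mem_centralizer_iff.mpr fun y hy => ?_
    exact (mem_centralizer_iff.mp hy x (Components.centralizer_genFitting_le hx)).symm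
  refine h.Q_ne_bot (le_bot_of_pCore_normal h.hO (X := centralizer (F : Set G)) ?_ h1 h.hQ ?_)
  · exact (inferInstance : (centralizer (F : Set G)).Normal).isSubnormal
  · intro x hx
    refine Coprime.mem_normalizer_of_map_conj ?_
    refine SetLike.coe_injective (Set.ext fun y => ?_)
    have hxy : ∀ q ∈ Q, x * q * x⁻¹ = q := fun q hq => by
      rw [← mem_centralizer_iff.mp (h2 hx) q (h1 hq), mul_inv_cancel_right]
    constructor
    · rintro ⟨q, hq, rfl⟩
      simpa [hxy q hq] using hq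
    · intro hy
      exact ⟨y, hy, by simpa using hxy y hy⟩

theorem R_le_genFitting : R ≤ Cfsg.generalizedFittingSubgroup G :=
  (h.subnormal_dichotomy (inferInstance : (Cfsg.generalizedFittingSubgroup G).Normal).isSubnormal
    (Components.le_normalizer_of_normal S)).resolve_right h.not_centralizes_genFitting

theorem fitting_or_layer : R ≤ Cfsg.fittingSubgroup G ∨ R ≤ Cfsg.layer G := by
  rcases h.subnormal_dichotomy (inferInstance : (Cfsg.fittingSubgroup G).Normal).isSubnormal
    (Components.le_normalizer_of_normal S) with h1 | h1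
  · exact Or.inl h1
  rcases h.subnormal_dichotomy (inferInstance : (Cfsg.layer G).Normal).isSubnormal
    (Components.le_normalizer_of_normal S) with h2 | h2
  · exact Or.inr h2
  refine absurd ?_ h.not_centralizes_genFitting
  rw [commutator_eq_bot_iff_le_centralizer] at h1 h2 ⊢
  exact sup_le h2 h1

/-- A subgroup normalized by `L` and by `R` is normal. -/
theorem normal_of_normalized {X : Subgroup G} (hR : R ≤ normalizer (X : Set G))
    (hL : L ≤ normalizer (X : Set G)) : X.Normal :=
  normalizer_eq_top_iff.mp (top_le_iff.mp (h.hgen ▸ sup_le hR hL))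

end

theorem fitting_coprime (hO : Cfsg.pCore p G = ⊥) :
    ¬ p ∣ Nat.card (Cfsg.fittingSubgroup G) := by
  intro hd
  obtain ⟨x, hx⟩ := exists_prime_orderOf_dvd_card' (G := Cfsg.fittingSubgroup G) p hd
  have h1 : (x : G) ∈ ⨆ r : (Nat.card G).primeFactors, Cfsg.pCore (r : ℕ) G :=
    Components.fitting_eq_iSup_pCore (G := G) ▸ x.2
  have h2 : Cfsg.fittingSubgroup G ≤ Cfsg.pCore p G ⊔ Components.fittingPrimePart p G :=
    Components.fitting_le_pCore_sup_part p
  rw [hO, bot_sup_eq] at h2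
  have h3 := Components.fittingPrimePart_le_pPrimeCore p (h2 x.2)
  have h4 : Nat.Coprime (Nat.card (Cfsg.pPrimeCore p G)) p := Cores.coprime_card_pPrimeCore
  have h5 : p ∣ Nat.card (Cfsg.pPrimeCore p G) := by
    have h6 := orderOf_dvd_natCard (⟨_, h3⟩ : Cfsg.pPrimeCore p G)
    rwa [Subgroup.orderOf_mk, orderOf_coe, hx] at h6
  exact (Fact.out : p.Prime).not_dvd_one (h4 ▸ Nat.dvd_gcd h5 dvd_rfl)

section

variable (h : IsoSetting p S R Q L)
include h

/-- If the normal closure `Y` of `R` is a `p'`-group, it is a `t`-group equal to `R`, of class at most 2. -/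
theorem pPrime_case {Y : Subgroup G} (hY : Y = normalClosure (R : Set G)) (hp : ¬ p ∣ Nat.card Y) :
    Y = R ∧ ∃ t : ℕ, t.Prime ∧ t ≠ p ∧ IsPGroup t Y ∧ ⁅⁅Y, Y⁆, Y⁆ = ⊥ := by
  haveI hYn : Y.Normal := hY ▸ normalClosure_normal
  have hRY : R ≤ Y := hY ▸ subset_normalClosure
  have hSY : S ≤ normalizer (Y : Set G) := Components.le_normalizer_of_normal S
  have hQY : Q ≤ normalizer (Y : Set G) := h.hQS.trans hSY
  have hcopS : (Nat.card S).Coprime (Nat.card Y) := by
    obtain ⟨n, hn⟩ := IsPGroup.iff_card.mp h.hS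
    rw [hn]
    exact ((Fact.out : p.Prime).coprime_iff_not_dvd.mpr hp).pow_left n
  have hcopQ : (Nat.card Q).Coprime (Nat.card Y) :=
    hcopS.coprime_dvd_left (card_dvd_of_le h.hQS)
  haveI := h.hS.isNilpotent
  have hsolS : Group.IsSolvable S ∨ Group.IsSolvable Y := Or.inl inferInstance
  have hsmall : ∀ X : Subgroup G, X ≤ Y → S ≤ normalizer (X : Set G) → R ≤ X ∨ ⁅X, Q⁆ = ⊥ := by
    intro X hXY hSX
    refine (h.hkey X hSX).imp_right fun hXL => le_bot_iff.mp ?_
    refine le_trans ?_ (Coprime.inf_eq_bot hcopQ.symm).le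
    exact le_inf ((Coprime.commutator_le_left_of_normalizer (h.hQS.trans hSX)).trans hXY)
      (Components.commutator_le_of_le_normalizer (hXL.trans h.hLQ))
  have hsyl : ∀ r : ℕ, r.Prime → ∃ T : Subgroup G, T ≤ Y ∧ S ≤ normalizer (T : Set G) ∧
      IsPGroup r T ∧ ¬ r ∣ T.relIndex Y := by
    intro r hr
    haveI := Fact.mk hr
    obtain ⟨T, hT⟩ := Coprime.exists_invariant_sylow hSY hcopS hsolS r
    refine ⟨_, map_subtype_le _, hT, T.isPGroup'.map _, ?_⟩
    rw [relIndex, subgroupOf, comap_map_eq_self_of_injective Y.subtype_injective]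
    exact T.not_dvd_index
  -- one prime
  have hex : ∃ r, r.Prime ∧ ∃ T : Subgroup G, T ≤ Y ∧ S ≤ normalizer (T : Set G) ∧
      IsPGroup r T ∧ ¬ r ∣ T.relIndex Y ∧ R ≤ T := by
    by_contra hno
    push Not at hno
    have hC : Y ≤ centralizer (Q : Set G) := by
      rw [← relIndex_eq_one]
      by_contra hne1
      obtain ⟨r, hr, hd⟩ := Nat.exists_prime_and_dvd hne1
      obtain ⟨T, hTY, hST, hTp, hTi⟩ := hsyl r hr
      have h1 : ⁅T, Q⁆ = ⊥ := (hsmall T hTY hST).resolve_left (hno r hr T hTY hST hTp hTi)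
      exact hTi (hd.trans (relIndex_dvd_of_le_left Y (commutator_eq_bot_iff_le_centralizer.mp h1)))
    exact h.hne (commutator_eq_bot_iff_le_centralizer.mpr (hRY.trans hC))
  obtain ⟨t, ht, T, hTY, hST, hTp, hTi, hRT⟩ := hex
  haveI := Fact.mk ht
  set C := Y ⊓ centralizer (Q : Set G) with hCdef
  have hcop : (T.subgroupOf Y).index.Coprime (C.subgroupOf Y).index := by
    refine Nat.coprime_of_dvd fun r hr h1 h2 => ?_
    obtain ⟨T', hT'Y, hST', hT'p, hT'i⟩ := hsyl r hr
    rcases hsmall T' hT'Y hST' with h3 | h3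
    · haveI := Fact.mk hr
      by_cases hrt : r = t
      · exact hTi (hrt ▸ h1)
      · exact h.R_ne_bot (le_bot_iff.mp ((le_inf hRT h3).trans
          (disjoint_iff.mp (IsPGroup.disjoint_of_ne t r (Ne.symm hrt) T T' hTp hT'p)).le))
    · exact hT'i (h2.trans (relIndex_dvd_of_le_left Y
        (le_inf hT'Y (commutator_eq_bot_iff_le_centralizer.mp h3))))
  have hfact : ∀ y ∈ Y, ∃ a ∈ T, ∃ c ∈ C, a * c = y := by
    intro y hy
    obtain ⟨a, ha, c, hc, he⟩ := H30.exists_mul_of_coprime_index hcop ⟨y, hy⟩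
    exact ⟨a, ha, c, hc, congrArg Subtype.val he⟩
  set D := ⁅Y, Q⁆ with hD
  have hDT : D ≤ T := by
    refine commutator_le.mpr fun y hy q hq => ?_
    obtain ⟨a, ha, c, hc, rfl⟩ := hfact y hy
    rw [commutatorElement_mul_left_eq_conj_mul,
      commutatorElement_eq_one_iff_mul_comm.mpr (mem_centralizer_iff.mp hc.2 q hq).symm,
      mul_one, mul_inv_cancel, one_mul]
    exact Coprime.commutator_le_left_of_normalizer (h.hQS.trans hST) (commutator_mem_commutator ha hq)
  have hDn : D.Normal := by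
    refine h.normal_of_normalized (hRY.trans (normalizer_commutator_ge_left Y Q)) fun g hg => ?_
    exact Coprime.mem_normalizer_commutator (Components.le_normalizer_of_normal L hg) (h.hLQ hg)
  have hDne : D ≠ ⊥ := fun hD0 => h.hne (le_bot_iff.mp (hD0 ▸ commutator_mono hRY le_rfl))
  have hDY : D ≤ Y := Coprime.commutator_le_left_of_normalizer hQY
  have hDD : ⁅D, Q⁆ = D :=
    Coprime.commutator_commutator_eq hQY hcopQ (Or.inl (Coprime.isSolvable_of_le h.hQS inferInstance))
  have hYD : Y = D := by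
    refine le_antisymm ?_ hDY
    rw [hY]
    refine normalClosure_le_normal ?_
    exact (hsmall D hDY (Components.le_normalizer_of_normal S)).resolve_right
      (fun h0 => hDne (hDD ▸ h0))
  have hYp : IsPGroup t Y := hTp.to_le (hYD ▸ hDT : Y ≤ T)
  have htp : t ≠ p := by
    rintro rfl
    have hY0 : Y = ⊥ := le_bot_iff.mp (h.hO ▸ Components.le_pCore hYn hYp)
    exact h.R_ne_bot (le_bot_iff.mp (hY0 ▸ hRY))
  -- Frattini quotient
  set Φ := (frattini Y).map Y.subtype with hΦ
  haveI hΦn : Φ.Normal := ConjAct.normal_of_characteristic_of_normal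
  have hΦY : Φ ≤ Y := map_subtype_le _
  have hY0 : Y ≠ ⊥ := fun h0 => h.R_ne_bot (le_bot_iff.mp (h0 ▸ hRY))
  have hRΦ : ¬ R ≤ Φ := by
    intro hR
    have h1 : Y ≤ Φ := le_of_eq_of_le hY (normalClosure_le_normal hR)
    have h2 : frattini Y = ⊤ := by
      refine eq_top_iff.mpr fun y _ => ?_
      obtain ⟨z, hz, he⟩ := h1 y.2
      rwa [← Subtype.ext he]
    haveI : Nontrivial Y := (nontrivial_iff_ne_bot Y).mpr hY0
    obtain ⟨M, hM⟩ := (IsCoatomic.eq_top_or_exists_le_coatom (⊥ : Subgroup Y)).resolve_left bot_ne_top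
    exact hM.1.1 (top_le_iff.mp (h2 ▸ frattini_le_coatom hM.1))
  have hΦQ : ⁅Φ, Q⁆ = ⊥ := (hsmall Φ hΦY (Components.le_normalizer_of_normal S)).resolve_left hRΦ
  have hcomm : ⁅Y, Y⁆ ≤ Φ := by
    rw [← map_subtype_commutator]
    exact map_mono (PGroups.commutator_le_frattini hYp)
  have hclass : ⁅Y, Φ⁆ = ⊥ := by
    have h1 : ⁅⁅Y, Q⁆, Φ⁆ = ⊥ := by
      refine commutator_commutator_eq_bot_of_rotate ?_ ?_
      · rw [commutator_comm Q Φ, hΦQ, commutator_bot_left]
      · refine le_bot_iff.mp (le_of_le_of_eq (commutator_mono ?_ le_rfl) hΦQ)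
        exact Coprime.commutator_le_left_of_normalizer (Components.le_normalizer_of_normal Y)
    rwa [← hD, ← hYD] at h1
  refine ⟨?_, t, ht, htp, hYp, le_bot_iff.mp (le_of_le_of_eq (commutator_mono hcomm le_rfl)
    (commutator_comm Φ Y ▸ hclass))⟩
  -- `R` is everything
  let ρ := QuotientGroup.mk' Φ
  have hρ : ρ.ker = Φ := QuotientGroup.ker_mk' Φ
  set V := Y.map ρ with hV
  have hVc : IsMulCommutative V := by
    refine ⟨⟨fun a b => Subtype.ext ?_⟩⟩
    obtain ⟨a, y, hy, rfl⟩ := a
    obtain ⟨b, z, hz, rfl⟩ := b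
    have : ρ ⁅y, z⁆ = 1 := (QuotientGroup.eq_one_iff _).mpr (hcomm (commutator_mem_commutator hy hz))
    rw [map_commutatorElement] at this
    exact commutatorElement_eq_one_iff_mul_comm.mp this
  have hfrat : frattini V = ⊥ := by
    set ψ := ρ.subgroupMap Y with hψ
    have hsur : Function.Surjective ψ := ρ.subgroupMap_surjective Y
    have hker : ψ.ker = frattini Y := by
      ext y
      rw [MonoidHom.mem_ker, ← Subtype.coe_inj]
      show ρ (y : G) = 1 ↔ _
      rw [← MonoidHom.mem_ker, hρ]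
      exact mem_map_iff_mem Y.subtype_injective
    have h1 : (frattini V).comap ψ ≤ frattini Y := by
      refine le_iInf₂ fun M hM => ?_
      have hkM : ψ.ker ≤ M := hker ▸ frattini_le_coatom hM
      have hco : (M.map ψ).comap ψ = M := by rw [comap_map_eq, sup_eq_left.mpr hkM]
      have hM' : IsCoatom (M.map ψ) := by
        refine ⟨fun h0 => hM.1 (by rw [← hco, h0, comap_top]), fun N hN => ?_⟩
        have hlt : M < N.comap ψ := hco ▸ (comap_lt_comap_of_surjective hsur).mpr hN
        rw [← map_comap_eq_self_of_surjective hsur N, hM.2 _ hlt, map_top_of_surjective _ hsur]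
      exact hco ▸ comap_mono (frattini_le_coatom hM')
    rw [← map_comap_eq_self_of_surjective hsur (frattini V), Subgroup.map_eq_bot_iff, hker]
    exact h1
  set W := R.map ρ with hW
  have hWV : W ≤ V := map_mono hRY
  haveI : IsMulCommutative (W.subgroupOf V) := ⟨⟨fun a b => Subtype.ext (hVc.is_comm.comm a.1 b.1)⟩⟩
  haveI : (W.subgroupOf V).Normal :=
    ⟨fun n hn g => by rwa [hVc.is_comm.comm g n, mul_inv_cancel_right]⟩
  obtain ⟨A, hA1, hA2⟩ := H59.exists_complement_of_frattini_eq_bot hfrat (W.subgroupOf V)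
  obtain ⟨W', hW'V, hSW', hinf, hsup⟩ := S0660.result V (S.map ρ) W hVc
    ((map_mono hSY).trans (le_normalizer_map _))
    (Nat.Coprime.coprime_dvd_right (card_map_dvd Y ρ) (hcopS.coprime_dvd_left (card_map_dvd S ρ)))
    hWV ((map_mono h.hSR).trans (le_normalizer_map _)) (A.map V.subtype) (map_subtype_le _)
    (by rw [← map_subgroupOf_eq_of_le hWV, ← map_inf _ _ _ V.subtype_injective, inf_comm, hA1, Subgroup.map_bot])
    (by rw [← map_subgroupOf_eq_of_le hWV, ← Subgroup.map_sup, hA2, ← MonoidHom.range_eq_map, range_subtype])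
  set X := W'.comap ρ with hX
  have hΦX : Φ ≤ X := le_of_eq_of_le hρ.symm (ker_le_comap ρ W')
  have hXY : X ≤ Y := by
    refine (comap_mono hW'V).trans ?_
    rw [hV, comap_map_eq, hρ]
    exact sup_le le_rfl hΦY
  have hSX : S ≤ normalizer (X : Set G) := fun s hs => by
    have := hSW' (mem_map_of_mem ρ hs)
    rw [mem_normalizer_iff] at this ⊢
    intro x
    simpa [hX] using this (ρ x)
  have hRX : ¬ R ≤ X := by
    intro hR
    refine hRΦ ?_
    rw [← hρ, ← Subgroup.map_eq_bot_iff, ← hW, ← hinf]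
    exact (inf_eq_left.mpr ((map_mono hR).trans (map_comap_le ρ W'))).symm
  have hXQ := commutator_eq_bot_iff_le_centralizer.mp ((hsmall X hXY hSX).resolve_left hRX)
  have hYX : Y ≤ normalizer (X : Set G) := by
    rw [Subgroup.le_normalizer_iff_commutator_le_right]
    exact (commutator_mono le_rfl hXY).trans (hcomm.trans hΦX)
  have hRXY : R ⊔ X = Y := by
    refine le_antisymm (sup_le hRY hXY) fun y hy => ?_
    have : ρ y ∈ (R ⊔ X).map ρ := by
      rw [Subgroup.map_sup, hX, map_comap_eq_self_of_surjective (QuotientGroup.mk'_surjective Φ), ← hW, hsup]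
      exact mem_map_of_mem ρ hy
    rw [← mem_comap, comap_map_eq, hρ, sup_eq_left.mpr (hΦX.trans le_sup_right)] at this
    exact this
  refine le_antisymm ?_ hRY
  conv_lhs => rw [hYD]
  refine commutator_le.mpr fun y hy q hq => ?_
  rw [← hRXY, sup_comm] at hy
  obtain ⟨a, ha, b, hb, rfl⟩ := (Coprime.mem_sup_iff (hRY.trans hYX)).mp hy
  have hc : b⁻¹ * a * b ∈ X := Coprime.conj_mem' (hYX (hRY hb)) ha
  rw [show a * b = b * (b⁻¹ * a * b) by group, commutatorElement_mul_left_eq_conj_mul,
    commutatorElement_eq_one_iff_mul_comm.mpr (mem_centralizer_iff.mp (hXQ hc) q hq).symm,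
    mul_one, mul_inv_cancel, one_mul]
  exact Coprime.commutator_le_left_of_normalizer (h.hQS.trans h.hSR) (commutator_mem_commutator hb hq)

theorem not_le_fitting {Y : Subgroup G} (hY : Y = normalClosure (R : Set G)) (hp : p ∣ Nat.card Y) :
    ¬ R ≤ Cfsg.fittingSubgroup G := fun hF => fitting_coprime (G := G) h.hO
  (hp.trans (card_dvd_of_le (hY ▸ normalClosure_le_normal hF)))

omit h in
theorem map_conj_map_conj_inv (K : Subgroup G) (g : G) :
    (K.map (MulAut.conj g).toMonoidHom).map (MulAut.conj g⁻¹).toMonoidHom = K := by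
  rw [Coprime.map_conj_map_conj, inv_mul_cancel, Coprime.map_conj_one]

theorem commutator_conj {g : G} (hg : g ∈ normalizer (Q : Set G)) {K : Subgroup G}
    (hK : ⁅K, Q⁆ = ⊥) : ⁅K.map (MulAut.conj g).toMonoidHom, Q⁆ = ⊥ := by
  conv_lhs => rw [← Coprime.map_conj_eq hg]
  rw [← map_commutator, hK, Subgroup.map_bot]

/-- If `R` is not in the Fitting subgroup, `Y` is a product of components permuted transitively by `S`. -/
theorem layer_case {Y : Subgroup G} (hY : Y = normalClosure (R : Set G))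
    (hF : ¬ R ≤ Cfsg.fittingSubgroup G) :
    Y = sSup {K | Cfsg.IsComponent K ∧ K ≤ Y} ∧
      ∀ K₁ K₂ : Subgroup G, Cfsg.IsComponent K₁ → Cfsg.IsComponent K₂ → K₁ ≤ Y → K₂ ≤ Y →
        ∃ s ∈ S, K₂ = K₁.map (MulAut.conj s).toMonoidHom := by
  haveI hYn : Y.Normal := hY ▸ normalClosure_normal
  have hRY : R ≤ Y := hY ▸ subset_normalClosure
  have hRE : R ≤ Cfsg.layer G := h.fitting_or_layer.resolve_left hF
  let cjm : G → Subgroup G → Subgroup G := fun g K => K.map (MulAut.conj g).toMonoidHom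
  have hmul : ∀ a b K, cjm a (cjm b K) = cjm (a * b) K := fun a b K =>
    Coprime.map_conj_map_conj a b K
  have hone : ∀ K, cjm 1 K = K := Coprime.map_conj_one
  let orb : Subgroup G → Set (Subgroup G) := fun K => {J | ∃ s ∈ S, J = cjm s K}
  let X : Subgroup G → Subgroup G := fun K => sSup (orb K)
  have horb : ∀ {K J}, Cfsg.IsComponent K → J ∈ orb K → Cfsg.IsComponent J := by
    rintro K J hK ⟨s, -, rfl⟩
    exact Components.component_conj hK s
  have hXE : ∀ {K}, Cfsg.IsComponent K → X K ≤ Cfsg.layer G := fun hK =>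
    sSup_le fun J hJ => Components.component_le_layer (horb hK hJ)
  have hKX : ∀ K, K ≤ X K := fun K => le_sSup ⟨1, one_mem S, (hone K).symm⟩
  have hstab : ∀ (g : G) (𝒦 : Set (Subgroup G)), (∀ J ∈ 𝒦, cjm g J ≤ sSup 𝒦) →
      (∀ J ∈ 𝒦, cjm g⁻¹ J ≤ sSup 𝒦) → g ∈ normalizer ((sSup 𝒦 : Subgroup G) : Set G) := by
    intro g 𝒦 h1 h2
    refine Coprime.mem_normalizer_of_map_conj (le_antisymm ?_ ?_)
    · exact map_le_iff_le_comap.mpr (sSup_le fun J hJ => map_le_iff_le_comap.mp (h1 J hJ))
    · intro x hx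
      refine ⟨g⁻¹ * x * g, ?_, by simp [mul_assoc]⟩
      have : sSup 𝒦 ≤ (sSup 𝒦).comap (MulAut.conj g⁻¹).toMonoidHom :=
        sSup_le fun J hJ => map_le_iff_le_comap.mp (h2 J hJ)
      simpa using this hx
  have hSX : ∀ K, S ≤ normalizer (X K : Set G) := by
    intro K g hg
    refine hstab g _ ?_ ?_
    · rintro J ⟨s, hs, rfl⟩
      exact le_sSup ⟨g * s, mul_mem hg hs, hmul _ _ _⟩
    · rintro J ⟨s, hs, rfl⟩
      exact le_sSup ⟨g⁻¹ * s, mul_mem (inv_mem hg) hs, hmul _ _ _⟩
  have hXsub : ∀ {K}, Cfsg.IsComponent K → (X K).IsSubnormal := by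
    intro K hK
    refine Subgroup.IsSubnormal.step _ _ (hXE hK)
      (inferInstance : (Cfsg.layer G).Normal).isSubnormal ?_
    refine (normal_subgroupOf_iff_le_normalizer (hXE hK)).mpr fun e he => ?_
    refine hstab e _ (fun J hJ => ?_) (fun J hJ => ?_)
    · exact (Coprime.map_conj_eq (Components.layer_le_normalizer_component (horb hK hJ) he)).trans_le
        (le_sSup hJ)
    · exact (Coprime.map_conj_eq
        (Components.layer_le_normalizer_component (horb hK hJ) (inv_mem he))).trans_le (le_sSup hJ)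
  have hEZ : ∀ {Z : Subgroup G}, R ≤ Z → ⁅Z, Cfsg.layer G⁆ = ⊥ → False := by
    intro Z hRZ hZ
    refine hF ?_
    intro r hr
    have h1 : r ∈ (Subgroup.center (Cfsg.layer G)).map (Cfsg.layer G).subtype :=
      (Components.mem_center_map_iff _ r).mpr ⟨hRE hr, fun y hy =>
        (Components.commute_of_commutator_eq_bot hZ (hRZ hr) hy).symm⟩
    rw [Components.center_layer_eq_fitting_inf] at h1
    exact h1.1
  -- distinct orbits commute
  have hdis : ∀ {K K'}, Cfsg.IsComponent K → Cfsg.IsComponent K' → K' ∉ orb K →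
      ⁅X K, K'⁆ = ⊥ := fun hK hK' hne => Components.commutator_sSup_eq_bot fun J hJ =>
    Components.components_commute (horb hK hJ) hK' fun he => hne (he ▸ hJ)
  obtain ⟨K, hK, hKQ⟩ : ∃ K, Cfsg.IsComponent K ∧ ⁅K, Q⁆ ≠ ⊥ := by
    by_contra hno
    push Not at hno
    refine h.not_centralizes_genFitting ?_
    have h1 := (h.subnormal_dichotomy (inferInstance : (Cfsg.fittingSubgroup G).Normal).isSubnormal
      (Components.le_normalizer_of_normal S)).resolve_left hF
    have h2 : ⁅Cfsg.layer G, Q⁆ = ⊥ := Components.commutator_sSup_eq_bot fun J hJ => hno J hJ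
    rw [commutator_eq_bot_iff_le_centralizer] at h1 h2 ⊢
    exact sup_le h2 h1
  have hRX : ∀ {J}, Cfsg.IsComponent J → ⁅J, Q⁆ ≠ ⊥ → R ≤ X J := fun {J} hJ hJQ =>
    (h.subnormal_dichotomy (hXsub hJ) (hSX J)).resolve_right fun h0 =>
      hJQ (le_bot_iff.mp (h0 ▸ commutator_mono (hKX J) le_rfl))
  have horbQ : ∀ J ∈ orb K, ⁅J, Q⁆ ≠ ⊥ := by
    rintro J ⟨s, hs, rfl⟩ h0
    refine hKQ ?_
    have := h.commutator_conj (inv_mem (h.hLQ (h.hSL hs))) h0
    rwa [map_conj_map_conj_inv] at this
  have hmem : ∀ {J}, Cfsg.IsComponent J → ⁅J, Q⁆ ≠ ⊥ → J ∈ orb K := by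
    intro J hJ hJQ
    by_contra hne
    refine hEZ (le_inf (hRX hK hKQ) (hRX hJ hJQ)) ?_
    rw [commutator_comm]
    refine Components.commutator_sSup_eq_bot fun E hE => ?_
    by_cases hEK : E ∈ orb K
    · have hEJ : E ∉ orb J := by
        rintro ⟨s, hs, rfl⟩
        obtain ⟨t, ht, he⟩ := hEK
        refine hne ⟨s⁻¹ * t, mul_mem (inv_mem hs) ht, ?_⟩
        rw [← hmul, ← he, hmul, inv_mul_cancel, hone]
      refine le_bot_iff.mp (le_of_le_of_eq ?_ (hdis hJ hE hEJ))
      rw [commutator_comm (X J)]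
      exact commutator_mono le_rfl inf_le_right
    · refine le_bot_iff.mp (le_of_le_of_eq ?_ (hdis hK hE hEK))
      rw [commutator_comm (X K)]
      exact commutator_mono le_rfl inf_le_left
  haveI hXn : (X K).Normal := by
    refine h.normal_of_normalized ((hRX hK hKQ).trans le_normalizer) fun g hg => ?_
    have hcl : ∀ g ∈ L, ∀ J ∈ orb K, cjm g J ≤ X K := by
      intro g hg J hJ
      refine le_sSup (hmem (Components.component_conj (horb hK hJ) g) fun h0 => horbQ J hJ ?_)
      have := h.commutator_conj (inv_mem (h.hLQ hg)) h0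
      rwa [map_conj_map_conj_inv] at this
    exact hstab g _ (hcl g hg) (hcl g⁻¹ (inv_mem hg))
  have hYX : Y ≤ X K := hY ▸ normalClosure_le_normal (hRX hK hKQ)
  have hXY : ∀ J ∈ orb K, J ≤ Y := by
    intro J hJ
    refine (Components.component_le_or_commutator_eq_bot_normal (horb hK hJ) Y).resolve_right
      fun h0 => hEZ (Z := Y ⊓ X K) (le_inf hRY (hRX hK hKQ)) ?_
    have hall : ∀ E ∈ orb K, ⁅E, Y⁆ = ⊥ := by
      obtain ⟨s, hs, rfl⟩ := hJ
      rintro E ⟨t, ht, rfl⟩
      have hn : ∀ g : G, g ∈ normalizer (Y : Set G) := fun g => by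
        rw [normalizer_eq_top]; exact mem_top g
      have : cjm t K = cjm (t * s⁻¹) (cjm s K) := by rw [hmul, inv_mul_cancel_right]
      rw [this]
      show ⁅(cjm s K).map (MulAut.conj (t * s⁻¹)).toMonoidHom, Y⁆ = ⊥
      conv_lhs => rw [← Coprime.map_conj_eq (hn (t * s⁻¹))]
      rw [← map_commutator, h0, Subgroup.map_bot]
    rw [commutator_comm]
    refine Components.commutator_sSup_eq_bot fun E hE => ?_
    by_cases hEK : E ∈ orb K
    · exact le_bot_iff.mp (le_of_le_of_eq (commutator_mono le_rfl inf_le_left) (hall E hEK))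
    · refine le_bot_iff.mp (le_of_le_of_eq ?_ (hdis hK hE hEK))
      rw [commutator_comm (X K)]
      exact commutator_mono le_rfl inf_le_right
  have hin : ∀ J, Cfsg.IsComponent J → J ≤ Y → J ∈ orb K := by
    intro J hJ hJY
    by_contra hne
    have h1 : ⁅J, J⁆ = ⊥ := le_bot_iff.mp (le_of_le_of_eq
      (commutator_mono (hJY.trans hYX) le_rfl) (hdis hK hJ hne))
    exact Components.qsSub_ne_bot hJ.2 ((Components.component_perfect hJ).symm.trans h1)
  refine ⟨le_antisymm (hYX.trans (sSup_le fun J hJ => le_sSup ⟨horb hK hJ, hXY J hJ⟩))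
    (sSup_le fun J hJ => hJ.2), fun K₁ K₂ h1 h2 hl1 hl2 => ?_⟩
  obtain ⟨s, hs, rfl⟩ := hin K₁ h1 hl1
  obtain ⟨t, ht, rfl⟩ := hin K₂ h2 hl2
  exact ⟨t * s⁻¹, mul_mem ht (inv_mem hs), by rw [show (cjm s K).map (MulAut.conj (t * s⁻¹)).toMonoidHom = cjm (t * s⁻¹) (cjm s K) from rfl, hmul, inv_mul_cancel_right]⟩

end

end IsoSetting

end Cfsg.Agent.H62
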