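import Cfsg.Prelude.Def_LocalEven
import Cfsg.Agent.S2790
import Cfsg.Agent.H60.PMinimal
import Cfsg.Agent.H62.IsolatedCore

/-!
An isolated p-minimal subgroup `P` over a Sylow subgroup: reduction modulo `O_p(G)`.
-/

set_option autoImplicit false
set_option linter.style.haveILetI false

namespace Cfsg.Agent.H62

open Subgroup
open scoped commutatorElement

universe u v

theorem isPMinimal_equiv {A : Type u} {B : Type v} [Group A] [Group B] {p : ℕ} (e : A ≃* B)
    (h : Cfsg.IsPMinimal p A) : Cfsg.IsPMinimal p B := by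
  intro R
  obtain ⟨hn, M, ⟨hM, hRM⟩, hu⟩ := h (R.comapOfInjective e.toMonoidHom e.injective
    (by rw [MonoidHom.range_eq_top.mpr e.surjective]; exact le_top))
  refine ⟨fun hR => hn (hR.comap e.toMonoidHom), M.map e.toMonoidHom,
    ⟨(e.mapSubgroup.isCoatom_iff M).mpr hM, ?_⟩, ?_⟩
  · rw [← map_comap_eq_self_of_surjective (f := e.toMonoidHom) e.surjective (R : Subgroup B)]
    exact Subgroup.map_mono hRM
  · rintro K ⟨hK, hRK⟩
    obtain ⟨K', rfl⟩ : ∃ K' : Subgroup A, K'.map e.toMonoidHom = K :=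
      ⟨K.comap e.toMonoidHom, map_comap_eq_self_of_surjective (f := e.toMonoidHom) e.surjective K⟩
    congr 1
    refine hu K' ⟨(e.mapSubgroup.isCoatom_iff K').mp hK, ?_⟩
    rw [← comap_map_eq_self_of_injective (f := e.toMonoidHom) e.injective K']
    exact comap_mono hRK

variable {G : Type u} [Group G] [Finite G] {p : ℕ} [Fact p.Prime]

omit [Finite G] [Fact p.Prime] in
/-- The elements of order prime to `p` of `X S` lie in `X`. -/
theorem mem_of_coprime_mem_sup {X S : Subgroup G} (hS : IsPGroup p S)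
    (hSX : S ≤ normalizer (X : Set G)) {g : G} (hg : g ∈ X ⊔ S) (hcop : (orderOf g).Coprime p) :
    g ∈ X := by
  obtain ⟨x, hx, s, hs, rfl⟩ := (Coprime.mem_sup_iff hSX).mp hg
  obtain ⟨k, hk⟩ := hS ⟨s, hs⟩
  have hsk : s ^ p ^ k = 1 := congrArg Subtype.val hk
  have h : ∀ m : ℕ, ∃ y ∈ X, (x * s) ^ m = y * s ^ m := by
    intro m
    induction m with
    | zero => exact ⟨1, one_mem X, by simp⟩
    | succ m ih =>
      obtain ⟨y, hy, he⟩ := ih
      refine ⟨y * (s ^ m * x * (s ^ m)⁻¹),
        mul_mem hy (Coprime.conj_mem (pow_mem (hSX hs) m) hx), ?_⟩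
      rw [pow_succ, he, pow_succ]; group
  obtain ⟨y, hy, he⟩ := h (p ^ k)
  rw [hsk, mul_one] at he
  obtain ⟨m, hm⟩ := exists_pow_eq_self_of_coprime (x := x * s) (n := p ^ k) (hcop.pow_right k).symm
  rw [← hm, he]
  exact pow_mem hy m

theorem residual_le_of_le_sup {P X S : Subgroup G} (hS : IsPGroup p S)
    (hSX : S ≤ normalizer (X : Set G)) (hP : P ≤ X ⊔ S) :
    (Cfsg.pResidual p ↥P).map P.subtype ≤ X := by
  rw [map_le_iff_le_comap]
  exact Fusion.pResidual_le.mpr fun g hg => mem_of_coprime_mem_sup hS hSX (hP g.2)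
    (by rwa [orderOf_injective _ P.subtype_injective])

section

variable (S : Sylow p G) (P : Subgroup G) (hSP : (S : Subgroup G) ≤ P)
  (hPmin : Cfsg.IsPMinimal p ↥P) (L : Subgroup G)
  (hL : L = Subgroup.normalizer ((S : Subgroup G) : Set G) ⊔
    ⨆ P' : {P' : Subgroup G // (S : Subgroup G) ≤ P' ∧ Cfsg.IsPMinimal p ↥P' ∧ P' ≠ P}, (P' : Subgroup G))

include hL in
omit [Finite G] [Fact p.Prime] in
theorem sylow_le_isolator : (S : Subgroup G) ≤ L :=
  hL ▸ le_sup_of_le_left le_normalizer

include hL in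
/-- An overgroup of `S` not containing `P` lies in `L`. -/
theorem le_isolator_of_not_le {H : Subgroup G} (hSH : (S : Subgroup G) ≤ H) (hPH : ¬ P ≤ H) :
    H ≤ L := by
  obtain ⟨hgen, hfr⟩ := S2790.result (S.subtype hSH)
  have hSL := sylow_le_isolator S P L hL
  have hE : Cfsg.pElementClosure p (⊤ : Subgroup H) ≤ L.subgroupOf H := by
    rw [← hgen]
    refine sup_le (fun x hx => hSL hx) (iSup_le fun ⟨P', hSP', hP'⟩ x hx => ?_)
    have h1 : (S : Subgroup G) ≤ P'.map H.subtype := fun s hs => ⟨⟨s, hSH hs⟩, hSP' hs, rfl⟩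
    have h2 : P'.map H.subtype ≠ P := fun e => hPH (e ▸ map_subtype_le _)
    have h3 : Cfsg.IsPMinimal p ↥(P'.map H.subtype) :=
      isPMinimal_equiv (P'.equivMapOfInjective H.subtype H.subtype_injective) hP'
    rw [mem_subgroupOf, hL]
    exact mem_sup_right (mem_iSup_of_mem ⟨_, h1, h3, h2⟩ (mem_map_of_mem H.subtype hx))
  intro g hg
  obtain ⟨x, hx, y, hy, he⟩ := hfr ⟨g, hg⟩
  have hyS : (y : G) ∈ normalizer ((S : Subgroup G) : Set G) := by
    rw [mem_normalizer_iff] at hy ⊢
    intro z
    constructor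
    · intro hz
      exact (hy ⟨z, hSH hz⟩).mp hz
    · intro hz
      have hzH : z ∈ H := by
        simpa [mul_assoc] using mul_mem (mul_mem (inv_mem y.2) (hSH hz)) y.2
      exact (hy ⟨z, hzH⟩).mpr hz
  have h4 : g = (x : G) * y := congrArg Subtype.val he
  rw [h4]
  exact mul_mem (hE hx) (hL ▸ mem_sup_left hyS)

include hSP hL in
/-- `G` is generated by `P` and `L`. -/
theorem sup_isolator : P ⊔ L = ⊤ := by
  obtain ⟨hgen, hfr⟩ := S2790.result S
  have hE : Cfsg.pElementClosure p (⊤ : Subgroup G) ≤ P ⊔ L := by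
    rw [← hgen]
    refine sup_le (le_sup_of_le_left hSP) (iSup_le fun ⟨P', hSP', hP'⟩ => ?_)
    by_cases he : P' = P
    · exact le_sup_of_le_left he.le
    · refine le_sup_of_le_right ?_
      rw [hL]
      exact le_sup_of_le_right (le_iSup_of_le ⟨P', hSP', hP', he⟩ le_rfl)
  refine eq_top_iff.mpr fun g _ => ?_
  obtain ⟨x, hx, y, hy, rfl⟩ := hfr g
  exact mul_mem (hE hx) (mem_sup_right (hL ▸ mem_sup_left hy))

include hL in
theorem pCore_isolator_le : (Cfsg.pCore p ↥L).map L.subtype ≤ (S : Subgroup G) := by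
  have hSL := sylow_le_isolator S P L hL
  rintro _ ⟨x, hx, rfl⟩
  have h : Cfsg.pCore p ↥L ≤ (S.subtype hSL : Subgroup L) :=
    sSup_le fun N hN => by
      obtain ⟨R, hR⟩ := hN.2.exists_le_sylow
      obtain ⟨g, hg⟩ := MulAction.exists_smul_eq L R (S.subtype hSL)
      intro n hn
      rw [← hg, Sylow.coe_subgroup_smul]
      haveI := hN.1
      refine ⟨g⁻¹ * n * g, hR ?_, by simp [mul_assoc]⟩
      simpa using hN.1.conj_mem n hn g⁻¹
  exact h hx

include hL in
theorem isolator_le_normalizer :
    L ≤ normalizer (((Cfsg.pCore p ↥L).map L.subtype : Subgroup G) : Set G) := by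
  haveI : (Cfsg.pCore p ↥L).Normal := sSup_normal _ fun _ h => h.1
  exact le_normalizer_map_subtype
where
  le_normalizer_map_subtype {L : Subgroup G} {N : Subgroup L} [N.Normal] :
      L ≤ normalizer ((N.map L.subtype : Subgroup G) : Set G) := by
    rw [le_normalizer_iff]
    rintro g hg _ ⟨n, hn, rfl⟩
    exact ⟨⟨g, hg⟩ * n * ⟨g, hg⟩⁻¹, Normal.conj_mem ‹_› n hn _, rfl⟩

include hSP in
omit [Finite G] in
theorem sylow_sup_residual_eq [Finite G] :
    (S : Subgroup G) ⊔ (Cfsg.pResidual p ↥P).map P.subtype = P := by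
  have h := congrArg (Subgroup.map P.subtype) (Fusion.sylow_sup_pResidual (p := p) (S.subtype hSP))
  rw [Subgroup.map_sup, ← MonoidHom.range_eq_map, range_subtype] at h
  conv_rhs => rw [← h]
  congr 1
  exact (map_subgroupOf_eq_of_le hSP).symm

variable (hiso : ¬ (Cfsg.pCore p ↥L).map L.subtype ≤ (Cfsg.pCore p ↥P).map P.subtype)

include hSP hL hiso in
theorem isoSetting {N : Subgroup G} [N.Normal] (hN : N = Cfsg.pCore p G) :
    IsoSetting p ((S : Subgroup G).map (QuotientGroup.mk' N))
      (((Cfsg.pResidual p ↥P).map P.subtype).map (QuotientGroup.mk' N))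
      (((Cfsg.pCore p ↥L).map L.subtype).map (QuotientGroup.mk' N))
      (L.map (QuotientGroup.mk' N)) := by
  set π := QuotientGroup.mk' N with hπ
  have hsur : Function.Surjective π := QuotientGroup.mk'_surjective N
  set R := (Cfsg.pResidual p ↥P).map P.subtype with hR
  set Q := (Cfsg.pCore p ↥L).map L.subtype with hQ
  have hSL := sylow_le_isolator S P L hL
  have hQS : Q ≤ S := pCore_isolator_le S P L hL
  have hLQ := isolator_le_normalizer S P L hL
  have hsup := sylow_sup_residual_eq S P hSP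
  have hPR : P ≤ normalizer (R : Set G) := isolator_le_normalizer.le_normalizer_map_subtype
  have hNp : IsPGroup p N := hN ▸ Components.isPGroup_pCore p
  have hNS : N ≤ S := by
    obtain ⟨T, hT⟩ := hNp.exists_le_sylow
    obtain ⟨g, hg⟩ := MulAction.exists_smul_eq G T S
    intro n hn
    rw [← hg, Sylow.coe_subgroup_smul]
    exact ⟨g⁻¹ * n * g, hT (by simpa using ‹N.Normal›.conj_mem n hn g⁻¹), by simp [mul_assoc]⟩
  refine ⟨S.isPGroup'.map π, map_mono hQS, map_mono hSL, (map_mono hLQ).trans (le_normalizer_map π),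
    (map_mono (hSP.trans hPR)).trans (le_normalizer_map π), ?_, ?_, ?_, fun X hX => ?_⟩
  · rw [← Subgroup.map_sup, eq_top_iff, ← map_top_of_surjective π hsur, ← sup_isolator S P hSP L hL]
    refine map_mono (sup_le (hsup ▸ sup_le (hSL.trans le_sup_right) le_sup_left) le_sup_right)
  · subst hN
    exact Cores.pCore_quotient_pCore
  · intro h0
    refine hiso ?_
    rw [← map_commutator, Subgroup.map_eq_bot_iff, QuotientGroup.ker_mk'] at h0
    have h1 : P ≤ normalizer ((Q ⊔ N : Subgroup G) : Set G) := by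
      rw [← hsup]
      have hNn : ∀ g : G, g ∈ normalizer (N : Set G) := fun g => by
        rw [normalizer_eq_top]; exact mem_top g
      refine sup_le (fun s hs => ?_) ?_
      · refine Coprime.mem_normalizer_of_map_conj ?_
        rw [Subgroup.map_sup, Coprime.map_conj_eq (hLQ (hSL hs)), Coprime.map_conj_eq (hNn s)]
      · rw [le_normalizer_iff_commutator_le_right]
        refine commutator_le.mpr fun r hr x hx => ?_
        obtain ⟨q, hq, n, hn, rfl⟩ := (mem_sup_of_normal_right (t := N)).mp hx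
        have hq' : ⁅r, q⁆ ∈ Q ⊔ N := mem_sup_right (h0 (commutator_mem_commutator hr hq))
        have hn' : ⁅r, n⁆ ∈ Q ⊔ N := by
          refine mem_sup_right ?_
          rw [commutatorElement_def]
          exact mul_mem (Normal.conj_mem ‹_› n hn r) (inv_mem hn)
        rw [commutatorElement_mul_right_eq_mul_conj]
        have hqm : q ∈ Q ⊔ N := mem_sup_left hq
        simpa [mul_assoc] using mul_mem hq' (mul_mem (mul_mem hqm hn') (inv_mem hqm))
    have h2 : Q ⊔ N ≤ P := sup_le (hQS.trans hSP) (hNS.trans hSP)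
    have h3 : ((Q ⊔ N).subgroupOf P).Normal := normal_subgroupOf_of_le_normalizer h1
    have h4 : IsPGroup p ((Q ⊔ N).subgroupOf P) :=
      (S.isPGroup'.to_le (sup_le hQS hNS)).comap_of_injective P.subtype P.subtype_injective
    exact ((le_sup_left (b := N)).trans (map_subgroupOf_eq_of_le h2).ge).trans
      (map_mono (Components.le_pCore h3 h4))
  · have hSX : (S : Subgroup G) ≤ normalizer ((X.comap π : Subgroup G) : Set G) := fun s hs => by
      have h5 := hX (mem_map_of_mem π hs)
      rw [mem_normalizer_iff] at h5 ⊢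
      intro x
      simpa using h5 (π x)
    by_cases hPH : P ≤ X.comap π ⊔ S
    · left
      rw [map_le_iff_le_comap]
      exact residual_le_of_le_sup S.isPGroup' hSX hPH
    · right
      rw [← map_comap_eq_self_of_surjective hsur X]
      exact map_mono (le_sup_left.trans (le_isolator_of_not_le S P L hL le_sup_right hPH))

include hSP in
/-- If `O^p(P)` covers its normal closure modulo `O_p(G)`, it is normal. -/
theorem residual_eq_closure {N Y : Subgroup G} [N.Normal] (hN : N = Cfsg.pCore p G)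
    (hY : Y = normalClosure (((Cfsg.pResidual p ↥P).map P.subtype : Subgroup G) : Set G))
    (h : Y.map (QuotientGroup.mk' N) =
      ((Cfsg.pResidual p ↥P).map P.subtype).map (QuotientGroup.mk' N)) :
    (Cfsg.pResidual p ↥P).map P.subtype = Y := by
  set R := (Cfsg.pResidual p ↥P).map P.subtype with hR
  have hNp : IsPGroup p N := hN ▸ Components.isPGroup_pCore p
  have hNS : N ≤ S := by
    obtain ⟨T, hT⟩ := hNp.exists_le_sylow
    obtain ⟨g, hg⟩ := MulAction.exists_smul_eq G T S
    intro n hn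
    rw [← hg, Sylow.coe_subgroup_smul]
    exact ⟨g⁻¹ * n * g, hT (by simpa using ‹N.Normal›.conj_mem n hn g⁻¹), by simp [mul_assoc]⟩
  have hRY : R ≤ Y := hY ▸ subset_normalClosure
  haveI : Y.Normal := hY ▸ normalClosure_normal
  have hYR : Y ⊔ N = R ⊔ N := by
    have := congrArg (Subgroup.comap (QuotientGroup.mk' N)) h
    simpa only [comap_map_eq, QuotientGroup.ker_mk'] using this
  have hNR : N ≤ normalizer (R : Set G) :=
    (hNS.trans hSP).trans isolator_le_normalizer.le_normalizer_map_subtype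
  set W := R ⊔ N with hW
  haveI hWn : W.Normal := hYR ▸ Subgroup.sup_normal Y N
  have hres : (Cfsg.pResidual p ↥W).map W.subtype = R := by
    refine le_antisymm (residual_le_of_le_sup hNp hNR le_rfl) ?_
    rw [hR]
    rintro _ ⟨r, hr, rfl⟩
    have key : Cfsg.pResidual p ↥P ≤ ((Cfsg.pResidual p ↥W).map W.subtype).comap P.subtype :=
      Fusion.pResidual_le.mpr fun g hg => Fusion.mem_pResidual_subgroup
        (mem_sup_left (mem_map_of_mem P.subtype (Fusion.mem_pResidual hg))) (by rwa [orderOf_injective _ P.subtype_injective])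
    exact key hr
  refine le_antisymm hRY (le_of_eq_of_le hY ?_)
  haveI : R.Normal := hres ▸ ConjAct.normal_of_characteristic_of_normal
  exact normalClosure_le_normal le_rfl

end

omit [Fact p.Prime] in
/-- The image of a normal closure. -/
theorem map_closure_eq {N : Subgroup G} [N.Normal] {R Y : Subgroup G}
    (hY : Y = normalClosure (R : Set G)) :
    Y.map (QuotientGroup.mk' N) =
      normalClosure ((R.map (QuotientGroup.mk' N) : Subgroup (G ⧸ N)) : Set (G ⧸ N)) := by
  rw [hY, map_normalClosure _ _ (QuotientGroup.mk'_surjective N), coe_map]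

/-- `Y / O_p(Y)` is the image of a normal subgroup `Y` modulo `O_p(G)`. -/
theorem quotient_pCore_equiv {N : Subgroup G} [N.Normal] (hN : N = Cfsg.pCore p G) (Y : Subgroup G)
    [Y.Normal] [(Cfsg.pCore p ↥Y).Normal] :
    ∃ e : (↥Y ⧸ Cfsg.pCore p ↥Y) ≃* ↥(Y.map (QuotientGroup.mk' N)),
      ∀ y : Y, ((e (QuotientGroup.mk y) : ↥(Y.map (QuotientGroup.mk' N))) : G ⧸ N) =
        QuotientGroup.mk (y : G) := by
  set φ := (QuotientGroup.mk' N).subgroupMap Y with hφ
  have hker : Cfsg.pCore p ↥Y = φ.ker := by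
    have h1 : φ.ker = N.subgroupOf Y := by
      ext y
      rw [MonoidHom.mem_ker, ← Subtype.coe_inj, mem_subgroupOf]
      exact QuotientGroup.eq_one_iff (y : G)
    rw [h1]
    refine le_antisymm ?_ (Components.le_pCore inferInstance ?_)
    · rw [subgroupOf, ← map_le_iff_le_comap (f := Y.subtype) (K := Cfsg.pCore p ↥Y)]
      rw [hN]
      haveI : (Cfsg.pCore p ↥Y).Characteristic := Cores.pCore_characteristic
      exact Components.le_pCore ConjAct.normal_of_characteristic_of_normal
        ((Components.isPGroup_pCore p).map _)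
    · exact (hN ▸ Components.isPGroup_pCore p : IsPGroup p N).comap_of_injective
        Y.subtype Y.subtype_injective
  exact ⟨(QuotientGroup.quotientMulEquivOfEq hker).trans
    (QuotientGroup.quotientKerEquivOfSurjective φ ((QuotientGroup.mk' N).subgroupMap_surjective Y)),
    fun y => rfl⟩

end Cfsg.Agent.H62
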