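import Cfsg.Agent.H62.SubsetSquare
import Cfsg.Agent.PGroups.CyclicMaximal

/-!
Miller's theorem on cyclic subgroups and Kulakoff's congruence for odd primes.
-/

set_option autoImplicit false
set_option linter.style.haveILetI false

open MulAction
open scoped Pointwise

namespace Cfsg.Agent.H62.Kulakoff

universe u

variable {p : ℕ} [hp : Fact p.Prime]

/-- In a non-cyclic `p`-group, `p` odd, of order at least `p ^ 3`, the number of cyclic maximal
subgroups is divisible by `p`. -/
theorem card_cyclic_maximal (hp2 : p ≠ 2) {P : Type*} [Group P] [Finite P] {n : ℕ}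
    (hP : Nat.card P = p ^ (n + 3)) (hnc : ¬ IsCyclic P) :
    p ∣ Nat.card {M : Subgroup P // Nat.card M = p ^ (n + 2) ∧ IsCyclic M} := by
  classical
  haveI := Fintype.ofFinite (Subgroup P)
  by_cases hex : ∃ C : Subgroup P, Nat.card C = p ^ (n + 2) ∧ IsCyclic C
  swap
  · haveI : IsEmpty {M : Subgroup P // Nat.card M = p ^ (n + 2) ∧ IsCyclic M} :=
      ⟨fun M => hex ⟨M.1, M.2⟩⟩
    simp
  obtain ⟨C, hC, hCc⟩ := hex
  have hidx : ∀ M : Subgroup P, Nat.card M = p ^ (n + 2) → M.index = p := by
    intro M hM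
    have := M.card_mul_index
    rw [hM, hP, show n + 3 = n + 2 + 1 by omega, pow_succ p (n + 2)] at this
    exact Nat.eq_of_mul_eq_mul_left (pow_pos hp.out.pos _) this
  have hPG : IsPGroup p P := IsPGroup.of_card hP
  obtain ⟨-, hKcard, hKexp⟩ := PGroups.omega_of_cyclic_max hPG hp2 hnc hCc (hidx C hC)
  let K := Subgroup.closure {x : P | x ^ p = 1}
  have hKcyc : ∀ H : Subgroup P, IsCyclic H → ¬ K ≤ H := by
    intro H hH hKH
    obtain ⟨g, hg⟩ := IsCyclic.exists_ofOrder_eq_natCard (α := H)
    haveI : IsCyclic K := isCyclic_of_injective (Subgroup.inclusion hKH)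
      (Subgroup.inclusion_injective hKH)
    obtain ⟨k, hk⟩ := IsCyclic.exists_ofOrder_eq_natCard (α := K)
    have h1 : orderOf k ∣ p := orderOf_dvd_of_pow_eq_one (Subtype.ext (hKexp k.1 k.2))
    rw [hk, hKcard] at h1
    have h2 := Nat.le_of_dvd hp.out.pos h1
    have h3 := Nat.pow_lt_pow_right hp.out.one_lt (by norm_num : 1 < 2)
    rw [pow_one] at h3
    omega
  have hKle : ∀ M : Subgroup P, Nat.card M = p ^ (n + 2) → ¬ IsCyclic M → K ≤ M := by
    intro M hM hMnc
    haveI := PGroups.normal_of_index_eq hPG (hidx M hM)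
    have hMC : M ≠ C := fun h => hMnc (h ▸ hCc)
    have hsup : M ⊔ C = ⊤ := by
      obtain ⟨x, hxC, hxM⟩ : ∃ x ∈ C, x ∉ M := by
        by_contra h
        push Not at h
        exact hMC (Subgroup.eq_of_le_of_card_ge h (by rw [hM, hC])).symm
      exact top_le_iff.mp ((PGroups.sup_zpowers_eq_top hPG (hidx M hM) hxM).ge.trans
        (sup_le_sup_left (Subgroup.zpowers_le.mpr hxC) M))
    haveI := PGroups.normal_of_index_eq hPG (hidx C hC)
    have hD : (C.subgroupOf M).index = p := by
      show C.relIndex M = p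
      rw [← Subgroup.relIndex_sup_right (H := M) (K := C), hsup, Subgroup.relIndex_top_right, hidx C hC]
    haveI : IsCyclic C := hCc
    haveI : IsCyclic (C.subgroupOf M) := isCyclic_of_injective
      ({ toFun := fun x => ⟨((x : M) : P), Subgroup.mem_subgroupOf.mp x.2⟩
         map_one' := rfl
         map_mul' := fun _ _ => rfl } : C.subgroupOf M →* C)
      (fun a b h => Subtype.ext (Subtype.ext (congrArg (fun z : C => (z : P)) h)))
    obtain ⟨-, hcard, hexp⟩ := PGroups.omega_of_cyclic_max (hPG.to_subgroup M) hp2 hMnc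
      (C := C.subgroupOf M) inferInstance hD
    let KM := Subgroup.closure {x : M | x ^ p = 1}
    have hle : KM.map M.subtype ≤ K := by
      rw [Subgroup.map_le_iff_le_comap, Subgroup.closure_le]
      intro x hx
      exact Subgroup.subset_closure (show (x : P) ^ p = 1 by rw [← SubmonoidClass.coe_pow, hx]; rfl)
    have := Subgroup.eq_of_le_of_card_ge hle
      (by rw [Subgroup.card_map_of_injective M.subtype_injective, hcard, hKcard])
    rw [← this]
    exact Subgroup.map_subtype_le _
  have huniq : Nat.card {M : Subgroup P // Nat.card M = p ^ (n + 2) ∧ ¬ IsCyclic M} = 1 := by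
    rw [Nat.card_eq_one_iff_unique]
    constructor
    · refine ⟨fun M M' => Subtype.ext ?_⟩
      obtain ⟨M, hM, hMnc⟩ := M
      obtain ⟨M', hM', hMnc'⟩ := M'
      show M = M'
      haveI := PGroups.normal_of_index_eq hPG (hidx C hC)
      have key : ∀ M : Subgroup P, Nat.card M = p ^ (n + 2) → ¬ IsCyclic M →
          Nat.card ↥(M ⊓ C) = p ^ (n + 1) := by
        intro M hM hMnc
        have hMC : ¬ C ≤ M := fun h => hMnc ((Subgroup.eq_of_le_of_card_ge h (by rw [hM, hC])) ▸ hCc)
        haveI := PGroups.normal_of_index_eq hPG (hidx M hM)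
        obtain ⟨x, hxC, hxM⟩ := SetLike.not_le_iff_exists.mp hMC
        have hsup : M ⊔ C = ⊤ := top_le_iff.mp ((PGroups.sup_zpowers_eq_top hPG (hidx M hM) hxM).ge.trans
          (sup_le_sup_left (Subgroup.zpowers_le.mpr hxC) M))
        have h2 : Nat.card ↥(M ⊓ C) * (M ⊓ C).relIndex M = Nat.card M := by
          rw [← Subgroup.relIndex_bot_left, Subgroup.relIndex_mul_relIndex _ _ _ bot_le inf_le_left,
            Subgroup.relIndex_bot_left]
        rw [Subgroup.inf_relIndex_left, ← Subgroup.relIndex_sup_right (H := M) (K := C), hsup,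
          Subgroup.relIndex_top_right, hidx C hC, hM, pow_succ] at h2
        exact Nat.eq_of_mul_eq_mul_right hp.out.pos h2
      haveI : IsCyclic C := hCc
      have hcomp : M ⊓ C = M' ⊓ C := by
        have h1 := SubsetSquare.card_le_congr C (p ^ (n + 1))
        rw [SubsetSquare.card_subgroups_of_isCyclic hp.out
          ((pow_dvd_pow p (Nat.le_succ (n + 1))).trans hC.symm.dvd), Nat.card_eq_one_iff_unique] at h1
        have := h1.1.elim ⟨M ⊓ C, key M hM hMnc, inf_le_right⟩ ⟨M' ⊓ C, key M' hM' hMnc', inf_le_right⟩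
        exact congrArg Subtype.val this
      have hgen : ∀ M : Subgroup P, Nat.card M = p ^ (n + 2) → ¬ IsCyclic M → M = (M ⊓ C) ⊔ K := by
        intro M hM hMnc
        symm
        have hle : (M ⊓ C) ⊔ K ≤ M := sup_le inf_le_left (hKle M hM hMnc)
        have hlt : M ⊓ C < (M ⊓ C) ⊔ K := lt_of_le_of_ne le_sup_left fun h =>
          hKcyc C hCc ((le_sup_right.trans h.ge).trans inf_le_right)
        refine Subgroup.eq_of_le_of_card_ge hle ?_
        obtain ⟨j, hj, hjc⟩ := (Nat.dvd_prime_pow hp.out).mp (hM ▸ Subgroup.card_dvd_of_le hle)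
        have hltc : Nat.card ↥(M ⊓ C) < Nat.card ↥((M ⊓ C) ⊔ K) :=
          Set.ncard_lt_ncard (SetLike.coe_ssubset_coe.mpr hlt) (Set.toFinite _)
        rw [key M hM hMnc, hjc] at hltc
        have := (Nat.pow_lt_pow_iff_right hp.out.one_lt).mp hltc
        rw [hM, hjc]
        exact Nat.pow_le_pow_right hp.out.pos (by omega)
      rw [hgen M hM hMnc, hgen M' hM' hMnc', hcomp]
    · obtain ⟨M, hM, hKM⟩ : ∃ M : Subgroup P, Nat.card M = p ^ (n + 2) ∧ K ≤ M := by
        have hK' : Nat.card K = p ^ 2 := hKcard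
        obtain ⟨M, hM, hle⟩ := Sylow.exists_subgroup_card_pow_prime_le p
          (hP ▸ pow_dvd_pow p (by omega : n + 2 ≤ n + 3)) K hK' (by omega : 2 ≤ n + 2)
        exact ⟨M, hM, hle⟩
      exact ⟨⟨M, hM, fun h => hKcyc M h hKM⟩⟩
  have htot := Perm.card_subgroups_modEq_one (G := P) p (n + 2) hp.out
    (hP ▸ pow_dvd_pow p (by omega : n + 2 ≤ n + 3))
  rw [Nat.card_eq_fintype_card, Fintype.card_subtype,
    ← Finset.card_filter_add_card_filter_not
      (s := Finset.univ.filter fun M : Subgroup P => Nat.card M = p ^ (n + 2)) (fun M => IsCyclic M),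
    Finset.filter_filter, Finset.filter_filter] at htot
  rw [Nat.card_eq_fintype_card, Fintype.card_subtype] at huniq ⊢
  rw [huniq] at htot
  exact Nat.modEq_zero_iff_dvd.mp
    (Nat.ModEq.add_right_cancel' 1 (by rw [zero_add]; exact htot))

/-- Miller's theorem: in a non-cyclic `p`-group, `p` odd, the number of cyclic subgroups of order
`p ^ (j + 2)` is divisible by `p`. -/
theorem card_cyclic_dvd (hp2 : p ≠ 2) (j : ℕ) : ∀ (n : ℕ) (P : Type u) [Group P] [Finite P],
    Nat.card P = p ^ n → ¬ IsCyclic P →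
      p ∣ Nat.card {C : Subgroup P // Nat.card C = p ^ (j + 2) ∧ IsCyclic C} := by
  intro n
  induction n with
  | zero =>
    intro P _ _ hP hnc
    haveI : Subsingleton P := (Nat.card_eq_one_iff_unique.mp (by simpa using hP)).1
    exact absurd (inferInstance : IsCyclic P) hnc
  | succ n ih =>
    intro P _ _ hP hnc
    classical
    haveI := Fintype.ofFinite (Subgroup P)
    rcases le_or_gt (j + 2) n with hjn | hjn
    swap
    · haveI : IsEmpty {C : Subgroup P // Nat.card C = p ^ (j + 2) ∧ IsCyclic C} := by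
        refine ⟨fun C => ?_⟩
        have hd : p ^ (j + 2) ∣ p ^ (n + 1) := by
          rw [← C.2.1, ← hP]; exact C.1.card_subgroup_dvd_card
        have := (Nat.pow_dvd_pow_iff_le_right hp.out.one_lt).mp hd
        have htop : C.1 = ⊤ := Subgroup.eq_top_of_card_eq _ (by
          rw [C.2.1, hP, show j + 2 = n + 1 by omega])
        haveI : IsCyclic C.1 := C.2.2
        exact hnc (isCyclic_of_surjective C.1.subtype
          (fun x => ⟨⟨x, by rw [htop]; trivial⟩, rfl⟩))
      simp
    have hPG : IsPGroup p P := IsPGroup.of_card hP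
    let Cs := Finset.univ.filter fun C : Subgroup P => Nat.card C = p ^ (j + 2) ∧ IsCyclic C
    let Ms := Finset.univ.filter fun M : Subgroup P => Nat.card M = p ^ n
    have hcount : Nat.card {C : Subgroup P // Nat.card C = p ^ (j + 2) ∧ IsCyclic C} = Cs.card := by
      rw [Nat.card_eq_fintype_card, Fintype.card_subtype]
    rw [hcount, ← ZMod.natCast_eq_zero_iff]
    -- each cyclic subgroup lies in a number of maximal subgroups congruent to one
    have hone : ∀ C ∈ Cs, ((Ms.filter fun M => C ≤ M).card : ZMod p) = 1 := by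
      intro C hC
      obtain ⟨hCc, hCcyc⟩ := (Finset.mem_filter.mp hC).2
      let N := C ⊔ frattini P
      haveI : N.Normal := ⟨fun x hx g => by
        have h1 : g * x * g⁻¹ * x⁻¹ ∈ frattini P := by
          have := PGroups.commutator_le_frattini hPG
            (Subgroup.commutator_mem_commutator (Subgroup.mem_top g) (Subgroup.mem_top x))
          rwa [commutatorElement_def] at this
        have := N.mul_mem ((le_sup_right : frattini P ≤ N) h1) hx
        simpa [mul_assoc] using this⟩
      have hNtop : N ≠ ⊤ := fun h => by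
        have hC' : C = ⊤ := frattini_nongenerating h
        haveI := hCcyc
        exact hnc (isCyclic_of_surjective C.subtype (fun x => ⟨⟨x, by rw [hC']; trivial⟩, rfl⟩))
      obtain ⟨d, hd⟩ := IsPGroup.iff_card.mp (hPG.to_quotient N)
      obtain ⟨e, rfl⟩ : ∃ e, d = e + 1 := by
        refine ⟨d - 1, ?_⟩
        rcases Nat.eq_zero_or_pos d with h | h
        · exfalso
          rw [h, pow_zero, ← Subgroup.index_eq_card, Subgroup.index_eq_one] at hd
          exact hNtop hd
        · omega
      have hNc : p ^ e * Nat.card N = p ^ n := by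
        have := N.card_mul_index
        rw [Subgroup.index_eq_card, hd, hP, pow_succ, pow_succ, ← mul_assoc] at this
        rw [mul_comm]
        exact Nat.eq_of_mul_eq_mul_right hp.out.pos this
      have h1 := Perm.card_subgroups_modEq_one (G := P ⧸ N) p e hp.out (hd ▸ pow_dvd_pow p (Nat.le_succ e))
      rw [← SubsetSquare.card_between, Nat.card_eq_fintype_card, Fintype.card_subtype] at h1
      rw [← Nat.cast_one, ZMod.natCast_eq_natCast_iff]
      convert h1 using 2
      ext M
      simp only [Ms, Finset.mem_filter, Finset.mem_univ, true_and, hNc]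
      refine ⟨fun ⟨hM, hCM⟩ => ⟨sup_le hCM (frattini_le_coatom ?_), hM⟩,
        fun ⟨hNM, hM⟩ => ⟨hM, le_sup_left.trans hNM⟩⟩
      have hMi : M.index = p := by
        have := M.card_mul_index
        rw [hM, hP, pow_succ] at this
        exact Nat.eq_of_mul_eq_mul_left (pow_pos hp.out.pos n) this
      refine ⟨fun ht => hp.out.ne_one (by rw [← hMi, ht, Subgroup.index_top]), fun M' hlt => ?_⟩
      have hdd := Subgroup.index_dvd_of_le hlt.le
      rw [hMi, Nat.dvd_prime hp.out] at hdd
      rcases hdd with hdd | hdd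
      · exact Subgroup.index_eq_one.mp hdd
      · exfalso
        refine hlt.ne (Subgroup.eq_of_le_of_card_ge hlt.le (le_of_eq ?_))
        have h1 := M.card_mul_index
        have h2 := M'.card_mul_index
        rw [hMi] at h1; rw [hdd, ← h1] at h2
        exact Nat.eq_of_mul_eq_mul_right hp.out.pos h2
    have hdouble : ∑ M ∈ Ms, (Cs.filter fun C => C ≤ M).card = ∑ C ∈ Cs, (Ms.filter fun M => C ≤ M).card := by
      simp only [Finset.card_filter]
      exact Finset.sum_comm
    have hsum : ((∑ M ∈ Ms, (Cs.filter fun C => C ≤ M).card : ℕ) : ZMod p) = Cs.card := by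
      rw [hdouble, Nat.cast_sum, Finset.sum_congr rfl hone, Finset.sum_const, nsmul_one]
    rw [← hsum, Nat.cast_sum]
    have hM : ∀ M ∈ Ms, ((Cs.filter fun C => C ≤ M).card : ZMod p) = if IsCyclic M then 1 else 0 := by
      intro M hM
      have hMc : Nat.card M = p ^ n := (Finset.mem_filter.mp hM).2
      have e : (Cs.filter fun C => C ≤ M).card =
          Nat.card {C : Subgroup M // Nat.card C = p ^ (j + 2) ∧ IsCyclic C} := by
        rw [← Fintype.card_coe, ← Nat.card_eq_fintype_card]
        refine Nat.card_congr ⟨fun C => ⟨C.1.subgroupOf M, ?_⟩, fun C => ⟨C.1.map M.subtype, ?_⟩,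
          fun C => ?_, fun C => ?_⟩
        · obtain ⟨hC1, hle⟩ := Finset.mem_filter.mp C.2
          obtain ⟨hCc, hCcyc⟩ := (Finset.mem_filter.mp hC1).2
          haveI := hCcyc
          exact ⟨(Nat.card_congr (Subgroup.subgroupOfEquivOfLe hle).toEquiv).trans hCc,
            isCyclic_of_injective (Subgroup.subgroupOfEquivOfLe hle).toMonoidHom
              (MulEquiv.injective _)⟩
        · refine Finset.mem_filter.mpr ⟨Finset.mem_filter.mpr ⟨Finset.mem_univ _, ?_, ?_⟩,
            Subgroup.map_subtype_le _⟩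
          · rw [Subgroup.card_map_of_injective M.subtype_injective, C.2.1]
          · haveI := C.2.2
            exact isCyclic_of_surjective (C.1.equivMapOfInjective _ M.subtype_injective)
              (MulEquiv.surjective _)
        · exact Subtype.ext (by simp [(Finset.mem_filter.mp C.2).2])
        · exact Subtype.ext (by
            simp [Subgroup.subgroupOf, Subgroup.comap_map_eq_self_of_injective M.subtype_injective])
      rw [e]
      by_cases h : IsCyclic M
      · rw [if_pos h]
        have h1 := SubsetSquare.card_subgroups_of_isCyclic (C := M) hp.out (β := j + 2)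
          ((pow_dvd_pow p hjn).trans hMc.symm.dvd)
        rw [Nat.card_congr (Equiv.subtypeEquivRight (fun C : Subgroup M =>
          (⟨fun h' => h'.1, fun h' => ⟨h', inferInstance⟩⟩ :
            Nat.card C = p ^ (j + 2) ∧ IsCyclic C ↔ Nat.card C = p ^ (j + 2)))), h1, Nat.cast_one]
      · rw [if_neg h]
        exact (ZMod.natCast_eq_zero_iff _ _).mpr (ih M hMc h)
    rw [Finset.sum_congr rfl hM, Finset.sum_boole, ZMod.natCast_eq_zero_iff]
    obtain ⟨i, rfl⟩ : ∃ i, n = i + 2 := ⟨n - 2, by omega⟩
    have h := card_cyclic_maximal hp2 (n := i) hP hnc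
    rw [Nat.card_eq_fintype_card, Fintype.card_subtype] at h
    simp only [Ms, Finset.filter_filter]
    exact h

variable {G : Type u} [Group G] [Finite G]

/-- The number of cyclic subgroups of order `p ^ (j + 2)` is divisible by `p`, for `p` odd, if a
Sylow `p`-subgroup is not cyclic. -/
theorem card_cyclic_dvd_of_sylow (hp2 : p ≠ 2) (j : ℕ) (P : Sylow p G) (hnc : ¬ IsCyclic P) :
    p ∣ Nat.card {C : Subgroup G // Nat.card C = p ^ (j + 2) ∧ IsCyclic C} := by
  classical
  let T := {C : Subgroup G // Nat.card C = p ^ (j + 2) ∧ IsCyclic C}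
  have hsm : ∀ (g : ConjAct G) (C : T), Nat.card ↥(g • C.1) = p ^ (j + 2) ∧ IsCyclic ↥(g • C.1) :=
    fun g C => ⟨(Nat.card_congr (Subgroup.equivSMul g C.1).toEquiv).symm.trans C.2.1, by
      haveI := C.2.2
      exact isCyclic_of_surjective (Subgroup.equivSMul g C.1) (MulEquiv.surjective _)⟩
  letI : MulAction P.toSubgroup T :=
    { smul := fun g C => ⟨ConjAct.toConjAct (g : G) • C.1, hsm _ C⟩
      one_smul := fun C => Subtype.ext (by
        show ConjAct.toConjAct ((1 : P.toSubgroup) : G) • C.1 = C.1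
        simp)
      mul_smul := fun g h C => Subtype.ext (by
        show ConjAct.toConjAct ((g * h : P.toSubgroup) : G) • C.1 =
          ConjAct.toConjAct (g : G) • ConjAct.toConjAct (h : G) • C.1
        rw [Subgroup.coe_mul, map_mul, mul_smul]) }
  have hfix := P.2.card_modEq_card_fixedPoints T
  -- fixed subgroups are normal subgroups of `P`
  have hle : ∀ C : T, C ∈ fixedPoints P.toSubgroup T → C.1 ≤ P.toSubgroup := by
    intro C hC
    have hN : P.toSubgroup ≤ Subgroup.normalizer (C.1 : Set G) := by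
      intro g hg
      rw [Subgroup.mem_normalizer_iff]
      intro x
      have h1 : ConjAct.toConjAct g • C.1 = C.1 := congrArg Subtype.val (hC ⟨g, hg⟩)
      conv_rhs => rw [← h1]
      rw [← ConjAct.toConjAct_smul, Subgroup.smul_mem_pointwise_smul_iff]
    have hCp : IsPGroup p C.1 := IsPGroup.of_card C.2.1
    have := IsPGroup.to_sup_of_normal_right' P.2 hCp hN
    exact le_sup_right.trans_eq (P.3 this le_sup_left)
  letI : MulAction (ConjAct P.toSubgroup)
      {C : Subgroup P.toSubgroup // Nat.card C = p ^ (j + 2) ∧ IsCyclic C} :=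
    { smul := fun g C => ⟨g • C.1, (Nat.card_congr (Subgroup.equivSMul g C.1).toEquiv).symm.trans C.2.1,
        by haveI := C.2.2; exact isCyclic_of_surjective (Subgroup.equivSMul g C.1) (MulEquiv.surjective _)⟩
      one_smul := fun C => Subtype.ext (one_smul _ C.1)
      mul_smul := fun g h C => Subtype.ext (mul_smul g h C.1) }
  have hP' : IsPGroup p (ConjAct P.toSubgroup) := P.2.of_equiv ConjAct.toConjAct
  have hfix' := hP'.card_modEq_card_fixedPoints
    {C : Subgroup P.toSubgroup // Nat.card C = p ^ (j + 2) ∧ IsCyclic C}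
  obtain ⟨n, hn⟩ := IsPGroup.iff_card.mp P.2
  have h0 := Nat.modEq_zero_iff_dvd.mpr (card_cyclic_dvd hp2 j n P.toSubgroup hn hnc)
  refine Nat.modEq_zero_iff_dvd.mp (hfix.trans (Eq.subst (motive := fun x => x ≡ 0 [MOD p]) ?_
    (hfix'.symm.trans h0)))
  have hconj : ∀ (g : P.toSubgroup) (C : Subgroup P.toSubgroup),
      (ConjAct.toConjAct g • C).map P.toSubgroup.subtype =
        ConjAct.toConjAct (g : G) • C.map P.toSubgroup.subtype := by
    intro g C
    ext x
    simp only [Subgroup.mem_map, Subgroup.mem_pointwise_smul_iff_inv_smul_mem, Subgroup.coe_subtype]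
    constructor
    · rintro ⟨y, hy, rfl⟩
      exact ⟨_, hy, by simp [ConjAct.smul_def]⟩
    · rintro ⟨y, hy, hyx⟩
      refine ⟨ConjAct.toConjAct g • y, by rw [inv_smul_smul]; exact hy, ?_⟩
      rw [eq_inv_smul_iff] at hyx
      rw [← hyx]; simp [ConjAct.smul_def]
  refine Nat.card_congr ⟨fun C => ⟨⟨C.1.1.map P.toSubgroup.subtype, ?_, ?_⟩, ?_⟩,
    fun C => ⟨⟨C.1.1.subgroupOf P.toSubgroup, ?_, ?_⟩, ?_⟩, fun C => ?_, fun C => ?_⟩
  · rw [Subgroup.card_map_of_injective P.toSubgroup.subtype_injective, C.1.2.1]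
  · haveI := C.1.2.2
    exact isCyclic_of_surjective (C.1.1.equivMapOfInjective _ P.toSubgroup.subtype_injective)
      (MulEquiv.surjective _)
  · intro g
    apply Subtype.ext
    show ConjAct.toConjAct (g : G) • C.1.1.map P.toSubgroup.subtype = C.1.1.map P.toSubgroup.subtype
    rw [← hconj]
    exact congrArg _ (congrArg Subtype.val (C.2 (ConjAct.toConjAct g)))
  · exact (Nat.card_congr (Subgroup.subgroupOfEquivOfLe (hle C.1 C.2)).toEquiv).trans C.1.2.1
  · haveI := C.1.2.2
    exact isCyclic_of_injective (Subgroup.subgroupOfEquivOfLe (hle C.1 C.2)).toMonoidHom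
      (MulEquiv.injective _)
  · intro g
    apply Subtype.ext
    refine Subgroup.map_injective P.toSubgroup.subtype_injective ?_
    show (g • C.1.1.subgroupOf P.toSubgroup).map P.toSubgroup.subtype =
      (C.1.1.subgroupOf P.toSubgroup).map P.toSubgroup.subtype
    rw [← ConjAct.toConjAct_ofConjAct g, hconj, Subgroup.map_subgroupOf_eq_of_le (hle C.1 C.2)]
    exact congrArg Subtype.val (C.2 (ConjAct.ofConjAct g))
  · exact Subtype.ext (Subtype.ext (by
      simp [Subgroup.subgroupOf, Subgroup.comap_map_eq_self_of_injective P.toSubgroup.subtype_injective]))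
  · exact Subtype.ext (Subtype.ext (by simp [hle C.1 C.2]))

/-- For `p` odd, the number of non-cyclic subgroups of order `p ^ (a + 2)` is congruent to one
modulo `p` if a Sylow `p`-subgroup is not cyclic. -/
theorem card_noncyclic_modEq_one (hp2 : p ≠ 2) (a : ℕ) (hdvd : p ^ (a + 2) ∣ Nat.card G)
    (P : Sylow p G) (hnc : ¬ IsCyclic P) :
    Nat.card {L : Subgroup G // Nat.card L = p ^ (a + 2) ∧ ¬ IsCyclic L} ≡ 1 [MOD p] := by
  classical
  haveI := Fintype.ofFinite (Subgroup G)
  have htot := Perm.card_subgroups_modEq_one (G := G) p (a + 2) hp.out hdvd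
  have hcyc := Nat.modEq_zero_iff_dvd.mpr (card_cyclic_dvd_of_sylow hp2 a P hnc)
  rw [Nat.card_eq_fintype_card, Fintype.card_subtype] at htot hcyc ⊢
  rw [← Finset.card_filter_add_card_filter_not
    (s := Finset.univ.filter fun L : Subgroup G => Nat.card L = p ^ (a + 2)) (fun L => IsCyclic L),
    Finset.filter_filter, Finset.filter_filter] at htot
  refine Nat.ModEq.trans ?_ htot
  conv_lhs => rw [← zero_add (Finset.card _)]
  exact hcyc.symm.add_right _

/-- If a Sylow `p`-subgroup is cyclic there is no non-cyclic `p`-subgroup. -/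
theorem card_noncyclic_eq_zero (k : ℕ) (P : Sylow p G) (hc : IsCyclic P) :
    Nat.card {L : Subgroup G // Nat.card L = p ^ k ∧ ¬ IsCyclic L} = 0 := by
  haveI : IsEmpty {L : Subgroup G // Nat.card L = p ^ k ∧ ¬ IsCyclic L} := by
    refine ⟨fun L => L.2.2 ?_⟩
    obtain ⟨Q, hQ⟩ := (IsPGroup.of_card (G := L.1) L.2.1).exists_le_sylow
    haveI := hc
    haveI : IsCyclic Q := isCyclic_of_surjective (P.equiv Q) (MulEquiv.surjective _)
    exact isCyclic_of_injective (Subgroup.inclusion hQ) (Subgroup.inclusion_injective hQ)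
  exact Nat.card_of_isEmpty

/-- Kulakoff's congruence: for `p` odd and a non-cyclic Sylow `p`-subgroup. -/
theorem card_subgroups_modEq_one_add (hp2 : p ≠ 2) (a : ℕ) (hdvd : p ^ (a + 2) ∣ Nat.card G)
    (P : Sylow p G) (hnc : ¬ IsCyclic P) :
    Nat.card {K : Subgroup G // Nat.card K = p ^ (a + 1)} ≡ 1 + p [MOD p ^ 2] := by
  refine (SubsetSquare.card_subgroups_modEq_sq p (a + 1) hp.out hdvd).trans ?_
  have := Nat.ModEq.mul_left' p (card_noncyclic_modEq_one hp2 a hdvd P hnc)
  rw [← sq, mul_one] at this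
  exact this.add_left 1

end Cfsg.Agent.H62.Kulakoff
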