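import Cfsg.Agent.H62.BlockModule

/-!
An irreducible module for `SL₂(q)` in characteristic `p` on which the root group acts quadratically,
or has a fixed space of at least half dimension, is natural.
-/

set_option autoImplicit false
set_option linter.style.haveILetI false
set_option linter.unusedSectionVars false

namespace Cfsg.Agent.H62.Quad

open Matrix
open Cfsg.Agent.H62.Blocks

universe u v

/-- `SL₂(F)`. -/
abbrev SL2 (F : Type v) [Field F] := Matrix.SpecialLinearGroup (Fin 2) F

section Matrices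

variable {F : Type v} [Field F]


/-- The Weyl element. -/
def weyl : SL2 F := ⟨!![0, -1; 1, 0], by rw [det_fin_two_of]; ring⟩

theorem coe_weyl : ((weyl  : SL2 F) : Matrix (Fin 2) (Fin 2) F) = !![0, -1; 1, 0] := rfl

theorem ext2 {g h : SL2 F}
    (h00 : (g : Matrix (Fin 2) (Fin 2) F) 0 0 = (h : Matrix (Fin 2) (Fin 2) F) 0 0)
    (h01 : (g : Matrix (Fin 2) (Fin 2) F) 0 1 = (h : Matrix (Fin 2) (Fin 2) F) 0 1)
    (h10 : (g : Matrix (Fin 2) (Fin 2) F) 1 0 = (h : Matrix (Fin 2) (Fin 2) F) 1 0)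
    (h11 : (g : Matrix (Fin 2) (Fin 2) F) 1 1 = (h : Matrix (Fin 2) (Fin 2) F) 1 1) : g = h := by
  apply Matrix.SpecialLinearGroup.ext
  intro i j
  fin_cases i <;> fin_cases j <;> assumption

theorem upperT_add (s t : F) : (upperT (s + t)  : SL2 F) = upperT s * upperT t := by
  apply ext2 <;> simp [coe_upperT, Matrix.mul_apply, Fin.sum_univ_two] <;> ring

theorem lowerT_add (s t : F) : (lowerT (s + t)  : SL2 F) = lowerT s * lowerT t := by
  apply ext2 <;> simp [coe_lowerT, Matrix.mul_apply, Fin.sum_univ_two]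

theorem upperT_zero : (upperT 0  : SL2 F) = 1 := by
  apply ext2 <;> simp [coe_upperT]

theorem lowerT_zero : (lowerT 0  : SL2 F) = 1 := by
  apply ext2 <;> simp [coe_lowerT]

theorem upperT_mul_diagT (s : F) {t : F} (ht : t ≠ 0) :
    (upperT s  : SL2 F) * diagT t ht = diagT t ht * upperT (s / (t * t)) := by
  apply ext2 <;> simp [coe_upperT, coe_diagT, Matrix.mul_apply, Fin.sum_univ_two] <;> field_simp

theorem lowerT_mul_diagT (s : F) {t : F} (ht : t ≠ 0) :
    (lowerT s  : SL2 F) * diagT t ht = diagT t ht * lowerT (s * (t * t)) := by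
  apply ext2 <;> simp [coe_lowerT, coe_diagT, Matrix.mul_apply, Fin.sum_univ_two] <;> field_simp

theorem upperT_mul_weyl (s : F) : (upperT s  : SL2 F) * weyl = weyl * lowerT (-s) := by
  apply ext2 <;> simp [coe_upperT, coe_lowerT, coe_weyl, Matrix.mul_apply, Fin.sum_univ_two]

theorem lowerT_mul_weyl (s : F) : (lowerT s  : SL2 F) * weyl = weyl * upperT (-s) := by
  apply ext2 <;> simp [coe_upperT, coe_lowerT, coe_weyl, Matrix.mul_apply, Fin.sum_univ_two]

theorem rel_diag {t : F} (ht : t ≠ 0) :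
    (upperT t  : SL2 F) * lowerT (-t⁻¹) * upperT t * weyl = diagT t ht := by
  apply ext2 <;>
    simp [coe_upperT, coe_lowerT, coe_diagT, coe_weyl, Matrix.mul_apply, Fin.sum_univ_two, ht]

theorem weyl_eq : (weyl  : SL2 F) = upperT (-1) * lowerT 1 * upperT (-1) := by
  apply ext2 <;> simp [coe_upperT, coe_lowerT, coe_weyl, Matrix.mul_apply, Fin.sum_univ_two]

theorem weyl_mul_weyl : (weyl  : SL2 F) * weyl = diagT (-1) (neg_ne_zero.mpr one_ne_zero) := by
  apply ext2 <;> simp [coe_diagT, coe_weyl, Matrix.mul_apply, Fin.sum_univ_two]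

theorem diagT_mul {s t : F} (hs : s ≠ 0) (ht : t ≠ 0) :
    (diagT s hs  : SL2 F) * diagT t ht = diagT (s * t) (mul_ne_zero hs ht) := by
  apply ext2 <;> simp [coe_diagT, Matrix.mul_apply, Fin.sum_univ_two, mul_comm]

theorem det_eq (g  : SL2 F) : (g : Matrix (Fin 2) (Fin 2) F) 0 0 * (g : Matrix (Fin 2) (Fin 2) F) 1 1
    - (g : Matrix (Fin 2) (Fin 2) F) 0 1 * (g : Matrix (Fin 2) (Fin 2) F) 1 0 = 1 := by
  rw [← Matrix.det_fin_two]; exact g.2

/-- Decomposition `U H L ∪ w H L`. -/
theorem decomp_lower (g  : SL2 F) :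
    (∃ (s t x : F) (ht : t ≠ 0), g = upperT s * diagT t ht * lowerT x) ∨
      ∃ (t x : F) (ht : t ≠ 0), g = weyl * diagT t ht * lowerT x := by
  have hdet := det_eq g
  set M := (g : Matrix (Fin 2) (Fin 2) F) with hM
  by_cases hd : M 1 1 = 0
  · have hc : M 1 0 ≠ 0 := fun h => by simp [hd, h] at hdet
    have hb : M 0 1 = -(M 1 0)⁻¹ := by
      rw [hd] at hdet
      field_simp
      linear_combination -hdet
    refine Or.inr ⟨M 1 0, -M 0 0 * M 1 0, hc, ?_⟩
    apply ext2 <;>
      simp [← hM, coe_lowerT, coe_diagT, coe_weyl, Matrix.mul_apply, Fin.sum_univ_two, hd, hb, hc]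
    field_simp
  · refine Or.inl ⟨M 0 1 / M 1 1, (M 1 1)⁻¹, M 1 0 / M 1 1, inv_ne_zero hd, ?_⟩
    apply ext2 <;>
      simp [← hM, coe_lowerT, coe_upperT, coe_diagT, Matrix.mul_apply, Fin.sum_univ_two, hd] <;>
      field_simp <;> linear_combination hdet

/-- Decomposition `L H U ∪ w H U`. -/
theorem decomp_upper (g  : SL2 F) :
    (∃ (s t x : F) (ht : t ≠ 0), g = lowerT s * diagT t ht * upperT x) ∨
      ∃ (t x : F) (ht : t ≠ 0), g = weyl * diagT t ht * upperT x := by
  have hdet := det_eq g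
  set M := (g : Matrix (Fin 2) (Fin 2) F) with hM
  by_cases ha : M 0 0 = 0
  · have hc : M 1 0 ≠ 0 := fun h => by simp [ha, h] at hdet
    have hb : M 0 1 = -(M 1 0)⁻¹ := by
      rw [ha] at hdet
      field_simp
      linear_combination -hdet
    refine Or.inr ⟨M 1 0, M 1 1 / M 1 0, hc, ?_⟩
    apply ext2 <;>
      simp [← hM, coe_upperT, coe_diagT, coe_weyl, Matrix.mul_apply, Fin.sum_univ_two, ha, hb, hc]
    field_simp
  · refine Or.inl ⟨M 1 0 / M 0 0, M 0 0, M 0 1 / M 0 0, ha, ?_⟩
    apply ext2 <;>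
      simp [← hM, coe_lowerT, coe_upperT, coe_diagT, Matrix.mul_apply, Fin.sum_univ_two, ha] <;>
      field_simp <;> linear_combination hdet

end Matrices

section Module

variable {F : Type v} [Field F] {M : Type u} [AddCommGroup M]


variable [DistribMulAction (SL2 F) M]

variable (F M) in
/-- The fixed points of the upper root group. -/
def fixU : AddSubgroup M where
  carrier := {m | ∀ s : F, (upperT s  : SL2 F) • m = m}
  zero_mem' s := smul_zero _
  add_mem' ha hb s := by rw [smul_add, ha s, hb s]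
  neg_mem' ha s := by rw [smul_neg, ha s]

variable (F M) in
/-- The fixed points of the lower root group. -/
def fixL : AddSubgroup M where
  carrier := {m | ∀ s : F, (lowerT s  : SL2 F) • m = m}
  zero_mem' s := smul_zero _
  add_mem' ha hb s := by rw [smul_add, ha s, hb s]
  neg_mem' ha s := by rw [smul_neg, ha s]

variable (F M) in
/-- The commutator of the module with the upper root group. -/
def comU : AddSubgroup M :=
  AddSubgroup.closure (Set.range fun x : F × M => (upperT x.1  : SL2 F) • x.2 - x.2)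

variable (F M) in
/-- The commutator of the module with the lower root group. -/
def comL : AddSubgroup M :=
  AddSubgroup.closure (Set.range fun x : F × M => (lowerT x.1  : SL2 F) • x.2 - x.2)

theorem sub_mem_comU (s : F) (m : M) : (upperT s  : SL2 F) • m - m ∈ comU F M :=
  AddSubgroup.subset_closure ⟨(s, m), rfl⟩

theorem sub_mem_comL (s : F) (m : M) : (lowerT s  : SL2 F) • m - m ∈ comL F M :=
  AddSubgroup.subset_closure ⟨(s, m), rfl⟩

theorem smul_mem_of_root {K : AddSubgroup M} (hu : ∀ (s : F), ∀ m ∈ K, (upperT s  : SL2 F) • m ∈ K)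
    (hl : ∀ (s : F), ∀ m ∈ K, (lowerT s  : SL2 F) • m ∈ K) (g  : SL2 F) {m : M} (hm : m ∈ K) :
    g • m ∈ K := by
  have hw : ∀ m ∈ K, (weyl  : SL2 F) • m ∈ K := fun m hm => by
    rw [weyl_eq, mul_smul, mul_smul]
    exact hu _ _ (hl _ _ (hu _ _ hm))
  have hh : ∀ (t : F) (ht : t ≠ 0), ∀ m ∈ K, (diagT t ht  : SL2 F) • m ∈ K := fun t ht m hm => by
    rw [← rel_diag ht, mul_smul, mul_smul, mul_smul]
    exact hu _ _ (hl _ _ (hu _ _ (hw m hm)))
  rcases decomp_lower g with ⟨s, t, x, ht, rfl⟩ | ⟨t, x, ht, rfl⟩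
  · rw [mul_smul, mul_smul]; exact hu _ _ (hh t ht _ (hl _ _ hm))
  · rw [mul_smul, mul_smul]; exact hw _ (hh t ht _ (hl _ _ hm))

theorem diagT_mem_fixU {t : F} (ht : t ≠ 0) {m : M} (hm : m ∈ fixU F M) :
    (diagT t ht  : SL2 F) • m ∈ fixU F M := fun s => by
  rw [← mul_smul, upperT_mul_diagT, mul_smul, hm]

theorem diagT_mem_fixL {t : F} (ht : t ≠ 0) {m : M} (hm : m ∈ fixL F M) :
    (diagT t ht  : SL2 F) • m ∈ fixL F M := fun s => by
  rw [← mul_smul, lowerT_mul_diagT, mul_smul, hm]

theorem weyl_mem_fixU {m : M} (hm : m ∈ fixL F M) : (weyl  : SL2 F) • m ∈ fixU F M := fun s => by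
  rw [← mul_smul, upperT_mul_weyl, mul_smul, hm]

theorem weyl_mem_fixL {m : M} (hm : m ∈ fixU F M) : (weyl  : SL2 F) • m ∈ fixL F M := fun s => by
  rw [← mul_smul, lowerT_mul_weyl, mul_smul, hm]

theorem weyl_mem_comL {m : M} (hm : m ∈ comU F M) : (weyl  : SL2 F) • m ∈ comL F M := by
  induction hm using AddSubgroup.closure_induction with
  | mem x hx =>
    obtain ⟨⟨s, n⟩, rfl⟩ := hx
    have h : (weyl  : SL2 F) * upperT s = lowerT (-s) * weyl := by
      rw [lowerT_mul_weyl, neg_neg]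
    rw [smul_sub, ← mul_smul, h, mul_smul]
    exact sub_mem_comL _ _
  | zero => rw [smul_zero]; exact zero_mem _
  | add x y _ _ hx hy => rw [smul_add]; exact add_mem hx hy
  | neg x _ hx => rw [smul_neg]; exact neg_mem hx

theorem weyl_mem_comU {m : M} (hm : m ∈ comL F M) : (weyl  : SL2 F) • m ∈ comU F M := by
  induction hm using AddSubgroup.closure_induction with
  | mem x hx =>
    obtain ⟨⟨s, n⟩, rfl⟩ := hx
    have h : (weyl  : SL2 F) * lowerT s = upperT (-s) * weyl := by
      rw [upperT_mul_weyl, neg_neg]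
    rw [smul_sub, ← mul_smul, h, mul_smul]
    exact sub_mem_comU _ _
  | zero => rw [smul_zero]; exact zero_mem _
  | add x y _ _ hx hy => rw [smul_add]; exact add_mem hx hy
  | neg x _ hx => rw [smul_neg]; exact neg_mem hx

theorem upperT_mem_comU (s : F) {m : M} (hm : m ∈ comU F M) : (upperT s  : SL2 F) • m ∈ comU F M := by
  simpa using add_mem (sub_mem_comU s m) hm

theorem lowerT_mem_comL (s : F) {m : M} (hm : m ∈ comL F M) : (lowerT s  : SL2 F) • m ∈ comL F M := by
  simpa using add_mem (sub_mem_comL s m) hm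

theorem diagT_mem_comU {t : F} (ht : t ≠ 0) {m : M} (hm : m ∈ comU F M) :
    (diagT t ht  : SL2 F) • m ∈ comU F M := by
  induction hm using AddSubgroup.closure_induction with
  | mem x hx =>
    obtain ⟨⟨s, n⟩, rfl⟩ := hx
    have h : (diagT t ht  : SL2 F) * upperT s = upperT (s * (t * t)) * diagT t ht := by
      rw [upperT_mul_diagT, mul_div_assoc, div_self (mul_ne_zero ht ht), mul_one]
    rw [smul_sub, ← mul_smul, h, mul_smul]
    exact sub_mem_comU _ _
  | zero => rw [smul_zero]; exact zero_mem _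
  | add x y _ _ hx hy => rw [smul_add]; exact add_mem hx hy
  | neg x _ hx => rw [smul_neg]; exact neg_mem hx

/-- The action of `SL₂(F)` is irreducible. -/
def Irred (F : Type v) [Field F] (M : Type u) [AddCommGroup M]
    [DistribMulAction (Matrix.SpecialLinearGroup (Fin 2) F) M] : Prop :=
  (∀ K : AddSubgroup M,
    (∀ g : Matrix.SpecialLinearGroup (Fin 2) F, ∀ m ∈ K, g • m ∈ K) → K = ⊥ ∨ K = ⊤) ∧
  ∃ (g : Matrix.SpecialLinearGroup (Fin 2) F) (m : M), g • m ≠ m

theorem fixU_inf_fixL (h : Irred F M) : fixU F M ⊓ fixL F M = ⊥ := by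
  have hinv : ∀ g : SL2 F, ∀ m ∈ fixU F M ⊓ fixL F M, g • m ∈ fixU F M ⊓ fixL F M := fun g m hm =>
    smul_mem_of_root (fun s m hm => by rw [hm.1 s]; exact hm)
      (fun s m hm => by rw [hm.2 s]; exact hm) g hm
  rcases h.1 _ hinv with h0 | h0
  · exact h0
  · obtain ⟨g, m, hgm⟩ := h.2
    exfalso
    apply hgm
    have hm : ∀ n : M, n ∈ fixU F M ⊓ fixL F M := fun n => h0 ▸ trivial
    have hw : ∀ n : M, (weyl  : SL2 F) • n = n := fun n => by
      rw [weyl_eq, mul_smul, mul_smul, (hm n).1, (hm n).2, (hm n).1]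
    have hh : ∀ (t : F) (ht : t ≠ 0) (n : M), (diagT t ht  : SL2 F) • n = n := fun t ht n => by
      rw [← rel_diag ht, mul_smul, mul_smul, mul_smul, hw, (hm n).1, (hm n).2, (hm n).1]
    rcases decomp_lower g with ⟨s, t, x, ht, rfl⟩ | ⟨t, x, ht, rfl⟩
    · rw [mul_smul, mul_smul, (hm m).2, hh, (hm m).1]
    · rw [mul_smul, mul_smul, (hm m).2, hh, hw]

theorem comU_sup_comL (h : Irred F M) : comU F M ⊔ comL F M = ⊤ := by
  have hu : ∀ s : F, ∀ m ∈ comU F M ⊔ comL F M, (upperT s  : SL2 F) • m ∈ comU F M ⊔ comL F M :=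
    fun s m hm => by
      simpa using add_mem (AddSubgroup.mem_sup_left (T := comL F M) (sub_mem_comU s m)) hm
  have hl : ∀ s : F, ∀ m ∈ comU F M ⊔ comL F M, (lowerT s  : SL2 F) • m ∈ comU F M ⊔ comL F M :=
    fun s m hm => by
      simpa using add_mem (AddSubgroup.mem_sup_right (S := comU F M) (sub_mem_comL s m)) hm
  rcases h.1 _ (fun g m hm => smul_mem_of_root hu hl g hm) with h0 | h0
  · exfalso
    have hm : ∀ n : M, n ∈ fixU F M ⊓ fixL F M := fun n =>
      ⟨fun s => sub_eq_zero.mp ((AddSubgroup.mem_bot).mp (h0 ▸ AddSubgroup.mem_sup_left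
          (sub_mem_comU s n))),
        fun s => sub_eq_zero.mp ((AddSubgroup.mem_bot).mp (h0 ▸ AddSubgroup.mem_sup_right
          (sub_mem_comL s n)))⟩
    rw [fixU_inf_fixL h] at hm
    obtain ⟨g, m, hgm⟩ := h.2
    exact hgm (((AddSubgroup.mem_bot).mp (hm _)).trans ((AddSubgroup.mem_bot).mp (hm m)).symm)
  · exact h0

/-- Irreducibility spreads a nonzero invariant subgroup. -/
theorem eq_top_of_orbit_le (h : Irred F M) {K : AddSubgroup M} {x : M} (hx : x ≠ 0)
    (hK : ∀ g : SL2 F, g • x ∈ K) : K = ⊤ := by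
  rcases h.1 (AddSubgroup.closure (Set.range fun g : SL2 F => g • x)) (fun g m hm => by
      induction hm using AddSubgroup.closure_induction with
      | mem y hy =>
        obtain ⟨g', rfl⟩ := hy
        exact AddSubgroup.subset_closure ⟨g * g', mul_smul _ _ _⟩
      | zero => rw [smul_zero]; exact zero_mem _
      | add a b _ _ ha hb => rw [smul_add]; exact add_mem ha hb
      | neg a _ ha => rw [smul_neg]; exact neg_mem ha) with h0 | h0
  · exact absurd ((AddSubgroup.mem_bot).mp
      (h0 ▸ AddSubgroup.subset_closure ⟨1, one_smul _ x⟩)) hx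
  · rw [eq_top_iff, ← h0, AddSubgroup.closure_le]
    rintro _ ⟨g, rfl⟩
    exact hK g

variable {p : ℕ} [hp : Fact p.Prime] [CharP F p]

omit hp in
/-- `u(s) - 1` as an endomorphism. -/
def rootDiff (s : F) : M →+ M where
  toFun m := (upperT s  : SL2 F) • m - m
  map_zero' := by simp
  map_add' a b := by rw [smul_add]; abel

theorem rootDiff_apply (s : F) (m : M) : rootDiff s m = (upperT s  : SL2 F) • m - m := rfl

theorem rootDiff_comm (s t : F) (m : M) : rootDiff s (rootDiff t m) = rootDiff t (rootDiff s m) := by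
  simp only [rootDiff_apply, smul_sub, ← mul_smul, ← upperT_add, add_comm t s]
  abel

theorem rootDiff_iterate [Nontrivial M] (hexp : ∀ m : M, p • m = 0) (s : F) (m : M) :
    (rootDiff s)^[p] m = 0 := by
  haveI : Nontrivial (AddMonoid.End M) := by
    obtain ⟨x, hx⟩ := exists_ne (0 : M)
    exact ⟨⟨0, 1, fun h => hx (DFunLike.congr_fun h x).symm⟩⟩
  haveI : CharP (AddMonoid.End M) p := (CharP.charP_iff_prime_eq_zero hp.out).mpr
    (AddMonoidHom.ext fun m => (AddMonoid.End.natCast_apply p m).trans (hexp m))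
  let R : AddMonoid.End M := rootDiff s
  have hR : R = DistribMulAction.toAddMonoidEnd (SL2 F) M (upperT s) - 1 := AddMonoidHom.ext fun _ => rfl
  have h1 : ∀ k : ℕ, (upperT s  : SL2 F) ^ k = upperT (k * s) := fun k => by
    induction k with
    | zero => rw [pow_zero, Nat.cast_zero, zero_mul, upperT_zero]
    | succ k ih => rw [pow_succ, ih, Nat.cast_succ, add_mul, one_mul, upperT_add]
  have hpow : R ^ p = 0 := by
    rw [hR, sub_pow_char_of_commute _ (Commute.one_right _), one_pow, ← map_pow, h1,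
      CharP.cast_eq_zero, zero_mul, upperT_zero, map_one, sub_self]
  show (R : M → M)^[p] m = 0
  rw [← AddMonoid.End.coe_pow, hpow]
  rfl

/-- A nonzero invariant subgroup contains a nonzero fixed point of the root group. -/
theorem exists_fixed [Nontrivial M] [Finite F] (hexp : ∀ m : M, p • m = 0) (K : AddSubgroup M)
    (hK : ∀ s : F, ∀ k ∈ K, (upperT s  : SL2 F) • k ∈ K) (hne : K ≠ ⊥) :
    ∃ x ∈ fixU F M, x ∈ K ∧ x ≠ 0 := by
  classical
  cases nonempty_fintype F
  have hstab : ∀ (s : F), ∀ k ∈ K, ∀ j : ℕ, (rootDiff s)^[j] k ∈ K := fun s k hk j => by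
    induction j with
    | zero => exact hk
    | succ j ih => rw [Function.iterate_succ_apply']; exact sub_mem (hK s _ ih) ih
  have hS : ∀ S : Finset F, ∃ x ∈ K, x ≠ 0 ∧ ∀ s ∈ S, rootDiff s x = 0 := by
    intro S
    induction S using Finset.induction_on with
    | empty =>
      obtain ⟨x, hx, hx0⟩ := K.bot_or_exists_ne_zero.resolve_left hne
      exact ⟨x, hx, hx0, by simp⟩
    | insert a S haS ih =>
      obtain ⟨x, hx, hx0, hxS⟩ := ih
      have hex : ∃ j, (rootDiff a)^[j] x = 0 := ⟨p, rootDiff_iterate hexp a x⟩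
      obtain ⟨i, hi⟩ : ∃ i, Nat.find hex = i + 1 := by
        refine ⟨Nat.find hex - 1, (Nat.sub_add_cancel ?_).symm⟩
        refine Nat.one_le_iff_ne_zero.mpr fun h0 => hx0 ?_
        have := Nat.find_spec hex
        rwa [h0] at this
      refine ⟨(rootDiff a)^[i] x, hstab a x hx i, Nat.find_min hex (by omega), fun s hs => ?_⟩
      rcases Finset.mem_insert.mp hs with rfl | hs
      · have := Nat.find_spec hex
        rwa [hi, Function.iterate_succ_apply'] at this
      · clear hi hex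
        induction i with
        | zero => exact hxS s hs
        | succ i ihi => rw [Function.iterate_succ_apply', rootDiff_comm, ihi, map_zero]
  obtain ⟨x, hx, hx0, hxS⟩ := hS Finset.univ
  exact ⟨x, fun s => sub_eq_zero.mp (hxS s (Finset.mem_univ s)), hx, hx0⟩

/-- An invariant subgroup equal to its commutator with the root group is trivial. -/
theorem eq_bot_of_le_comm [Nontrivial M] [Finite F] (hexp : ∀ m : M, p • m = 0) (K : AddSubgroup M)
    (hinv : ∀ s : F, ∀ k ∈ K, (upperT s  : SL2 F) • k ∈ K)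
    (hK : K ≤ ⨆ s : F, K.map (rootDiff s)) : K = ⊥ := by
  classical
  cases nonempty_fintype F
  let R : Finset F → AddSubgroup M := fun S => ⨆ s ∈ S, K.map (rootDiff s)
  have hmap : ∀ (S : Finset F) (a : F), (R S).map (rootDiff a) ≤ R S := by
    intro S a
    simp only [R, AddSubgroup.map_iSup]
    refine iSup₂_mono fun s _ => ?_
    rintro _ ⟨_, ⟨k, hk, rfl⟩, rfl⟩
    exact ⟨rootDiff a k, sub_mem (hinv a k hk) hk, rootDiff_comm s a k⟩
  have hmain : ∀ S : Finset F, K ≤ R S → K = ⊥ := by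
    intro S
    induction S using Finset.induction_on with
    | empty =>
      intro hle
      rw [eq_bot_iff]
      refine hle.trans ?_
      simp [R]
    | insert a S haS ih =>
      intro hle
      refine ih fun k hk => ?_
      have hle' : K ≤ K.map (rootDiff a) ⊔ R S := by
        refine hle.trans ?_
        simp only [R, Finset.iSup_insert, le_refl]
      have hind : ∀ j : ℕ, ∃ k' ∈ K, k - (rootDiff a)^[j] k' ∈ R S := by
        intro j
        induction j with
        | zero => exact ⟨k, hk, by simp⟩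
        | succ j ihj =>
          obtain ⟨k', hk', hR'⟩ := ihj
          obtain ⟨_, ⟨k'', hk'', rfl⟩, y, hy, hsum⟩ := AddSubgroup.mem_sup.mp (hle' hk')
          refine ⟨k'', hk'', ?_⟩
          have hy' : (rootDiff a)^[j] y ∈ R S := by
            clear hR' hsum
            induction j with
            | zero => exact hy
            | succ i ihi =>
              rw [Function.iterate_succ_apply']
              exact hmap S a ⟨_, ihi, rfl⟩
          have h := add_mem hR' hy'
          rw [← hsum, iterate_map_add] at h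
          rw [Function.iterate_succ_apply]
          convert h using 1
          abel
      obtain ⟨k', -, hk'⟩ := hind p
      rwa [rootDiff_iterate hexp, sub_zero] at hk'
  refine hmain Finset.univ (hK.trans (iSup_le fun s => ?_))
  exact le_iSup₂ (f := fun s (_ : s ∈ (Finset.univ : Finset F)) => K.map (rootDiff s)) s
    (Finset.mem_univ s)

theorem comU_ne_top_with_fix [Nontrivial M] [Finite F] (h : Irred F M) (hexp : ∀ m : M, p • m = 0) :
    fixU F M ⊔ comU F M ≠ ⊤ := by
  intro htop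
  have hbot : comU F M = ⊥ := by
    refine eq_bot_of_le_comm (p := p) hexp _ (fun s k hk => upperT_mem_comU s hk)
      ((AddSubgroup.closure_le _).mpr ?_)
    rintro _ ⟨⟨s, m⟩, rfl⟩
    obtain ⟨v, hv, c, hc, rfl⟩ := AddSubgroup.mem_sup.mp (show m ∈ fixU F M ⊔ comU F M from htop ▸ trivial)
    refine le_iSup (fun s : F => (comU F M).map (rootDiff s)) s ⟨c, hc, ?_⟩
    show _ = (upperT s  : SL2 F) • (v + c) - (v + c)
    rw [rootDiff_apply, smul_add, hv s]
    abel
  have hbotL : comL F M = ⊥ := by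
    rw [eq_bot_iff]
    intro m hm
    have := weyl_mem_comU hm
    rw [hbot, AddSubgroup.mem_bot, smul_eq_zero_iff_eq] at this
    exact this.symm ▸ zero_mem _
  have := comU_sup_comL h
  rw [hbot, hbotL, sup_bot_eq] at this
  exact bot_ne_top this

theorem comU_inf_fixL [Nontrivial M] [Finite F] (h : Irred F M) (hexp : ∀ m : M, p • m = 0) :
    comU F M ⊓ fixL F M = ⊥ := by
  rw [eq_bot_iff]
  intro x hx
  by_contra hne
  rw [AddSubgroup.mem_bot] at hne
  refine comU_ne_top_with_fix (p := p) h hexp (eq_top_of_orbit_le h hne fun g => ?_)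
  rcases decomp_lower g with ⟨s, t, y, ht, rfl⟩ | ⟨t, y, ht, rfl⟩
  · rw [mul_smul, mul_smul, hx.2]
    exact AddSubgroup.mem_sup_right (upperT_mem_comU _ (diagT_mem_comU ht hx.1))
  · rw [mul_smul, mul_smul, hx.2]
    exact AddSubgroup.mem_sup_left (weyl_mem_fixU (diagT_mem_fixL ht hx.2))

theorem fixU_inf_comL [Nontrivial M] [Finite F] (h : Irred F M) (hexp : ∀ m : M, p • m = 0) :
    fixU F M ⊓ comL F M = ⊥ := by
  rw [eq_bot_iff]
  intro x hx
  have h1 : (weyl  : SL2 F) • x ∈ comU F M ⊓ fixL F M := ⟨weyl_mem_comU hx.2, weyl_mem_fixL hx.1⟩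
  rw [comU_inf_fixL (p := p) h hexp, AddSubgroup.mem_bot, smul_eq_zero_iff_eq] at h1
  exact h1.symm ▸ zero_mem _

theorem fixU_le_comU [Nontrivial M] [Finite F] (h : Irred F M) (hexp : ∀ m : M, p • m = 0)
    {x : M} (hx : x ∈ fixU F M) (hxc : x ∈ comU F M) (hx0 : x ≠ 0) : fixU F M ≤ comU F M := by
  have htop : fixU F M ⊓ comU F M ⊔ comL F M = ⊤ := by
    refine eq_top_of_orbit_le h hx0 fun g => ?_
    rcases decomp_upper g with ⟨s, t, y, ht, rfl⟩ | ⟨t, y, ht, rfl⟩
    · rw [mul_smul, mul_smul, hx y]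
      refine sub_add_cancel ((lowerT s  : SL2 F) • (diagT t ht  : SL2 F) • x) ((diagT t ht  : SL2 F) • x) ▸
        add_mem (AddSubgroup.mem_sup_right (sub_mem_comL _ _))
          (AddSubgroup.mem_sup_left ⟨diagT_mem_fixU ht hx, diagT_mem_comU ht hxc⟩)
    · rw [mul_smul, mul_smul, hx y]
      exact AddSubgroup.mem_sup_right (weyl_mem_comL (diagT_mem_comU ht hxc))
  intro v hv
  obtain ⟨a, ha, c, hc, hac⟩ :=
    AddSubgroup.mem_sup.mp (show v ∈ fixU F M ⊓ comU F M ⊔ comL F M from htop ▸ trivial)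
  have hc0 : c ∈ fixU F M ⊓ comL F M := ⟨by
    rw [show c = v - a by rw [← hac]; abel]
    exact (fixU F M).sub_mem hv ha.1, hc⟩
  rw [fixU_inf_comL (p := p) h hexp, AddSubgroup.mem_bot] at hc0
  rw [← hac, hc0, add_zero]
  exact ha.2

/-- Both hypotheses give `M = C(U) ⊕ C(L)` with quadratic action. -/
theorem decomposition [Nontrivial M] [Finite M] [Finite F] (h : Irred F M)
    (hexp : ∀ m : M, p • m = 0)
    (hyp : (∀ (s : F) (m : M), (upperT s  : SL2 F) • m - m ∈ fixU F M) ∨
      Nat.card M ≤ Nat.card (fixU F M) ^ 2) :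
    (∀ m : M, ∃ v ∈ fixU F M, ∃ w ∈ fixL F M, v + w = m) ∧
      ∀ (s : F) (m : M), (upperT s  : SL2 F) • m - m ∈ fixU F M := by
  rcases hyp with hq | hcard
  · refine ⟨fun m => AddSubgroup.mem_sup.mp ?_, hq⟩
    have hU : comU F M ≤ fixU F M := (AddSubgroup.closure_le _).mpr fun _ ⟨⟨s, n⟩, e⟩ => e ▸ hq s n
    have hL : comL F M ≤ fixL F M := by
      intro x hx
      have h1 := weyl_mem_fixL (hU (weyl_mem_comU hx))
      rw [← mul_smul, weyl_mul_weyl] at h1
      have h2 := diagT_mem_fixL (neg_ne_zero.mpr (one_ne_zero : (1 : F) ≠ 0)) h1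
      rw [← mul_smul, diagT_mul] at h2
      have h3 : (diagT ((-1 : F) * -1) (by norm_num)  : SL2 F) = 1 := by
        apply ext2 <;> simp [coe_diagT]
      rw [h3, one_smul] at h2
      exact h2
    have : m ∈ comU F M ⊔ comL F M := (comU_sup_comL h) ▸ trivial
    exact sup_le_sup hU hL this
  · let e : fixU F M → fixL F M := fun v => ⟨(weyl  : SL2 F) • (v : M), weyl_mem_fixL v.2⟩
    have he : Function.Injective e := fun a b hab =>
      Subtype.ext (MulAction.injective (weyl  : SL2 F) (congrArg Subtype.val hab))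
    let φ : fixU F M × fixL F M → M := fun x => (x.1 : M) + (x.2 : M)
    have hφ : Function.Injective φ := by
      rintro ⟨a, b⟩ ⟨a', b'⟩ hab
      have hab' : (a : M) + b = a' + b' := hab
      have hm : ((a : M) - a') ∈ fixU F M ⊓ fixL F M := ⟨(fixU F M).sub_mem a.2 a'.2, by
        rw [show (a : M) - a' = (b' : M) - b from by
          rw [sub_eq_sub_iff_add_eq_add, hab', add_comm]]
        exact (fixL F M).sub_mem b'.2 b.2⟩
      rw [fixU_inf_fixL h, AddSubgroup.mem_bot, sub_eq_zero] at hm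
      rw [hm, add_right_inj] at hab'
      exact Prod.ext (Subtype.ext hm) (Subtype.ext hab')
    have hbij : Function.Bijective φ := by
      refine (Nat.bijective_iff_injective_and_card φ).mpr ⟨hφ, le_antisymm
        (Nat.card_le_card_of_injective φ hφ) ?_⟩
      rw [Nat.card_prod]
      refine hcard.trans ?_
      rw [pow_two]
      exact Nat.mul_le_mul_left _ (Nat.card_le_card_of_injective e he)
    have hdec : ∀ m : M, ∃ v ∈ fixU F M, ∃ w ∈ fixL F M, v + w = m := fun m => by
      obtain ⟨⟨v, w⟩, hvw⟩ := hbij.2 m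
      exact ⟨v, v.2, w, w.2, hvw⟩
    refine ⟨hdec, ?_⟩
    -- `[M, U] ∩ C(U) ≠ 0`, so `C(U) ≤ [M, U]`
    have hx : ∃ x ∈ fixU F M, x ∈ comU F M ∧ x ≠ 0 := by
      refine exists_fixed (p := p) hexp _ (fun s k hk => upperT_mem_comU s hk) fun hU0 => ?_
      refine comU_ne_top_with_fix (p := p) h hexp (eq_top_iff.mpr fun m _ => ?_)
      refine AddSubgroup.mem_sup_left fun s => sub_eq_zero.mp ?_
      exact (AddSubgroup.mem_bot).mp (hU0 ▸ sub_mem_comU s m)
    obtain ⟨x, hx1, hx2, hx3⟩ := hx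
    have hle := fixU_le_comU (p := p) h hexp hx1 hx2 hx3
    intro s m
    obtain ⟨v, hv, w, hw, hvw⟩ := hdec ((upperT s  : SL2 F) • m - m)
    have hwc : w ∈ comU F M ⊓ fixL F M := ⟨by
      rw [show w = ((upperT s  : SL2 F) • m - m) - v by rw [← hvw]; abel]
      exact (comU F M).sub_mem (sub_mem_comU s m) (hle hv), hw⟩
    rw [comU_inf_fixL (p := p) h hexp, AddSubgroup.mem_bot] at hwc
    rw [← hvw, hwc, add_zero]
    exact hv

/-- The module is natural. -/
theorem natural [Nontrivial M] [Finite M] [Finite F] (h : Irred F M) (hexp : ∀ m : M, p • m = 0)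
    (hyp : (∀ (s : F) (m : M), (upperT s : SL2 F) • m - m ∈ fixU F M) ∨
      Nat.card M ≤ Nat.card (fixU F M) ^ 2) :
    ∃ Φ : (Fin 2 → F) ≃+ M, ∀ (g : SL2 F) (x : Fin 2 → F),
      Φ ((g : Matrix (Fin 2) (Fin 2) F).mulVec x) = g • Φ x := by
  obtain ⟨-, hquad⟩ := decomposition (p := p) h hexp hyp
  have hinf : ∀ m : M, m ∈ fixU F M → m ∈ fixL F M → m = 0 := fun m h1 h2 =>
    (AddSubgroup.mem_bot).mp (fixU_inf_fixL h ▸ ⟨h1, h2⟩)
  let w : SL2 F := weyl
  let A : F → M → M := fun t v => (upperT t : SL2 F) • w • v - w • v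
  have hAmem : ∀ t v, A t v ∈ fixU F M := fun t v => hquad t _
  have hrel : ∀ (t : F) (ht : t ≠ 0), ∀ v ∈ fixU F M, A t v = (diagT t ht : SL2 F) • v := by
    intro t ht v hv
    have hwv : w • v ∈ fixL F M := weyl_mem_fixL hv
    set a := A t v with hadef
    set c := (lowerT (-t⁻¹) : SL2 F) • a - a with hcdef
    have hc : c ∈ fixL F M := by
      have hab : w • (w⁻¹ • a) = a := smul_inv_smul w a
      rw [hcdef, ← hab, ← mul_smul (lowerT (-t⁻¹)) w, lowerT_mul_weyl, mul_smul, ← smul_sub]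
      exact weyl_mem_fixL (hquad _ _)
    set d := w • v + c with hddef
    have hx : (diagT t ht : SL2 F) • v = (upperT t : SL2 F) • d + a := by
      rw [← rel_diag ht, mul_smul, mul_smul, mul_smul,
        show (upperT t : SL2 F) • (weyl : SL2 F) • v = w • v + a by rw [hadef]; simp [A, w],
        smul_add (lowerT (-t⁻¹)), hwv, show (lowerT (-t⁻¹) : SL2 F) • a = c + a by rw [hcdef]; abel,
        ← add_assoc, smul_add, hAmem t v]
    have hd : d = 0 := by
      refine hinf d ?_ ((fixL F M).add_mem hwv hc)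
      rw [show d = (diagT t ht : SL2 F) • v - a - ((upperT t : SL2 F) • d - d) by rw [hx]; abel]
      exact (fixU F M).sub_mem ((fixU F M).sub_mem (diagT_mem_fixU ht hv) (hAmem t v)) (hquad t d)
    rw [hx, hd, smul_zero, zero_add]
  have hadd : ∀ s t v, A (s + t) v = A s v + A t v := by
    intro s t v
    show (upperT (s + t) : SL2 F) • w • v - w • v = _
    rw [upperT_add, mul_smul, show (upperT t : SL2 F) • w • v = w • v + A t v by simp [A],
      smul_add, hAmem t v]
    simp only [A]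
    abel
  have hzero : ∀ v, A 0 v = 0 := fun v => by simp [A, upperT_zero]
  have hmul : ∀ s t, ∀ v ∈ fixU F M, A (s * t) v = A s (A t v) := by
    intro s t v hv
    rcases eq_or_ne s 0 with rfl | hs
    · rw [zero_mul, hzero, hzero]
    rcases eq_or_ne t 0 with rfl | ht
    · rw [mul_zero, hzero]; simp [A]
    rw [hrel _ (mul_ne_zero hs ht) v hv, hrel t ht v hv, hrel s hs _ (diagT_mem_fixU ht hv),
      ← mul_smul, diagT_mul]
  have hd1 : (diagT (1 : F) one_ne_zero : SL2 F) = 1 := by
    apply ext2 <;> simp [coe_diagT]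
  have hone : ∀ v ∈ fixU F M, A 1 v = v := fun v hv => by
    rw [hrel 1 one_ne_zero v hv, hd1, one_smul]
  have hneg : ∀ t v, A (-t) v = -A t v := fun t v =>
    eq_neg_of_add_eq_zero_left (by rw [← hadd, neg_add_cancel, hzero])
  have hww : ∀ v ∈ fixU F M, w • w • v = -v := fun v hv => by
    rw [← mul_smul, weyl_mul_weyl, ← hrel _ _ v hv, hneg, hone v hv]
  obtain ⟨v0, hv0, -, hv0'⟩ := exists_fixed (F := F) (p := p) hexp ⊤ (fun _ _ _ => trivial) top_ne_bot
  let Φ : (Fin 2 → F) →+ M :=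
    { toFun := fun x => A (x 0) v0 + w • A (x 1) v0
      map_zero' := by simp [hzero]
      map_add' := fun x y => by
        simp only [Pi.add_apply, hadd, smul_add]
        abel }
  have hΦ : ∀ x, Φ x = A (x 0) v0 + w • A (x 1) v0 := fun _ => rfl
  let Good : SL2 F → Prop := fun g => ∀ x : Fin 2 → F,
    Φ ((g : Matrix (Fin 2) (Fin 2) F).mulVec x) = g • Φ x
  have hgmul : ∀ g g', Good g → Good g' → Good (g * g') := fun g g' h1 h2 x => by
    rw [Matrix.SpecialLinearGroup.coe_mul, ← Matrix.mulVec_mulVec, h1, h2, mul_smul]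
  have hgu : ∀ s, Good (upperT s) := fun s x => by
    have h1 : (upperT s : SL2 F) • w • A (x 1) v0 = w • A (x 1) v0 + A (s * x 1) v0 := by
      rw [hmul s (x 1) v0 hv0]
      simp [A]
    rw [hΦ, hΦ, smul_add, hAmem (x 0) v0, h1]
    simp [coe_upperT, Matrix.mulVec, dotProduct, Fin.sum_univ_two, hadd]
    abel
  have hgl : ∀ s, Good (lowerT s) := fun s x => by
    have h1 : (lowerT s : SL2 F) • A (x 0) v0 = A (x 0) v0 + w • A (s * x 0) v0 := by
      have hb := hww _ (hAmem (x 0) v0)
      set b := A (x 0) v0 with hbdef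
      conv_lhs => rw [show b = w • (-(w • b)) by rw [smul_neg, hb, neg_neg]]
      rw [← mul_smul, lowerT_mul_weyl, mul_smul, smul_neg,
        show (upperT (-s) : SL2 F) • w • b = w • b + A (-s) b by simp [A],
        hneg, smul_neg, smul_add, hb, smul_neg, hmul s (x 0) v0 hv0, ← hbdef]
      abel
    have h2 : (lowerT s : SL2 F) • w • A (x 1) v0 = w • A (x 1) v0 :=
      weyl_mem_fixL (hAmem (x 1) v0) s
    rw [hΦ, hΦ, smul_add, h1, h2]
    simp [coe_lowerT, Matrix.mulVec, dotProduct, Fin.sum_univ_two, hadd]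
    abel
  have hgw : Good weyl := by
    rw [weyl_eq]
    exact hgmul _ _ (hgmul _ _ (hgu _) (hgl _)) (hgu _)
  have hgd : ∀ (t : F) (ht : t ≠ 0), Good (diagT t ht) := fun t ht => by
    rw [← rel_diag ht]
    exact hgmul _ _ (hgmul _ _ (hgmul _ _ (hgu _) (hgl _)) (hgu _)) hgw
  have hgood : ∀ g, Good g := fun g => by
    rcases decomp_lower g with ⟨s, t, x, ht, rfl⟩ | ⟨t, x, ht, rfl⟩
    · exact hgmul _ _ (hgmul _ _ (hgu _) (hgd t ht)) (hgl _)
    · exact hgmul _ _ (hgmul _ _ hgw (hgd t ht)) (hgl _)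
  have hinj : Function.Injective Φ := by
    refine (injective_iff_map_eq_zero Φ).mpr fun x hx => ?_
    rw [hΦ] at hx
    have h0 : A (x 0) v0 = 0 := by
      refine hinf _ (hAmem _ _) ?_
      rw [eq_neg_of_add_eq_zero_left hx]
      exact (fixL F M).neg_mem (weyl_mem_fixL (hAmem _ _))
    rw [h0, zero_add, smul_eq_zero_iff_eq] at hx
    have key : ∀ t, A t v0 = 0 → t = 0 := fun t ht0 => by
      by_contra hne
      rw [hrel t hne v0 hv0, smul_eq_zero_iff_eq] at ht0
      exact hv0' ht0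
    funext i
    fin_cases i
    exacts [key _ h0, key _ hx]
  have hsurj : Function.Surjective Φ := by
    rw [← AddMonoidHom.range_eq_top]
    refine (h.1 _ ?_).resolve_left ?_
    · rintro g _ ⟨x, rfl⟩
      exact ⟨_, hgood g x⟩
    · intro h0
      apply hv0'
      rw [← AddSubgroup.mem_bot, ← h0]
      exact ⟨![1, 0], by simp [hΦ, hone v0 hv0, hzero]⟩
  exact ⟨AddEquiv.ofBijective Φ ⟨hinj, hsurj⟩, hgood⟩

end Module

end Cfsg.Agent.H62.Quad
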