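import Cfsg.Agent.Perm.SubsetCount
import Cfsg.Agent.PGroups.Basic
import Cfsg.Agent.H72.AbelianIndexP

/-!
Wielandt's subset count modulo `p ^ 2`: if `p ^ (a + 1)` divides the order of a finite group, the
number of subgroups of order `p ^ a` is congruent to `1 + p * u` modulo `p ^ 2`, where `u` is the
number of non-cyclic subgroups of order `p ^ (a + 1)`.
-/

set_option autoImplicit false
set_option linter.style.haveILetI false

open MulAction
open scoped Pointwise commutatorElement

namespace Cfsg.Agent.H62.SubsetSquare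

universe u

variable {G : Type u} [Group G] [Finite G]

/-- The finite sets of cardinality `q * |K|` fixed by left translation by `K` are the unions of
`q` right cosets. -/
theorem card_fixed [DecidableEq G] (K : Subgroup G) (q n : ℕ) (hn : n = q * Nat.card K) :
    Nat.card {S : Set.powersetCard G n // K ≤ stabilizer G S} = K.index.choose q := by
  classical
  haveI := Fintype.ofFinite G
  subst hn
  let Q := Quotient (QuotientGroup.rightRel K)
  let π : G → Q := Quotient.mk''
  have hπ : ∀ x y : G, π x = π y ↔ y * x⁻¹ ∈ K := fun x y =>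
    Quotient.eq''.trans QuotientGroup.rightRel_apply
  have hfib : ∀ c : Q, (Finset.univ.filter fun x => π x = c).card = Nat.card K := by
    refine fun c => Quotient.inductionOn' c fun a => ?_
    rw [← Fintype.card_subtype, ← Nat.card_eq_fintype_card]
    refine Nat.card_congr ⟨fun x => ⟨x.1 * a⁻¹, ?_⟩, fun k => ⟨k.1 * a, ?_⟩, fun x => ?_, fun k => ?_⟩
    · exact (hπ a x.1).mp x.2.symm
    · exact ((hπ a (k.1 * a)).mpr (by simp)).symm
    · apply Subtype.ext; simp
    · apply Subtype.ext; simp
  have hcardQ : Nat.card Q = K.index := Nat.card_congr (QuotientGroup.quotientRightRelEquivQuotientLeftRel K)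
  have hpre : ∀ t : Finset Q, (Finset.univ.filter fun x => π x ∈ t).card = t.card * Nat.card K := by
    intro t
    rw [Finset.card_eq_sum_card_fiberwise (f := π) (s := Finset.univ.filter fun x => π x ∈ t) (t := t)
      (fun x hx => (Finset.mem_filter.mp hx).2)]
    rw [Finset.sum_congr rfl (fun c hc => ?_), Finset.sum_const, smul_eq_mul]
    rw [← hfib c]
    congr 1
    ext x
    simp only [Finset.mem_filter, Finset.mem_univ, true_and]
    exact ⟨fun h => h.2, fun h => ⟨h ▸ hc, h⟩⟩
  let f : Set.powersetCard Q q → {S : Set.powersetCard G (q * Nat.card K) // K ≤ stabilizer G S} :=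
    fun t => ⟨⟨Finset.univ.filter fun x => π x ∈ (t : Finset Q), by
        show _ = q * Nat.card K
        rw [hpre, Set.powersetCard.card_eq]⟩, by
      intro k hk
      rw [mem_stabilizer_iff]
      apply Subtype.ext
      ext x
      rw [Set.powersetCard.coe_smul, ← Finset.inv_smul_mem_iff, smul_eq_mul]
      simp only [Finset.mem_filter, Finset.mem_univ, true_and]
      rw [show π (k⁻¹ * x) = π x from (hπ _ _).mpr (by simpa using hk)]⟩
  rw [← hcardQ, ← Set.powersetCard.card]
  symm
  refine Nat.card_eq_of_bijective f ⟨fun t t' h => ?_, fun S => ?_⟩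
  · apply Subtype.ext
    ext c
    obtain ⟨x, rfl⟩ : ∃ x, π x = c := Quotient.mk''_surjective c
    have h2 := congrArg (fun s : {S : Set.powersetCard G (q * Nat.card K) // K ≤ stabilizer G S} =>
      x ∈ (s.1 : Finset G)) h
    simpa [f] using h2
  · obtain ⟨S, hS⟩ := S
    have hsat : ∀ x y, π x = π y → x ∈ (S : Finset G) → y ∈ (S : Finset G) := by
      intro x y hxy hx
      have h1 := Finset.smul_mem_smul_finset (a := y * x⁻¹) hx
      rw [← Set.powersetCard.coe_smul, mem_stabilizer_iff.mp (hS ((hπ x y).mp hxy))] at h1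
      simpa using h1
    have heq : (Finset.univ.filter fun x => π x ∈ (S : Finset G).image π) = (S : Finset G) := by
      ext x
      simp only [Finset.mem_filter, Finset.mem_univ, true_and, Finset.mem_image]
      exact ⟨fun ⟨y, hy, hyx⟩ => hsat y x hyx hy, fun hx => ⟨x, hx, rfl⟩⟩
    have hc : ((S : Finset G).image π).card = q := by
      have h1 := hpre ((S : Finset G).image π)
      rw [heq, Set.powersetCard.card_eq] at h1
      exact (Nat.eq_of_mul_eq_mul_right Nat.card_pos h1).symm
    exact ⟨⟨(S : Finset G).image π, hc⟩, Subtype.ext (Subtype.ext heq)⟩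

/-- In a finite cyclic group there is exactly one subgroup of each prime power order dividing
the group order. -/
theorem card_subgroups_of_isCyclic {C : Type*} [Group C] [Finite C] [IsCyclic C] {p β : ℕ}
    (hp : p.Prime) (hdvd : p ^ β ∣ Nat.card C) :
    Nat.card {H : Subgroup C // Nat.card H = p ^ β} = 1 := by
  classical
  haveI := Fintype.ofFinite C
  haveI : Fact p.Prime := ⟨hp⟩
  obtain ⟨H0, hH0⟩ := Sylow.exists_subgroup_card_pow_prime (G := C) p hdvd
  rw [Nat.card_eq_one_iff_unique]
  refine ⟨⟨fun H H' => Subtype.ext ?_⟩, ⟨⟨H0, hH0⟩⟩⟩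
  have key : ∀ K : {H : Subgroup C // Nat.card H = p ^ β},
      (K.1 : Set C).toFinset = Finset.univ.filter (fun x : C => x ^ (p ^ β) = 1) := by
    intro K
    refine Finset.eq_of_subset_of_card_le (fun x hx => ?_) ?_
    · rw [Set.mem_toFinset] at hx
      rw [Finset.mem_filter]
      refine ⟨Finset.mem_univ x, ?_⟩
      have := pow_card_eq_one' (x := (⟨x, hx⟩ : K.1))
      rw [K.2] at this
      exact congrArg Subtype.val this
    · rw [Set.toFinset_card, ← Nat.card_eq_fintype_card]
      refine (IsCyclic.card_pow_eq_one_le (pow_pos hp.pos β)).trans (le_of_eq ?_)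
      exact K.2.symm
  exact SetLike.coe_injective (Set.toFinset_inj.mp ((key H).trans (key H').symm))

/-- Subgroups containing a normal subgroup correspond to the subgroups of the quotient. -/
theorem card_between (N : Subgroup G) [N.Normal] (k : ℕ) :
    Nat.card {M : Subgroup G // N ≤ M ∧ Nat.card M = k * Nat.card N} =
      Nat.card {K : Subgroup (G ⧸ N) // Nat.card K = k} := by
  have hcard : ∀ K : Subgroup (G ⧸ N),
      Nat.card (K.comap (QuotientGroup.mk' N)) = Nat.card K * Nat.card N := by
    intro K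
    have h1 := (K.comap (QuotientGroup.mk' N)).card_mul_index
    rw [Subgroup.index_comap_of_surjective K (QuotientGroup.mk'_surjective N), ← N.card_mul_index] at h1
    have h2 : Nat.card K * K.index = N.index := K.card_mul_index
    have h3 : 0 < K.index := Nat.pos_of_ne_zero K.index_ne_zero_of_finite
    exact Nat.eq_of_mul_eq_mul_right h3 (by rw [h1, ← h2]; ring)
  refine Nat.card_congr
    ⟨fun M => ⟨M.1.map (QuotientGroup.mk' N), ?_⟩, fun K => ⟨K.1.comap (QuotientGroup.mk' N), ?_, ?_⟩,
      fun M => ?_, fun K => ?_⟩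
  · have h1 := hcard (M.1.map (QuotientGroup.mk' N))
    rw [Subgroup.comap_map_eq_self (by rw [QuotientGroup.ker_mk']; exact M.2.1), M.2.2] at h1
    exact (Nat.eq_of_mul_eq_mul_right Nat.card_pos h1).symm
  · intro x hx
    rw [Subgroup.mem_comap, QuotientGroup.mk'_apply, (QuotientGroup.eq_one_iff x).mpr hx]
    exact K.1.one_mem
  · rw [hcard, K.2]
  · exact Subtype.ext (Subgroup.comap_map_eq_self (by rw [QuotientGroup.ker_mk']; exact M.2.1))
  · exact Subtype.ext (Subgroup.map_comap_eq_self_of_surjective (QuotientGroup.mk'_surjective N) K.1)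

/-- An elementary abelian group of order `p ^ (d + 2)` has `1 + p` maximal subgroups modulo `p ^ 2`. -/
theorem card_hyperplanes {V : Type*} [Group V] [Finite V] {p d : ℕ} [hp : Fact p.Prime]
    (hV : Nat.card V = p ^ (d + 2)) (hcomm : ∀ x y : V, x * y = y * x) (hexp : ∀ x : V, x ^ p = 1) :
    Nat.card {M : Subgroup V // Nat.card M = p ^ (d + 1)} ≡ 1 + p [MOD p ^ 2] := by
  classical
  haveI := Fintype.ofFinite (Subgroup V)
  haveI : ∀ N : Subgroup V, N.Normal := fun N => ⟨fun n hn g => by rw [hcomm g n]; simpa using hn⟩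
  obtain ⟨H, hH⟩ := Sylow.exists_subgroup_card_pow_prime (G := V) p
    (hV ▸ pow_dvd_pow p (by omega : d + 1 ≤ d + 2))
  let T := {W : Subgroup V // W ≤ H ∧ Nat.card W = p ^ d}
  have hTcard : Nat.card T ≡ 1 [MOD p] := by
    have e : {W : Subgroup H // Nat.card W = p ^ d} ≃ T :=
      { toFun := fun W => ⟨W.1.map H.subtype, Subgroup.map_subtype_le _, by
          rw [Subgroup.card_map_of_injective H.subtype_injective, W.2]⟩
        invFun := fun W => ⟨W.1.subgroupOf H, by
          rw [Nat.card_congr (Subgroup.subgroupOfEquivOfLe W.2.1).toEquiv, W.2.2]⟩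
        left_inv := fun W => Subtype.ext (by
          simp [Subgroup.subgroupOf, Subgroup.comap_map_eq_self_of_injective H.subtype_injective])
        right_inv := fun W => Subtype.ext (by simp [W.2.1]) }
    rw [← Nat.card_congr e]
    exact Perm.card_subgroups_modEq_one p d hp.out (hH ▸ pow_dvd_pow p (Nat.le_succ d))
  have hinf : ∀ M : Subgroup V, Nat.card M = p ^ (d + 1) → M ≠ H → Nat.card ↥(M ⊓ H) = p ^ d := by
    intro M hM hne
    have hlt : M < M ⊔ H := lt_of_le_of_ne le_sup_left fun h =>
      hne (Subgroup.eq_of_le_of_card_ge (h ▸ le_sup_right : H ≤ M) (by rw [hM, hH])).symm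
    have hdvd : Nat.card ↥(M ⊔ H) ∣ p ^ (d + 2) := hV ▸ Subgroup.card_subgroup_dvd_card _
    obtain ⟨j, hj, hjc⟩ := (Nat.dvd_prime_pow hp.out).mp hdvd
    have hltc : Nat.card M < Nat.card ↥(M ⊔ H) :=
      Set.ncard_lt_ncard (SetLike.coe_ssubset_coe.mpr hlt) (Set.toFinite _)
    rw [hM, hjc] at hltc
    have hj2 : j = d + 2 := by
      have := (Nat.pow_lt_pow_iff_right hp.out.one_lt).mp hltc
      omega
    have htop : M ⊔ H = ⊤ := Subgroup.eq_top_of_card_eq _ (by rw [hjc, hj2, hV])
    have h1 : H.relIndex M = H.index := by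
      rw [← Subgroup.relIndex_sup_right (H := M) (K := H), htop, Subgroup.relIndex_top_right]
    have h2 : Nat.card ↥(M ⊓ H) * (M ⊓ H).relIndex M = Nat.card M := by
      rw [← Subgroup.relIndex_bot_left, Subgroup.relIndex_mul_relIndex _ _ _ bot_le inf_le_left,
        Subgroup.relIndex_bot_left]
    have hHi : H.index = p := by
      have := H.card_mul_index
      rw [hH, hV, pow_succ p (d + 1)] at this
      exact Nat.eq_of_mul_eq_mul_left (pow_pos hp.out.pos _) this
    rw [Subgroup.inf_relIndex_left, h1, hHi, hM, pow_succ] at h2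
    exact Nat.eq_of_mul_eq_mul_right hp.out.pos h2
  let F : T → Type _ := fun W => {M : Subgroup V // W.1 ≤ M ∧ Nat.card M = p ^ (d + 1) ∧ M ≠ H}
  let e : {M : Subgroup V // Nat.card M = p ^ (d + 1) ∧ M ≠ H} ≃ Σ W : T, F W :=
    { toFun := fun M => ⟨⟨M.1 ⊓ H, inf_le_right, hinf M.1 M.2.1 M.2.2⟩, ⟨M.1, inf_le_left, M.2⟩⟩
      invFun := fun x => ⟨x.2.1, x.2.2.2⟩
      left_inv := fun M => rfl
      right_inv := by
        rintro ⟨⟨W, hWH, hWc⟩, ⟨M, hWM, hMc, hMne⟩⟩
        have hWeq : M ⊓ H = W :=
          (Subgroup.eq_of_le_of_card_ge (le_inf hWM hWH) (by rw [hinf M hMc hMne, hWc])).symm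
        subst hWeq
        rfl }
  have hF : ∀ W : T, Nat.card (F W) = p := by
    intro W
    have h1 : Nat.card {M : Subgroup V // W.1 ≤ M ∧ Nat.card M = p * Nat.card W.1} = p + 1 := by
      rw [card_between]
      refine H72.AbIdx.card_subgroups_prime ?_ ?_
      · have := W.1.card_mul_index
        rw [W.2.2, hV, pow_add] at this
        exact Nat.eq_of_mul_eq_mul_left (pow_pos hp.out.pos _) this
      · intro x
        obtain ⟨v, rfl⟩ := QuotientGroup.mk'_surjective W.1 x
        rw [← map_pow, hexp, map_one]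
    have hcases : {M : Subgroup V // W.1 ≤ M ∧ Nat.card M = p * Nat.card W.1} ≃ Option (F W) :=
      { toFun := fun M => if h : M.1 = H then none else
          some ⟨M.1, M.2.1, by rw [M.2.2, W.2.2, pow_succ'], h⟩
        invFun := fun o => match o with
          | none => ⟨H, W.2.1, by rw [hH, W.2.2, pow_succ']⟩
          | some M => ⟨M.1, M.2.1, by rw [M.2.2.1, W.2.2, pow_succ']⟩
        left_inv := fun M => by
          by_cases h : M.1 = H
          · simp [h]; exact Subtype.ext h.symm
          · simp [h]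
        right_inv := fun o => by
          cases o with
          | none => simp
          | some M => simp [M.2.2.2] }
    rw [Nat.card_congr hcases, Finite.card_option] at h1
    omega
  have hsplit : Nat.card {M : Subgroup V // Nat.card M = p ^ (d + 1)} =
      1 + Nat.card {M : Subgroup V // Nat.card M = p ^ (d + 1) ∧ M ≠ H} := by
    rw [Nat.card_eq_fintype_card, Nat.card_eq_fintype_card, Fintype.card_subtype, Fintype.card_subtype]
    rw [← Finset.card_filter_add_card_filter_not
      (s := Finset.univ.filter fun M : Subgroup V => Nat.card M = p ^ (d + 1)) (fun M => M = H)]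
    congr 1
    · rw [Finset.card_eq_one]
      refine ⟨H, ?_⟩
      ext M
      simp only [Finset.mem_filter, Finset.mem_univ, true_and, Finset.mem_singleton]
      exact ⟨fun h => h.2, fun h => ⟨h ▸ hH, h⟩⟩
    · rw [Finset.filter_filter]
  rw [hsplit, Nat.card_congr e, Nat.card_sigma]
  simp only [hF, Finset.sum_const, Finset.card_univ, smul_eq_mul, ← Nat.card_eq_fintype_card]
  have := Nat.ModEq.mul_right' p hTcard
  rw [one_mul, ← sq] at this
  exact this.add_left 1

/-- The number of maximal subgroups of a non-cyclic `p`-group is `1 + p` modulo `p ^ 2`. -/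
theorem card_maximal_modEq {L : Type*} [Group L] [Finite L] {p a : ℕ} [hp : Fact p.Prime]
    (hL : Nat.card L = p ^ (a + 1)) (hnc : ¬ IsCyclic L) :
    Nat.card {M : Subgroup L // Nat.card M = p ^ a} ≡ 1 + p [MOD p ^ 2] := by
  have hP : IsPGroup p L := IsPGroup.of_card hL
  obtain ⟨D, hD⟩ := IsPGroup.iff_card.mp (hP.to_quotient (frattini L))
  have hD2 : 2 ≤ D := by
    by_contra h
    haveI : IsCyclic (L ⧸ frattini L) := by
      rcases Nat.le_one_iff_eq_zero_or_eq_one.mp (by omega : D ≤ 1) with rfl | rfl
      · haveI : Subsingleton (L ⧸ frattini L) :=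
          (Nat.card_eq_one_iff_unique.mp (by simpa using hD)).1
        infer_instance
      · exact isCyclic_of_prime_card (by simpa using hD)
    exact hnc PGroups.isCyclic_of_frattini
  obtain ⟨d, rfl⟩ : ∃ d, D = d + 2 := ⟨D - 2, by omega⟩
  have hcm : Nat.card (frattini L) * p ^ (d + 2) = p ^ (a + 1) := by
    rw [← hD, ← Subgroup.index_eq_card, Subgroup.card_mul_index, hL]
  have hfr : Nat.card (frattini L) * p ^ (d + 1) = p ^ a := by
    rw [pow_succ p (d + 1), pow_succ p a, ← mul_assoc] at hcm
    exact Nat.eq_of_mul_eq_mul_right hp.out.pos hcm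
  have hiff : ∀ M : Subgroup L, Nat.card M = p ^ a ↔
      frattini L ≤ M ∧ Nat.card M = p ^ (d + 1) * Nat.card (frattini L) := by
    intro M
    rw [mul_comm, hfr]
    refine ⟨fun h => ⟨frattini_le_coatom ?_, h⟩, fun h => h.2⟩
    have hi : M.index = p := by
      have := M.card_mul_index
      rw [h, hL, pow_succ] at this
      exact Nat.eq_of_mul_eq_mul_left (pow_pos hp.out.pos a) this
    refine ⟨fun ht => hp.out.ne_one (by rw [← hi, ht, Subgroup.index_top]), fun M' hlt => ?_⟩
    have hd := Subgroup.index_dvd_of_le hlt.le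
    rw [hi, Nat.dvd_prime hp.out] at hd
    rcases hd with hd | hd
    · exact Subgroup.index_eq_one.mp hd
    · exfalso
      refine hlt.ne (Subgroup.eq_of_le_of_card_ge hlt.le (le_of_eq ?_))
      have h1 := M.card_mul_index
      have h2 := M'.card_mul_index
      rw [hi] at h1; rw [hd, ← h1] at h2
      exact Nat.eq_of_mul_eq_mul_right hp.out.pos h2
  rw [Nat.card_congr (Equiv.subtypeEquivRight hiff), card_between]
  refine card_hyperplanes hD ?_ ?_
  · intro x y
    obtain ⟨u, rfl⟩ := QuotientGroup.mk'_surjective (frattini L) x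
    obtain ⟨v, rfl⟩ := QuotientGroup.mk'_surjective (frattini L) y
    rw [← map_mul, ← map_mul, QuotientGroup.mk'_eq_mk']
    refine ⟨⁅v⁻¹, u⁻¹⁆, PGroups.commutator_le_frattini hP (Subgroup.commutator_mem_commutator
      (Subgroup.mem_top _) (Subgroup.mem_top _)), ?_⟩
    rw [commutatorElement_def]; group
  · intro x
    obtain ⟨u, rfl⟩ := QuotientGroup.mk'_surjective (frattini L) x
    rw [← map_pow]
    exact (QuotientGroup.eq_one_iff _).mpr (PGroups.pow_mem_frattini hP u)

omit [Finite G] in
/-- The subgroups of order `k` contained in `L` are those of `L`. -/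
theorem card_le_congr (L : Subgroup G) (k : ℕ) :
    Nat.card {K : Subgroup G // Nat.card K = k ∧ K ≤ L} =
      Nat.card {K : Subgroup L // Nat.card K = k} :=
  Nat.card_congr
    { toFun := fun K => ⟨K.1.subgroupOf L, by
        rw [Nat.card_congr (Subgroup.subgroupOfEquivOfLe K.2.2).toEquiv, K.2.1]⟩
      invFun := fun K => ⟨K.1.map L.subtype, by
        rw [Subgroup.card_map_of_injective L.subtype_injective, K.2], Subgroup.map_subtype_le _⟩
      left_inv := fun K => Subtype.ext (by simp [K.2.2])
      right_inv := fun K => Subtype.ext (by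
        simp [Subgroup.subgroupOf, Subgroup.comap_map_eq_self_of_injective L.subtype_injective]) }

/-- The subset count modulo `p ^ 2 * m`. -/
theorem subset_identity [Fintype (Subgroup G)] (p a m : ℕ) (hp : p.Prime)
    (hn : Nat.card G = p ^ (a + 1) * m) :
    (Nat.card G).choose (p ^ (a + 1)) +
        m * ∑ L : {L : Subgroup G // Nat.card L = p ^ (a + 1)},
          Nat.card {K : Subgroup G // Nat.card K = p ^ a ∧ K ≤ L.1} ≡
      m * (Nat.card {K : Subgroup G // Nat.card K = p ^ a} * (p * m - 1).choose (p - 1) +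
        Nat.card {L : Subgroup G // Nat.card L = p ^ (a + 1)}) [MOD p ^ 2 * m] := by
  classical
  haveI := Fintype.ofFinite G
  let X := Set.powersetCard G (p ^ (a + 1))
  haveI := Fintype.ofFinite X
  let A := {K : Subgroup G // Nat.card K = p ^ a}
  let B := {L : Subgroup G // Nat.card L = p ^ (a + 1)}
  let st : X → ℕ := fun S => Nat.card (stabilizer G S)
  have hdvd : ∀ S : X, st S ∣ p ^ (a + 1) := fun S => Perm.card_stabilizer_dvd_of_left S
  have hm : 0 < m := by
    rcases Nat.eq_zero_or_pos m with h | h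
    · rw [h, mul_zero] at hn; exact absurd hn Nat.card_pos.ne'
    · exact h
  have hKidx : ∀ K : A, K.1.index = p * m := fun K => by
    have := K.1.card_mul_index
    rw [K.2, hn, pow_succ, mul_assoc] at this
    exact Nat.eq_of_mul_eq_mul_left (pow_pos hp.pos a) this
  have hLidx : ∀ L : B, L.1.index = m := fun L => by
    have := L.1.card_mul_index
    rw [L.2, hn] at this
    exact Nat.eq_of_mul_eq_mul_left (pow_pos hp.pos _) this
  -- the sets with the largest stabilizer
  have hstabL : ∀ (L : B) (S : X), L.1 ≤ stabilizer G S ↔ stabilizer G S = L.1 := fun L S =>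
    ⟨fun h => (Subgroup.eq_of_le_of_card_ge h (by
      rw [L.2]; exact Nat.le_of_dvd (pow_pos hp.pos _) (hdvd S))).symm, fun h => h.ge⟩
  have hbig : ∀ L : B, (Finset.univ.filter fun S : X => stabilizer G S = L.1).card = m := fun L => by
    rw [← Fintype.card_subtype, ← Nat.card_eq_fintype_card,
      Nat.card_congr (Equiv.subtypeEquivRight fun S => (hstabL L S).symm)]
    rw [card_fixed L.1 1 (p ^ (a + 1)) (by rw [one_mul, L.2]), hLidx, Nat.choose_one_right]
  have hfix : ∀ K : A, (Finset.univ.filter fun S : X => K.1 ≤ stabilizer G S).card =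
      m * (p * m - 1).choose (p - 1) := fun K => by
    rw [← Fintype.card_subtype, ← Nat.card_eq_fintype_card,
      card_fixed K.1 p (p ^ (a + 1)) (by rw [K.2, pow_succ']), hKidx]
    have h1 := Nat.add_one_mul_choose_eq (p * m - 1) (p - 1)
    have hpm : 0 < p * m := Nat.mul_pos hp.pos hm
    rw [Nat.sub_add_cancel hpm, Nat.sub_add_cancel hp.one_le] at h1
    refine Nat.eq_of_mul_eq_mul_right hp.pos ?_
    rw [← h1]; ring
  let X0 := Finset.univ.filter fun S : X => st S ≠ p ^ a ∧ st S ≠ p ^ (a + 1)
  let X1 := Finset.univ.filter fun S : X => st S = p ^ a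
  let X2 := Finset.univ.filter fun S : X => st S = p ^ (a + 1)
  have hne : p ^ a ≠ p ^ (a + 1) := fun h => by
    have := Nat.pow_right_injective hp.two_le h; omega
  have hX : (Nat.card G).choose (p ^ (a + 1)) = X0.card + X1.card + X2.card := by
    have h1 : Fintype.card X = (Nat.card G).choose (p ^ (a + 1)) := by
      rw [← Nat.card_eq_fintype_card, Set.powersetCard.card]
    rw [← h1, ← Finset.card_univ,
      ← Finset.card_filter_add_card_filter_not (fun S : X => st S = p ^ (a + 1)),
      ← Finset.card_filter_add_card_filter_not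
        (s := Finset.univ.filter fun S : X => ¬ st S = p ^ (a + 1)) (fun S : X => st S = p ^ a),
      Finset.filter_filter, Finset.filter_filter]
    have e1 : (Finset.univ.filter fun S : X => ¬ st S = p ^ (a + 1) ∧ st S = p ^ a) = X1 :=
      Finset.filter_congr fun S _ => ⟨fun h => h.2, fun h => ⟨fun h' => hne (h.symm.trans h'), h⟩⟩
    have e0 : (Finset.univ.filter fun S : X => ¬ st S = p ^ (a + 1) ∧ ¬ st S = p ^ a) = X0 :=
      Finset.filter_congr fun S _ => and_comm
    rw [e1, e0]
    simp only [X2]
    omega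
  have hX2 : X2.card = m * Nat.card B := by
    have : X2 = Finset.univ.biUnion fun L : B => Finset.univ.filter fun S : X => stabilizer G S = L.1 := by
      ext S
      simp only [X2, Finset.mem_biUnion, Finset.mem_filter, Finset.mem_univ, true_and, st]
      exact ⟨fun h => ⟨⟨_, h⟩, rfl⟩, fun ⟨L, hL⟩ => hL ▸ L.2⟩
    rw [this, Finset.card_biUnion ?_, Finset.sum_congr rfl fun L _ => hbig L, Finset.sum_const,
      Finset.card_univ, smul_eq_mul, mul_comm, Nat.card_eq_fintype_card]
    intro L _ L' _ hne'
    rw [Function.onFun, Finset.disjoint_left]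
    intro S hS hS'
    exact hne' (Subtype.ext ((Finset.mem_filter.mp hS).2.symm.trans (Finset.mem_filter.mp hS').2))
  have hdouble : X1.card + m * ∑ L : B, Nat.card {K : Subgroup G // Nat.card K = p ^ a ∧ K ≤ L.1} =
      Nat.card A * (m * (p * m - 1).choose (p - 1)) := by
    have h1 : ∑ K : A, (Finset.univ.filter fun S : X => K.1 ≤ stabilizer G S).card =
        ∑ S : X, (Finset.univ.filter fun K : A => K.1 ≤ stabilizer G S).card := by
      simp only [Finset.card_filter]
      exact Finset.sum_comm
    rw [Finset.sum_congr rfl fun K _ => hfix K, Finset.sum_const, Finset.card_univ, smul_eq_mul,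
      ← Nat.card_eq_fintype_card] at h1
    rw [h1]
    have hval : ∀ S : X, (Finset.univ.filter fun K : A => K.1 ≤ stabilizer G S).card =
        (if st S = p ^ a then 1 else 0) +
          ∑ L : B, if stabilizer G S = L.1 then
            Nat.card {K : Subgroup G // Nat.card K = p ^ a ∧ K ≤ L.1} else 0 := by
      intro S
      by_cases h2 : st S = p ^ (a + 1)
      · rw [if_neg (fun h => hne (h.symm.trans h2)), zero_add,
          Finset.sum_eq_single (⟨stabilizer G S, h2⟩ : B) (fun L _ hL => if_neg fun h =>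
            hL (Subtype.ext h.symm)) (fun h => absurd (Finset.mem_univ _) h), if_pos rfl,
          ← Fintype.card_subtype, ← Nat.card_eq_fintype_card]
        exact Nat.card_congr ⟨fun K => ⟨K.1.1, K.1.2, K.2⟩, fun K => ⟨⟨K.1, K.2.1⟩, K.2.2⟩,
          fun K => rfl, fun K => rfl⟩
      · rw [Finset.sum_eq_zero fun L _ => if_neg fun h => h2 (by simp only [st]; rw [h]; exact L.2),
          add_zero]
        by_cases h1' : st S = p ^ a
        · rw [if_pos h1', Finset.card_eq_one]
          refine ⟨⟨stabilizer G S, h1'⟩, ?_⟩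
          ext K
          simp only [Finset.mem_filter, Finset.mem_univ, true_and, Finset.mem_singleton]
          constructor
          · exact fun h => Subtype.ext (Subgroup.eq_of_le_of_card_ge h (le_of_eq (h1'.trans K.2.symm)))
          · intro h; rw [h]
        · rw [if_neg h1', Finset.card_eq_zero, Finset.filter_eq_empty_iff]
          intro K _ hK
          obtain ⟨j, hj, hjc⟩ := (Nat.dvd_prime_pow hp).mp (hdvd S)
          have hd : p ^ a ∣ p ^ j := by rw [← K.2, ← hjc]; exact Subgroup.card_dvd_of_le hK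
          have := Nat.pow_dvd_pow_iff_le_right hp.one_lt |>.mp hd
          rcases (by omega : j = a ∨ j = a + 1) with rfl | rfl
          · exact h1' hjc
          · exact h2 hjc
    rw [Finset.sum_congr rfl fun S _ => hval S, Finset.sum_add_distrib, Finset.sum_comm,
      Finset.sum_boole, Finset.mul_sum]
    simp only [Nat.cast_id, X1]
    congr 1
    refine Finset.sum_congr rfl fun L _ => ?_
    rw [← Finset.sum_filter, Finset.sum_const, hbig L, smul_eq_mul]
  have hX0 : p ^ 2 * m ∣ X0.card := by
    let Y := {S : X // st S ≠ p ^ a ∧ st S ≠ p ^ (a + 1)}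
    have hinv : ∀ (g : G) (S : X), st (g • S) = st S := fun g S => by
      show Nat.card (stabilizer G (g • S)) = _
      rw [stabilizer_smul_eq_stabilizer_map_conj]
      exact Subgroup.card_map_of_injective (MulEquiv.injective _)
    letI : MulAction G Y :=
      { smul := fun g S => ⟨g • S.1, by rw [hinv]; exact S.2⟩
        one_smul := fun S => Subtype.ext (one_smul G S.1)
        mul_smul := fun g h S => Subtype.ext (mul_smul g h S.1) }
    have hY : X0.card = Nat.card Y := by
      rw [Nat.card_eq_fintype_card, Fintype.card_subtype]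
    haveI := Fintype.ofFinite (orbitRel.Quotient G Y)
    rw [hY, Nat.card_congr (selfEquivSigmaOrbitsQuotientStabilizer G Y), Nat.card_sigma]
    refine Finset.dvd_sum fun ω _ => ?_
    have hst : stabilizer G ω.out = stabilizer G ω.out.1 := by
      ext g
      rw [mem_stabilizer_iff, mem_stabilizer_iff]
      exact ⟨fun h => congrArg Subtype.val h, fun h => Subtype.ext h⟩
    rw [← Subgroup.index_eq_card, hst]
    obtain ⟨j, hj, hjc⟩ := (Nat.dvd_prime_pow hp).mp (hdvd ω.out.1)
    have h1 : j ≠ a := fun h => ω.out.2.1 (hjc.trans (congrArg (p ^ ·) h))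
    have h2 : j ≠ a + 1 := fun h => ω.out.2.2 (hjc.trans (congrArg (p ^ ·) h))
    obtain ⟨d, hd⟩ : ∃ d, a + 1 = j + 2 + d := ⟨a + 1 - (j + 2), by omega⟩
    have h := (stabilizer G ω.out.1).card_mul_index
    simp only [st] at hjc
    rw [hjc, hn] at h
    have hpw : p ^ (a + 1) * m = p ^ j * (p ^ 2 * m * p ^ d) := by
      rw [show p ^ (a + 1) = p ^ (j + 2 + d) from congrArg (p ^ ·) hd]; ring
    rw [hpw] at h
    rw [Nat.eq_of_mul_eq_mul_left (pow_pos hp.pos j) h]
    exact dvd_mul_right _ _
  rw [hX, hX2, show X0.card + X1.card + m * Nat.card B +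
      m * ∑ L : B, Nat.card {K : Subgroup G // Nat.card K = p ^ a ∧ K ≤ L.1} =
      X0.card + ((X1.card + m * ∑ L : B, Nat.card {K : Subgroup G // Nat.card K = p ^ a ∧ K ≤ L.1}) +
        m * Nat.card B) by ring, hdouble,
    show Nat.card A * (m * (p * m - 1).choose (p - 1)) + m * Nat.card B =
      m * (Nat.card A * (p * m - 1).choose (p - 1) + Nat.card B) by ring]
  have h0 := (Nat.modEq_zero_iff_dvd.mpr hX0).add_right
    (m * (Nat.card A * (p * m - 1).choose (p - 1) + Nat.card B))
  rw [zero_add] at h0
  exact h0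

/-- If `p ^ (a + 1)` divides the group order, the number of subgroups of order `p ^ a` is
`1 + p * u` modulo `p ^ 2`, with `u` the number of non-cyclic subgroups of order `p ^ (a + 1)`. -/
theorem card_subgroups_modEq_sq (p a : ℕ) (hp : p.Prime) (hdvd : p ^ (a + 1) ∣ Nat.card G) :
    Nat.card {K : Subgroup G // Nat.card K = p ^ a} ≡
      1 + p * Nat.card {L : Subgroup G // Nat.card L = p ^ (a + 1) ∧ ¬ IsCyclic L} [MOD p ^ 2] := by
  classical
  haveI : Fact p.Prime := ⟨hp⟩
  obtain ⟨m, hn⟩ := hdvd
  have hm : 0 < m := by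
    rcases Nat.eq_zero_or_pos m with h | h
    · rw [h, mul_zero] at hn; exact absurd hn Nat.card_pos.ne'
    · exact h
  haveI : NeZero (Nat.card G) := ⟨Nat.card_pos.ne'⟩
  let C := Multiplicative (ZMod (Nat.card G))
  have hC : Nat.card C = p ^ (a + 1) * m := by
    rw [Nat.card_congr Multiplicative.toAdd, Nat.card_zmod, hn]
  haveI := Fintype.ofFinite (Subgroup C)
  haveI := Fintype.ofFinite (Subgroup G)
  have hc1 := subset_identity (G := C) p a m hp hC
  have hsum1 : ∑ L : {L : Subgroup C // Nat.card L = p ^ (a + 1)},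
      Nat.card {K : Subgroup C // Nat.card K = p ^ a ∧ K ≤ L.1} = 1 := by
    rw [Finset.sum_congr rfl fun L _ => ?_, Finset.sum_const, smul_eq_mul, mul_one, Finset.card_univ,
      ← Nat.card_eq_fintype_card]
    · exact card_subgroups_of_isCyclic hp (Dvd.intro m hC.symm)
    · rw [card_le_congr]
      exact card_subgroups_of_isCyclic hp ((pow_dvd_pow p (Nat.le_succ a)).trans L.2.symm.dvd)
  rw [hsum1, mul_one, card_subgroups_of_isCyclic hp (Dvd.intro m hC.symm),
    card_subgroups_of_isCyclic hp ((pow_dvd_pow p (Nat.le_succ a)).trans (Dvd.intro m hC.symm)),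
    one_mul, hC, ← hn] at hc1
  have hg := subset_identity (G := G) p a m hp hn
  set sA := Nat.card {K : Subgroup G // Nat.card K = p ^ a}
  set sB := Nat.card {L : Subgroup G // Nat.card L = p ^ (a + 1)} with hsB
  set C' := (p * m - 1).choose (p - 1) with hC'
  set u := Nat.card {L : Subgroup G // Nat.card L = p ^ (a + 1) ∧ ¬ IsCyclic L} with hu
  set sc := ∑ L : {L : Subgroup G // Nat.card L = p ^ (a + 1)},
      Nat.card {K : Subgroup G // Nat.card K = p ^ a ∧ K ≤ L.1} with hsc
  -- the sum of the numbers of maximal subgroups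
  have hsum : (sc : ZMod (p ^ 2)) = sB + p * u := by
    rw [hsc, Nat.cast_sum]
    have hval : ∀ L : {L : Subgroup G // Nat.card L = p ^ (a + 1)},
        (Nat.card {K : Subgroup G // Nat.card K = p ^ a ∧ K ≤ L.1} : ZMod (p ^ 2)) =
          1 + (p : ZMod (p ^ 2)) * if IsCyclic L.1 then 0 else 1 := by
      intro L
      rw [card_le_congr]
      by_cases h : IsCyclic L.1
      · rw [if_pos h, card_subgroups_of_isCyclic hp ((pow_dvd_pow p (Nat.le_succ a)).trans L.2.symm.dvd)]
        simp
      · rw [if_neg h, mul_one, (ZMod.natCast_eq_natCast_iff _ _ _).mpr (card_maximal_modEq L.2 h)]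
        simp
    rw [Finset.sum_congr rfl fun L _ => hval L, Finset.sum_add_distrib, Finset.sum_const,
      Finset.card_univ, nsmul_one, ← Finset.mul_sum, hsB, Nat.card_eq_fintype_card]
    congr 2
    rw [Finset.sum_ite, Finset.sum_const_zero, zero_add, Finset.sum_const, nsmul_one, hu]
    congr 1
    rw [← Fintype.card_subtype, ← Nat.card_eq_fintype_card]
    exact Nat.card_congr (Equiv.subtypeSubtypeEquivSubtypeInter
      (fun L : Subgroup G => Nat.card L = p ^ (a + 1)) (fun L => ¬ IsCyclic L))
  have h1 : C' + sc ≡ sA * C' + sB [MOD p ^ 2] := by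
    have h2 : m * (C' + 1 + sc) ≡ m * (sA * C' + sB + 1) [MOD p ^ 2 * m] := by
      calc m * (C' + 1 + sc) = m * (C' + 1) + m * sc := by ring
        _ ≡ (Nat.card G).choose (p ^ (a + 1)) + m + m * sc [MOD p ^ 2 * m] := (hc1.symm).add_right _
        _ = ((Nat.card G).choose (p ^ (a + 1)) + m * sc) + m := by ring
        _ ≡ m * (sA * C' + sB) + m [MOD p ^ 2 * m] := hg.add_right _
        _ = m * (sA * C' + sB + 1) := by ring
    rw [mul_comm (p ^ 2) m] at h2
    have h3 := Nat.ModEq.mul_left_cancel' hm.ne' h2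
    exact Nat.ModEq.add_right_cancel' 1 (by simpa [add_comm, add_left_comm, add_assoc] using h3)
  have h1z := (ZMod.natCast_eq_natCast_iff _ _ _).mpr h1
  push_cast at h1z
  rw [hsum] at h1z
  -- `C'` and `sA` are congruent to one modulo `p`
  have hCp : C' ≡ 1 [MOD p] := by
    haveI : Fact p.Prime := ⟨hp⟩
    refine (Choose.choose_modEq_choose_mod_mul_choose_div_nat (p := p)).trans ?_
    have h2 : (p * m - 1) % p = p - 1 := by
      obtain ⟨k, rfl⟩ : ∃ k, m = k + 1 := ⟨m - 1, by omega⟩
      rw [Nat.mul_succ, Nat.add_sub_assoc hp.one_le, Nat.mul_add_mod, Nat.mod_eq_of_lt]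
      have := hp.one_le; omega
    rw [h2, Nat.mod_eq_of_lt (Nat.sub_lt hp.pos one_pos), Nat.choose_self, Nat.div_eq_of_lt
      (Nat.sub_lt hp.pos one_pos), Nat.choose_zero_right, mul_one]
  have hAp : sA ≡ 1 [MOD p] := Perm.card_subgroups_modEq_one p a hp
    ((pow_dvd_pow p (Nat.le_succ a)).trans (Dvd.intro m hn.symm))
  obtain ⟨v, hv⟩ := (Nat.modEq_iff_dvd.mp hCp.symm)
  obtain ⟨t, ht⟩ := (Nat.modEq_iff_dvd.mp hAp.symm)
  have hvz : (C' : ZMod (p ^ 2)) = 1 + (p : ZMod (p ^ 2)) * v := by
    have := congrArg (fun z : ℤ => (z : ZMod (p ^ 2))) hv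
    push_cast at this
    linear_combination this
  have htz : (sA : ZMod (p ^ 2)) = 1 + (p : ZMod (p ^ 2)) * t := by
    have := congrArg (fun z : ℤ => (z : ZMod (p ^ 2))) ht
    push_cast at this
    linear_combination this
  have hpp : (p : ZMod (p ^ 2)) * p = 0 := by
    rw [← Nat.cast_mul, ← sq]; exact ZMod.natCast_self _
  rw [← ZMod.natCast_eq_natCast_iff]
  push_cast
  rw [hvz, htz] at h1z
  rw [htz]
  linear_combination -h1z - (t * v : ZMod (p ^ 2)) * hpp

end Cfsg.Agent.H62.SubsetSquare
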