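import Mathlib
import Cfsg.Agent.H30.Supersolvable
import Cfsg.Agent.Hall.SupersolvableHall
import Cfsg.Agent.Fusion.PComplement
import Cfsg.Agent.S0132
import Cfsg.Agent.S0526
import Cfsg.Agent.H40.PElem
import Cfsg.Agent.H62.CD

/-!
Supersolvability from a condition on two-generated subgroups `⟨x, g x g⁻¹⟩`.
-/

set_option autoImplicit false
set_option linter.style.haveILetI false

namespace Cfsg.Agent.H62.SupersolvableTwoGen

open Subgroup

universe u

variable {G H : Type*} [Group G] [Group H]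

/-- The hypothesis. -/
def Hyp (G : Type*) [Group G] : Prop :=
  ∀ (p q : ℕ), p.Prime → q.Prime → p ≠ q → ∀ (x g : G), (∃ a : ℕ, orderOf x = p ^ a) →
    (∃ b : ℕ, orderOf g = q ^ b) → ¬ q ^ 2 ∣ Nat.card ↥(zpowers x ⊔ zpowers (g * x * g⁻¹))

theorem map_pair (f : G →* H) (x g : G) :
    (zpowers x ⊔ zpowers (g * x * g⁻¹)).map f = zpowers (f x) ⊔ zpowers (f g * f x * (f g)⁻¹) := by
  rw [Subgroup.map_sup, MonoidHom.map_zpowers, MonoidHom.map_zpowers, map_mul, map_mul, map_inv]

theorem hyp_of_injective (hG : Hyp G) (f : H →* G) (hf : Function.Injective f) : Hyp H := by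
  intro p q hp hq hne x g hx hg hd
  refine hG p q hp hq hne (f x) (f g) ?_ ?_ ?_
  · rwa [orderOf_injective f hf]
  · rwa [orderOf_injective f hf]
  · rwa [← map_pair, card_map_of_injective hf]

theorem isPElem_of_orderOf {p : ℕ} {x : G} (h : ∃ a, orderOf x = p ^ a) : H40.IsPElem p x := by
  obtain ⟨a, ha⟩ := h; exact ⟨a, by rw [← ha, pow_orderOf_eq_one]⟩

theorem orderOf_of_isPElem {p : ℕ} [hp : Fact p.Prime] {x : G} (h : H40.IsPElem p x) :
    ∃ a, orderOf x = p ^ a := by
  obtain ⟨a, ha⟩ := h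
  obtain ⟨k, -, hk⟩ := (Nat.dvd_prime_pow hp.out).1 (orderOf_dvd_of_pow_eq_one ha)
  exact ⟨k, hk⟩

theorem hyp_of_surjective [Finite G] (hG : Hyp G) (f : G →* H) (hf : Function.Surjective f) :
    Hyp H := by
  intro p q hp hq hne x g hx hg hd
  haveI := Fact.mk hp
  haveI := Fact.mk hq
  obtain ⟨x', -, hx', rfl⟩ := H40.exists_isPElem_lift f (M := ⊤) (by
    rw [map_top_of_surjective f hf]; trivial) (isPElem_of_orderOf hx)
  obtain ⟨g', -, hg', rfl⟩ := H40.exists_isPElem_lift f (M := ⊤) (by
    rw [map_top_of_surjective f hf]; trivial) (isPElem_of_orderOf hg)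
  refine hG p q hp hq hne x' g' (orderOf_of_isPElem hx') (orderOf_of_isPElem hg') ?_
  rw [← map_pair] at hd
  exact hd.trans (card_map_dvd _ f)

/-- Two distinct subgroups of order `q` that commute generate a group of order divisible by `q²`. -/
theorem sq_dvd_of_two [Finite G] {q : ℕ} (hq : q.Prime) {u w : G} {K : Subgroup G} (hu : u ∈ K)
    (hw : w ∈ K) (hou : orderOf u = q) (how : orderOf w = q) (hcomm : Commute u w)
    (hne : w ∉ zpowers u) : q ^ 2 ∣ Nat.card K := by
  haveI := Fact.mk hq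
  set U := zpowers u with hU
  set W := zpowers w with hW
  have hUW : U ⊓ W = ⊥ := by
    have h1 : Nat.card (U ⊓ W : Subgroup G) ∣ q := by
      have := card_dvd_of_le (inf_le_right : U ⊓ W ≤ W)
      rwa [hW, Nat.card_zpowers, how] at this
    rcases (Nat.dvd_prime hq).1 h1 with h2 | h2
    · exact eq_bot_of_card_eq _ h2
    · have h3 : U ⊓ W = W := eq_of_le_of_card_ge inf_le_right (by
        rw [h2, hW, Nat.card_zpowers, how])
      exact absurd ((inf_eq_right.1 h3) (mem_zpowers w)) hne
  have hn : U ≤ normalizer (W : Set G) := by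
    refine le_trans ?_ (centralizer_le_normalizer _)
    rw [hU, zpowers_le, mem_centralizer_iff]
    rintro _ ⟨m, rfl⟩
    exact (hcomm.symm.zpow_left m).eq
  have h := card_prod_mul_card_inf U W
  rw [← coe_mul_of_left_le_normalizer_right U W hn, hUW, card_bot, mul_one, hU, hW,
    Nat.card_zpowers, Nat.card_zpowers, hou, how] at h
  rw [pow_two, ← h]
  exact card_dvd_of_le (sup_le (zpowers_le.2 hu) (zpowers_le.2 hw))

/-- A subgroup containing all elements of prime power order is everything. -/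
theorem eq_top_of_primary [Finite G] {K : Subgroup G}
    (h : ∀ (r : ℕ) (x : G), r.Prime → (∃ a, orderOf x = r ^ a) → x ∈ K) : K = ⊤ := by
  by_contra hne
  obtain ⟨r, hr, hrd⟩ := Nat.exists_prime_and_dvd (fun h1 => hne (index_eq_one.1 h1))
  haveI := Fact.mk hr
  obtain ⟨P⟩ := Sylow.nonempty (p := r) (G := G)
  refine P.not_dvd_index (hrd.trans (index_dvd_of_le fun x hx => h r x hr ?_))
  exact orderOf_of_isPElem (H40.isPElem_of_isPGroup P.isPGroup' hx)

theorem comm_of_sq {x y : G} (hx : x * x = 1) (hy : y * y = 1) (hxy : x * y * (x * y) = 1) :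
    x * y = y * x := by
  calc x * y = (x * y)⁻¹ := eq_inv_of_mul_eq_one_left hxy
    _ = y⁻¹ * x⁻¹ := mul_inv_rev x y
    _ = y * x := by rw [inv_eq_of_mul_eq_one_right hy, inv_eq_of_mul_eq_one_right hx]

section Action

variable {V : Type*} [Group V] [Finite V] {p : ℕ} [hp : Fact p.Prime]

/-- An irreducible group of automorphisms that is supersolvable and acts like scalars on commutators. -/
structure Setting (p : ℕ) (Q : Subgroup (MulAut V)) : Prop where
  comm : ∀ a b : V, a * b = b * a
  expo : ∀ v : V, v ^ p = 1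
  ss : Cfsg.IsSupersolvable Q
  irr : ∀ W : Subgroup V, (∀ α ∈ Q, ∀ w ∈ W, α w ∈ W) → W = ⊥ ∨ W = ⊤
  hyp : Hyp Q
  line : ∀ α ∈ Q, ∀ r : ℕ, r.Prime → r ≠ p → (∃ a, orderOf α = r ^ a) →
    ∀ v : V, α (v * (α v)⁻¹) ∈ zpowers (v * (α v)⁻¹)

/-- Fixed points of a set of automorphisms. -/
def fix (S : Set (MulAut V)) : Subgroup V where
  carrier := {v | ∀ α ∈ S, α v = v}
  one_mem' := fun α _ => map_one α
  mul_mem' := fun {a b} ha hb α hα => by rw [map_mul, ha α hα, hb α hα]
  inv_mem' := fun {a} ha α hα => by rw [map_inv, ha α hα]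

theorem uniform_exp (hcomm : ∀ a b : V, a * b = b * a) (hexp : ∀ v : V, v ^ p = 1) (α : MulAut V)
    (W : Subgroup V) (h : ∀ w ∈ W, α w ∈ zpowers w) :
    ∃ k : ℕ, ∀ w ∈ W, α w = w ^ k := by
  have hpow : ∀ w ∈ W, ∃ k : ℕ, α w = w ^ k := fun w hw => by
    obtain ⟨k, hk⟩ := mem_powers_iff_mem_zpowers.2 (h w hw)
    exact ⟨k, hk.symm⟩
  by_cases hW : ∀ w ∈ W, w = 1
  · exact ⟨1, fun w hw => by rw [hW w hw, map_one, pow_one]⟩
  push Not at hW
  obtain ⟨u, hu, hu1⟩ := hW
  obtain ⟨k, hk⟩ := hpow u hu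
  refine ⟨k, fun w hw => ?_⟩
  by_cases hwu : w ∈ zpowers u
  · obtain ⟨m, rfl⟩ := hwu
    show α (u ^ m) = (u ^ m) ^ k
    rw [map_zpow, hk, ← zpow_natCast, ← zpow_natCast, ← zpow_mul, ← zpow_mul, mul_comm]
  obtain ⟨l, hl⟩ := hpow w hw
  obtain ⟨j, hj⟩ := hpow (u * w) (W.mul_mem hu hw)
  rw [map_mul, hk, hl, (show Commute u w from hcomm u w).mul_pow] at hj
  have hj' : u ^ k * w ^ l = u ^ j * w ^ j := hj
  have how : orderOf w = p := orderOf_eq_prime (hexp w) (fun h => hwu (h ▸ one_mem _))
  have hou : orderOf u = p := orderOf_eq_prime (hexp u) hu1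
  have e : (u ^ (k : ℤ) * (u ^ (j : ℤ))⁻¹) = w ^ (j : ℤ) * (w ^ (l : ℤ))⁻¹ := by
    simp only [zpow_natCast]
    rw [eq_mul_inv_iff_mul_eq, mul_assoc, hcomm _ (w ^ l), ← mul_assoc, hj', hcomm (u ^ j),
      mul_inv_cancel_right]
  rw [← zpow_neg, ← zpow_add, ← zpow_neg, ← zpow_add] at e
  have h1 : w ^ ((j : ℤ) + -(l : ℤ)) = 1 := by
    by_contra h1
    apply hwu
    have h2 : w ^ ((j : ℤ) + -(l : ℤ)) ∈ zpowers u := e ▸ zpow_mem (mem_zpowers u) _
    have h3 : zpowers (w ^ ((j : ℤ) + -(l : ℤ))) = zpowers w := by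
      refine eq_of_le_of_card_ge (zpowers_le.2 (zpow_mem (mem_zpowers w) _)) ?_
      rw [Nat.card_zpowers, Nat.card_zpowers, how,
        orderOf_eq_prime (by rw [hexp]) h1]
    exact zpowers_le.2 h2 (h3 ▸ mem_zpowers w)
  rw [h1] at e
  rw [← orderOf_dvd_iff_zpow_eq_one, how] at h1
  rw [← orderOf_dvd_iff_zpow_eq_one, hou] at e
  rw [hl, ← zpow_natCast, ← zpow_natCast, ← mul_inv_eq_one, ← zpow_neg, ← zpow_add,
    ← orderOf_dvd_iff_zpow_eq_one, how]
  have h4 := dvd_sub (dvd_neg.2 e) h1
  have h5 : -((k : ℤ) + -(j : ℤ)) - ((j : ℤ) + -(l : ℤ)) = (l : ℤ) + -(k : ℤ) := by ring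
  rwa [h5] at h4

variable {Q : Subgroup (MulAut V)}

theorem fix_eq_bot (hS : Setting p Q) {R : Subgroup Q} [hR : R.Normal] (hne : R ≠ ⊥) :
    fix ((fun α : Q => (α : MulAut V)) '' (R : Set Q)) = ⊥ := by
  refine (hS.irr _ ?_).resolve_right fun htop => hne ?_
  · rintro α hα w hw _ ⟨β, hβ, rfl⟩
    have h1 := hw _ ⟨_, hR.conj_mem β hβ ⟨α, hα⟩⁻¹, rfl⟩
    simp only [Subgroup.coe_mul, Subgroup.coe_inv, inv_inv, MulAut.mul_apply] at h1
    have h2 := congrArg α h1
    rwa [MulAut.apply_inv_self] at h2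
  · rw [eq_bot_iff]
    intro β hβ
    rw [mem_bot]
    refine Subtype.ext (MulEquiv.ext fun v => ?_)
    exact (show v ∈ fix ((fun α : Q => (α : MulAut V)) '' (R : Set Q)) from htop ▸ mem_top v) _
      ⟨β, hβ, rfl⟩

/-- No non-trivial normal `p`-subgroup. -/
theorem pGroup_eq_bot (hS : Setting p Q) [Nontrivial V] (R : Subgroup Q) [R.Normal]
    (hR : IsPGroup p R) : R = ⊥ := by
  by_contra hne
  have hbot := fix_eq_bot hS hne
  letI : MulAction R V :=
    { smul := fun β v => ((β : Q) : MulAut V) v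
      one_smul := fun v => rfl
      mul_smul := fun β γ v => rfl }
  have hV : IsPGroup p V := fun v => ⟨1, by rw [pow_one]; exact hS.expo v⟩
  have hdvd : p ∣ Nat.card V := by
    rcases hV.card_eq_or_dvd with h | h
    · exact absurd h (Finite.one_lt_card).ne'
    · exact h
  obtain ⟨b, hb, hb1⟩ := hR.exists_fixed_point_of_prime_dvd_card_of_fixed_point V hdvd
    (a := (1 : V)) (fun β => map_one ((β : Q) : MulAut V))
  refine hb1 (Eq.symm ?_)
  have : b ∈ fix ((fun α : Q => (α : MulAut V)) '' (R : Set Q)) := by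
    rintro _ ⟨β, hβ, rfl⟩
    exact hb ⟨β, hβ⟩
  rwa [hbot, mem_bot] at this

/-- A central element fixes no nontrivial vector. -/
theorem fixfree_of_central (hS : Setting p Q) {α : Q} (hα : α ∈ center Q) (hne : α ≠ 1) {v : V}
    (hv : (α : MulAut V) v = v) : v = 1 := by
  haveI : (zpowers α).Normal := ⟨fun a ha g => by
    have : a ∈ center Q := zpowers_le.2 hα ha
    rw [mem_center_iff.1 this g, mul_inv_cancel_right]; exact ha⟩
  have h := fix_eq_bot hS (R := zpowers α) (fun h => hne (zpowers_eq_bot.1 h))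
  rw [← mem_bot, ← h]
  rintro _ ⟨β, ⟨m, rfl⟩, rfl⟩
  show ((α ^ m : Q) : MulAut V) v = v
  rw [Subgroup.coe_zpow]
  exact MulAction.mem_stabilizer_iff.1
    ((MulAction.stabilizer (MulAut V) v).zpow_mem (MulAction.mem_stabilizer_iff.2 hv) m)

/-- Without fixed vectors the element acts by a power map. -/
theorem scalar_of_fixfree (hS : Setting p Q) {α : Q} {r : ℕ} (hr : r.Prime) (hrp : r ≠ p)
    (ho : ∃ a, orderOf α = r ^ a) (hfree : ∀ v, (α : MulAut V) v = v → v = 1) :
    ∃ k : ℕ, ∀ v, (α : MulAut V) v = v ^ k := by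
  have hinj : Function.Injective (fun v => v * ((α : MulAut V) v)⁻¹) := by
    intro v w h
    have h' : v * ((α : MulAut V) v)⁻¹ = w * ((α : MulAut V) w)⁻¹ := h
    have : (α : MulAut V) (w⁻¹ * v) = w⁻¹ * v := by
      rw [map_mul, map_inv, inv_mul_eq_iff_eq_mul]
      calc (α : MulAut V) v = (v * ((α : MulAut V) v)⁻¹)⁻¹ * v := by simp [mul_assoc]
        _ = (α : MulAut V) w * (w⁻¹ * v) := by rw [h']; simp [mul_assoc]
    exact (inv_mul_eq_one.1 (hfree _ this)).symm
  have hsurj := Finite.surjective_of_injective hinj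
  obtain ⟨k, hk⟩ := uniform_exp hS.comm hS.expo (α : MulAut V) ⊤ fun w _ => by
    obtain ⟨v, rfl⟩ := hsurj w
    exact hS.line _ α.2 r hr hrp (by rwa [Subgroup.orderOf_coe]) v
  exact ⟨k, fun v => hk v (mem_top v)⟩

theorem central_of_scalar {α : Q} (h : ∃ k : ℕ, ∀ v, (α : MulAut V) v = v ^ k) : α ∈ center Q := by
  obtain ⟨k, hk⟩ := h
  refine mem_center_iff.2 fun β => Subtype.ext (MulEquiv.ext fun v => ?_)
  show (β : MulAut V) ((α : MulAut V) v) = (α : MulAut V) ((β : MulAut V) v)
  rw [hk, hk, map_pow]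

/-- A vector moved by a scalar determines the scalar. -/
theorem eq_of_scalars (hS : Setting p Q) {b : Q} {k μ : ℕ} (hk : ∀ v, (b : MulAut V) v = v ^ k)
    {w : V} (hw : w ≠ 1) (h : (b : MulAut V) w = w ^ μ) : ∀ v, (b : MulAut V) v = v ^ μ := by
  intro v
  rw [hk] at h ⊢
  have hkμ : k ≡ μ [MOD p] := by
    have := pow_eq_pow_iff_modEq.1 h
    rwa [orderOf_eq_prime (hS.expo w) hw] at this
  by_cases hv : v = 1
  · simp [hv]
  rw [pow_eq_pow_iff_modEq, orderOf_eq_prime (hS.expo v) hv]
  exact hkμ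

/-- A noncentral element of `r`-power order, next to a central element of order `r`. -/
theorem noncentral_aux (hS : Setting p Q) {r : ℕ} (hr : r.Prime) (hrp : r ≠ p) {a : Q}
    (ha : a ∈ center Q) (hoa : orderOf a = r) {x : Q} (hx : ∃ e, orderOf x = r ^ e)
    (hxc : x ∉ center Q) : r = 2 ∧ x * x = 1 := by
  haveI := Fact.mk hr
  have ha1 : a ≠ 1 := fun h => hr.ne_one (by rw [← hoa, h, orderOf_one])
  set D : V → V := fun v => v * ((x : MulAut V) v)⁻¹ with hD
  let W : Subgroup V :=
    { carrier := Set.range D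
      one_mem' := ⟨1, by simp [hD]⟩
      mul_mem' := by
        rintro _ _ ⟨v, rfl⟩ ⟨w, rfl⟩
        refine ⟨v * w, ?_⟩
        show v * w * ((x : MulAut V) (v * w))⁻¹ = v * ((x : MulAut V) v)⁻¹ * (w * ((x : MulAut V) w)⁻¹)
        rw [map_mul, mul_inv_rev, hS.comm ((x : MulAut V) w)⁻¹, ← mul_assoc, ← mul_assoc,
          mul_assoc v w, hS.comm w, ← mul_assoc]
      inv_mem' := by
        rintro _ ⟨v, rfl⟩
        refine ⟨v⁻¹, ?_⟩
        show v⁻¹ * ((x : MulAut V) v⁻¹)⁻¹ = (v * ((x : MulAut V) v)⁻¹)⁻¹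
        rw [map_inv, inv_inv, mul_inv_rev, inv_inv, hS.comm] }
  obtain ⟨μ, hμ⟩ := uniform_exp hS.comm hS.expo (x : MulAut V) W (by
    rintro _ ⟨v, rfl⟩
    exact hS.line _ x.2 r hr hrp (by rwa [Subgroup.orderOf_coe]) v)
  -- every nontrivial power of `a` acts like `μ`
  have hkey : ∀ b ∈ zpowers a, b ≠ 1 → ∀ v, (b : MulAut V) v = v ^ μ := by
    intro b hb hb1
    have hbc : b ∈ center Q := zpowers_le.2 ha hb
    have hbo : ∃ e, orderOf b = r ^ e := by
      have hd : orderOf b ∣ r ^ 1 := by
        rw [pow_one, ← hoa]; exact orderOf_dvd_of_mem_zpowers hb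
      obtain ⟨e, -, he⟩ := (Nat.dvd_prime_pow hr).1 hd
      exact ⟨e, he⟩
    obtain ⟨k, hk⟩ := scalar_of_fixfree hS hr hrp hbo fun v => fixfree_of_central hS hbc hb1
    have hyc : b⁻¹ * x ∉ center Q := fun h => hxc (by simpa using mul_mem hbc h)
    have hyo : ∃ e, orderOf (b⁻¹ * x) = r ^ e := by
      obtain ⟨e₁, he₁⟩ := hbo
      obtain ⟨e₂, he₂⟩ := hx
      have hc : Commute b⁻¹ x := ((mem_center_iff.1 (inv_mem hbc) x) : Commute x b⁻¹).symm
      refine orderOf_of_isPElem ⟨e₁ + e₂, ?_⟩
      have h1 : b ^ (r ^ (e₁ + e₂)) = 1 :=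
        orderOf_dvd_iff_pow_eq_one.1 (he₁ ▸ pow_dvd_pow r (Nat.le_add_right e₁ e₂))
      have h2 : x ^ (r ^ (e₁ + e₂)) = 1 :=
        orderOf_dvd_iff_pow_eq_one.1 (he₂ ▸ pow_dvd_pow r (Nat.le_add_left e₂ e₁))
      rw [hc.mul_pow, inv_pow, h1, h2, inv_one, one_mul]
    obtain ⟨w, hwfix, hw1⟩ : ∃ w, ((b⁻¹ * x : Q) : MulAut V) w = w ∧ w ≠ 1 := by
      by_contra hno
      push Not at hno
      exact hyc (central_of_scalar (scalar_of_fixfree hS hr hrp hyo hno))
    have hxw : (x : MulAut V) w = (b : MulAut V) w := by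
      have h2 := congrArg (b : MulAut V) hwfix
      rwa [Subgroup.coe_mul, Subgroup.coe_inv, MulAut.mul_apply, MulAut.apply_inv_self] at h2
    have hbw : (b : MulAut V) w ≠ w := fun h => hw1 (fixfree_of_central hS hbc hb1 h)
    have hDw : D w ∈ zpowers w := by
      show w * ((x : MulAut V) w)⁻¹ ∈ zpowers w
      rw [hxw, hk]
      exact mul_mem (mem_zpowers w) (inv_mem (pow_mem (mem_zpowers w) k))
    have hDne : D w ≠ 1 := fun h => hbw (by
      rw [← hxw]; exact (mul_inv_eq_one.1 h).symm)
    have hwW : w ∈ W := by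
      have h2 : zpowers (D w) = zpowers w := eq_of_le_of_card_ge (zpowers_le.2 hDw) (by
        rw [Nat.card_zpowers, Nat.card_zpowers, orderOf_eq_prime (hS.expo _) hw1,
          orderOf_eq_prime (hS.expo _) hDne])
      have h3 : zpowers (D w) ≤ W := zpowers_le.2 ⟨w, rfl⟩
      exact h3 (h2 ▸ mem_zpowers w)
    exact eq_of_scalars hS hk hw1 (hxw ▸ hμ w hwW)
  have haa : a * a = 1 := by
    by_contra h
    have h1 := hkey a (mem_zpowers a) ha1
    have h2 := hkey (a * a) (mul_mem (mem_zpowers a) (mem_zpowers a)) h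
    apply ha1
    have h3 : a * a = a := Subtype.ext (MulEquiv.ext fun v => (h2 v).trans (h1 v).symm)
    exact mul_eq_left.1 h3
  have hr2 : r = 2 := by
    have h := orderOf_dvd_of_pow_eq_one (x := a) (n := 2) (by rw [pow_two, haa])
    rw [hoa] at h
    exact (Nat.prime_dvd_prime_iff_eq hr Nat.prime_two).1 h
  refine ⟨hr2, Subtype.ext (MulEquiv.ext fun v => ?_)⟩
  -- `x` inverts every commutator
  have hinv : ∀ v, (a : MulAut V) v = v⁻¹ := by
    intro v
    have hfix : (a : MulAut V) (v * (a : MulAut V) v) = v * (a : MulAut V) v := by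
      have h2 : (a : MulAut V) ((a : MulAut V) v) = v := by
        rw [← MulAut.mul_apply, ← Subgroup.coe_mul, haa, OneMemClass.coe_one, MulAut.one_apply]
      rw [map_mul, h2, hS.comm]
    have h3 := fixfree_of_central hS ha ha1 hfix
    exact eq_inv_of_mul_eq_one_right h3
  have hW : (x : MulAut V) (D v) = (D v)⁻¹ := by
    rw [hμ _ ⟨v, rfl⟩, ← hkey a (mem_zpowers a) ha1, hinv]
  show ((x * x : Q) : MulAut V) v = v
  rw [Subgroup.coe_mul, MulAut.mul_apply]
  have h4 : (x : MulAut V) v * ((x : MulAut V) ((x : MulAut V) v))⁻¹ =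
      (x : MulAut V) v * v⁻¹ := by
    have h5 := hW
    simp only [hD, map_mul, map_inv, mul_inv_rev, inv_inv] at h5
    exact h5
  exact inv_injective (mul_left_cancel h4)

/-- A normal `r`-subgroup is central. -/
theorem normal_rgroup_le_center (hS : Setting p Q) [Nontrivial V] {r : ℕ} [hr : Fact r.Prime]
    (R : Subgroup Q) [hRn : R.Normal] (hR : IsPGroup r R) : R ≤ center Q := by
  by_cases hrp : r = p
  · subst hrp
    rw [pGroup_eq_bot hS R hR]; exact bot_le
  intro t ht
  by_contra htc
  have hR1 : R ≠ ⊥ := fun h => htc (by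
    have : t = 1 := by rwa [h, mem_bot] at ht
    rw [this]; exact one_mem _)
  obtain ⟨A, hAn, hAR, hAp⟩ := H30.exists_normal_prime_le hS.ss R hR1
  haveI := hAn
  have hAr : Nat.card A = r := by
    obtain ⟨k, hk⟩ := hR.exists_card_eq
    exact (Nat.prime_dvd_prime_iff_eq hAp hr.out).1 (hAp.dvd_of_dvd_pow (hk ▸ card_dvd_of_le hAR))
  obtain ⟨⟨a, haA⟩, ha⟩ := exists_prime_orderOf_dvd_card' (G := A) r (by rw [hAr])
  have hoa : orderOf a = r := (orderOf_mk a haA).symm.trans ha
  have hzA : zpowers a = A := eq_of_le_of_card_ge (zpowers_le.2 haA) (by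
    rw [Nat.card_zpowers, hoa, hAr])
  have hac : a ∈ center Q := by
    refine central_of_scalar (scalar_of_fixfree hS hr.out hrp ⟨1, by rw [hoa, pow_one]⟩
      fun v hv => ?_)
    have h := fix_eq_bot hS (R := A) (fun h => hAp.ne_one (by rw [h, card_bot]))
    rw [← mem_bot, ← h]
    rintro _ ⟨β, hβ, rfl⟩
    rw [← hzA] at hβ
    obtain ⟨m, rfl⟩ := hβ
    show ((a ^ m : Q) : MulAut V) v = v
    rw [Subgroup.coe_zpow]
    exact MulAction.mem_stabilizer_iff.1
      ((MulAction.stabilizer (MulAut V) v).zpow_mem (MulAction.mem_stabilizer_iff.2 hv) m)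
  obtain ⟨hr2, htt⟩ := noncentral_aux hS hr.out hrp hac hoa
    (orderOf_of_isPElem (H40.isPElem_of_isPGroup hR ht)) htc
  subst hr2
  -- every element of `2`-power order is an involution or trivial
  have hall : ∀ y : Q, (∃ e, orderOf y = 2 ^ e) → y * y = 1 := by
    intro y hy
    by_cases hyc : y ∈ center Q
    · have hc : Commute t y := mem_center_iff.1 hyc t
      have hty : t * y ∉ center Q := fun h => htc (by simpa using mul_mem h (inv_mem hyc))
      obtain ⟨e, he⟩ := hy
      obtain ⟨-, h⟩ := noncentral_aux hS hr.out hrp hac hoa (orderOf_of_isPElem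
        ⟨e + 1, by rw [hc.mul_pow, pow_succ', pow_mul, pow_two, htt, one_pow, one_mul, mul_comm,
          pow_mul, ← he, pow_orderOf_eq_one, one_pow]⟩) hty
      rwa [mul_assoc, ← mul_assoc y, ← hc.eq, ← mul_assoc, ← mul_assoc, htt, one_mul] at h
    · exact (noncentral_aux hS hr.out hrp hac hoa hy hyc).2
  apply htc
  have hcen : centralizer ({t} : Set Q) = ⊤ := by
    refine eq_top_of_primary fun s x hs hx => ?_
    rw [mem_centralizer_singleton_iff]
    obtain ⟨e, he⟩ := hx
    by_cases hs2 : s = 2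
    · subst hs2
      have hxp : IsPGroup 2 (zpowers x) := IsPGroup.of_card (n := e) (by rw [Nat.card_zpowers, he])
      have hJ : IsPGroup 2 (R ⊔ zpowers x : Subgroup Q) := hR.to_sup_of_normal_left hxp
      have hsq : ∀ y ∈ R ⊔ zpowers x, y * y = 1 := fun y hy =>
        hall y (orderOf_of_isPElem (H40.isPElem_of_isPGroup hJ hy))
      exact comm_of_sq (hsq x (mem_sup_right (mem_zpowers x))) htt
        (hsq _ (mul_mem (mem_sup_right (mem_zpowers x)) (mem_sup_left ht)))
    · -- odd order elements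
      set u := x * t * x⁻¹ * t⁻¹ with hu
      have htinv : t⁻¹ = t := inv_eq_of_mul_eq_one_right htt
      have hsq : ∀ y ∈ R, y * y = 1 := fun y hy =>
        hall y (orderOf_of_isPElem (H40.isPElem_of_isPGroup hR hy))
      have hcR : ∀ y ∈ R, ∀ z ∈ R, y * z = z * y := fun y hy z hz =>
        comm_of_sq (hsq y hy) (hsq z hz) (hsq _ (mul_mem hy hz))
      have hxt : x * t * x⁻¹ ∈ R := hRn.conj_mem t ht x
      have huR : u ∈ R := mul_mem hxt (inv_mem ht)
      have hxu : x * u * x⁻¹ ∈ R := hRn.conj_mem u huR x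
      by_cases hu1 : u = 1
      · rw [hu, mul_inv_eq_one, mul_inv_eq_iff_eq_mul] at hu1
        exact hu1
      exfalso
      set K := zpowers x ⊔ zpowers (t * x * t⁻¹) with hK
      have huK : u ∈ K := by
        have h1 : u = x * (t * x * t⁻¹)⁻¹ := by rw [hu]; group
        rw [h1]
        exact mul_mem (mem_sup_left (mem_zpowers x)) (inv_mem (mem_sup_right (mem_zpowers _)))
      have hxK : x ∈ K := mem_sup_left (mem_zpowers x)
      have hou : orderOf u = 2 := orderOf_eq_prime (by rw [pow_two, hsq u huR]) hu1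
      have how : orderOf (x * u * x⁻¹) = 2 := orderOf_eq_prime (by rw [pow_two, hsq _ hxu])
        (fun h => hu1 (conj_eq_one_iff.1 h))
      by_cases hmem : x * u * x⁻¹ ∈ zpowers u
      · have hux : x * u * x⁻¹ = u := by
          obtain ⟨m, hm⟩ := hmem
          have hev : ∀ k : ℤ, u ^ (2 * k) = 1 := fun k => by
            rw [zpow_mul, zpow_two, hsq u huR, one_zpow]
          rcases Int.even_or_odd m with ⟨k, rfl⟩ | ⟨k, rfl⟩
          · exfalso
            have h0 : u ^ (k + k) = x * u * x⁻¹ := hm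
            rw [← two_mul, hev] at h0
            exact hu1 (conj_eq_one_iff.1 h0.symm)
          · have h0 : u ^ (2 * k + 1) = x * u * x⁻¹ := hm
            rw [zpow_add, hev, zpow_one, one_mul] at h0
            exact h0.symm
        -- so `x²` commutes with `t`
        have h2 : x * x * t * (x * x)⁻¹ = t := by
          have e1 : x * u * x⁻¹ = (x * x * t * (x * x)⁻¹) * (x * t * x⁻¹)⁻¹ := by rw [hu]; group
          have e2 : x * x * t * (x * x)⁻¹ = u * (x * t * x⁻¹) := by
            rw [← mul_inv_eq_iff_eq_mul, ← e1, hux]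
          rw [e2, hu, hcR _ (mul_mem hxt (inv_mem ht)) _ hxt, ← mul_assoc, hsq _ hxt, one_mul,
            htinv]
        apply hu1
        have hcomm2 : Commute (x * x) t := mul_inv_eq_iff_eq_mul.1 h2
        have hodd : (orderOf x).Coprime 2 := by
          rw [he]; exact ((Nat.coprime_primes hs Nat.prime_two).2 hs2).pow_left e
        obtain ⟨k, hk⟩ := exists_pow_eq_self_of_coprime hodd.symm
        have hct : Commute x t := by
          rw [← hk, pow_two]; exact hcomm2.pow_left k
        rw [hu, hct.eq, mul_inv_cancel_right, mul_inv_cancel]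
      · have hd := sq_dvd_of_two Nat.prime_two huK
          (mul_mem (mul_mem hxK huK) (inv_mem hxK)) hou how (hcR u huR _ hxu) hmem
        exact hS.hyp s 2 hs Nat.prime_two hs2 x t ⟨e, he⟩
          (orderOf_of_isPElem (H40.isPElem_of_isPGroup hR ht)) hd
  refine mem_center_iff.2 fun g => ?_
  exact mem_centralizer_singleton_iff.1 (show g ∈ centralizer ({t} : Set Q) from hcen ▸ mem_top g)

/-- A normal nilpotent subgroup is central. -/
theorem normal_nilpotent_le_center (hS : Setting p Q) [Nontrivial V] (K : Subgroup Q) [K.Normal]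
    [Group.IsNilpotent K] : K ≤ center Q := by
  have h : (center Q).subgroupOf K = ⊤ := by
    refine eq_top_of_primary fun r x hr hx => ?_
    haveI := Fact.mk hr
    obtain ⟨e, he⟩ := hx
    obtain ⟨P, hP⟩ := (IsPGroup.of_card (n := e) (by
      rw [Nat.card_zpowers, he]) : IsPGroup r (zpowers x)).exists_le_sylow
    haveI : (P : Subgroup K).Characteristic :=
      P.characteristic_of_normal (Sylow.normal_of_normalizerCondition normalizerCondition_of_isNilpotent P)
    exact normal_rgroup_le_center hS ((P : Subgroup K).map K.subtype) (P.isPGroup'.map _)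
      ⟨x, hP (mem_zpowers x), rfl⟩
  exact subgroupOf_eq_top.1 h

/-- The space is one dimensional. -/
theorem isCyclic_of_setting (hS : Setting p Q) : IsCyclic V := by
  rcases subsingleton_or_nontrivial V with hV | hV
  · exact isCyclic_of_subsingleton
  haveI : Finite Q := Subtype.finite
  haveI := S0526.comm_aux hS.ss
  have hc : _root_.commutator Q ≤ center Q := normal_nilpotent_le_center hS _
  haveI : Group.IsNilpotent Q :=
    Subgroup.isNilpotent_of_ker_le_center (Abelianization.of (G := Q))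
      (by rw [Abelianization.ker_of]; exact hc)
  haveI : Group.IsNilpotent (⊤ : Subgroup Q) :=
    Group.nilpotent_of_mulEquiv Subgroup.topEquiv.symm
  have hcen : center Q = ⊤ := top_le_iff.1 (normal_nilpotent_le_center hS ⊤)
  -- all elements are scalar
  let S : Subgroup Q :=
    { carrier := {α | ∃ k : ℕ, ∀ v, (α : MulAut V) v = v ^ k}
      one_mem' := ⟨1, fun v => by simp⟩
      mul_mem' := by
        rintro α β ⟨k, hk⟩ ⟨l, hl⟩
        refine ⟨k * l, fun v => ?_⟩
        rw [Subgroup.coe_mul, MulAut.mul_apply, hl, hk, ← pow_mul, mul_comm]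
      inv_mem' := by
        rintro α ⟨k, hk⟩
        refine ⟨k ^ (orderOf α - 1), fun v => ?_⟩
        have hpow : ∀ j : ℕ, ∀ v, ((α ^ j : Q) : MulAut V) v = v ^ (k ^ j) := by
          intro j
          induction j with
          | zero => intro v; simp
          | succ j ihj =>
            intro v
            rw [pow_succ' α, Subgroup.coe_mul, MulAut.mul_apply, ihj, hk, ← pow_mul, ← pow_succ]
        rw [← hpow]
        congr 2
        refine inv_eq_of_mul_eq_one_right ?_
        rw [← pow_succ', Nat.sub_add_cancel (orderOf_pos α), pow_orderOf_eq_one] }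
  have hSall : S = ⊤ := eq_top_of_primary fun r x hr hx => by
    haveI := Fact.mk hr
    by_cases hx1 : x = 1
    · rw [hx1]; exact S.one_mem
    by_cases hrp : r = p
    · subst hrp
      exfalso
      haveI : (zpowers x).Normal := ⟨fun a ha g => by
        have : a ∈ center Q := hcen ▸ mem_top a
        rw [mem_center_iff.1 this g, mul_inv_cancel_right]; exact ha⟩
      obtain ⟨e, he⟩ := hx
      exact hx1 (zpowers_eq_bot.1 (pGroup_eq_bot hS (zpowers x)
        (IsPGroup.of_card (n := e) (by rw [Nat.card_zpowers, he]))))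
    · exact scalar_of_fixfree hS hr hrp hx
        fun v => fixfree_of_central hS (hcen ▸ mem_top x) hx1
  obtain ⟨v, hv⟩ := exists_ne (1 : V)
  have h := (hS.irr (zpowers v) (fun α hα w hw => by
    obtain ⟨k, hk⟩ : (⟨α, hα⟩ : Q) ∈ S := hSall ▸ mem_top _
    have e : α w = w ^ k := hk w
    rw [e]
    exact pow_mem hw k)).resolve_left fun h => hv (zpowers_eq_bot.1 h)
  refine ⟨⟨v, fun w => ?_⟩⟩
  have hwv := mem_top w
  rw [← h] at hwv
  exact hwv

end Action

/-- Supersolvable groups have normal complements for their smallest prime. -/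
theorem hasNormalPComplement_of_supersolvable : ∀ (n : ℕ) (X : Type u) [Group X] [Finite X],
    Nat.card X ≤ n → Cfsg.IsSupersolvable X → ∀ (p : ℕ) [Fact p.Prime],
      (∀ r : ℕ, r.Prime → r ∣ Nat.card X → p ≤ r) → Cfsg.HasNormalPComplement p X := by
  intro n
  induction n with
  | zero => intro X _ _ hc; exact absurd hc (Nat.not_le.2 Nat.card_pos)
  | succ n ih =>
    intro X _ _ hc hX p hp hmin
    by_cases hpg : IsPGroup p X
    · exact Fusion.hasNormalPComplement_of_isPGroup hpg
    have hne1 : Nat.card X ≠ 1 := fun h => hpg (IsPGroup.of_card (n := 0) (by rw [h, pow_zero]))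
    obtain ⟨q, hq, hmax⟩ := ((Nat.card X).primeFactors).exists_max_image id
      (Nat.nonempty_primeFactors.2 (lt_of_le_of_ne Nat.card_pos (Ne.symm hne1)))
    rw [Nat.mem_primeFactors] at hq
    haveI := Fact.mk hq.1
    have hqp : q ≠ p := by
      rintro rfl
      refine hpg (IsPGroup.of_card (n := (Nat.card X).factorization q) ?_)
      exact Nat.eq_pow_of_factorization_eq_single (Nat.card_pos).ne' (Finsupp.eq_single_iff.2
        ⟨fun r hr => by
          rw [Nat.support_factorization] at hr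
          have h1 := hmax r hr
          rw [Nat.mem_primeFactors] at hr
          exact Finset.mem_singleton.2 (le_antisymm h1 (hmin r hr.1 hr.2.1)), rfl⟩)
    obtain ⟨P⟩ := Sylow.nonempty (p := q) (G := X)
    haveI := Hall.sylow_normal_supersolvable hX (p := q)
      (fun r hr hrd => hmax r (Nat.mem_primeFactors.2 ⟨hr, hrd, Nat.card_pos.ne'⟩)) P
    have hP1 : (P : Subgroup X) ≠ ⊥ := fun h => P.not_dvd_index (by rw [h, index_bot]; exact hq.2.1)
    refine Fusion.hasNormalPComplement_of_quotient_normal (P : Subgroup X) ?_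
      (ih _ (by have := H30.card_quotient_lt (P : Subgroup X) hP1; omega)
        (H30.isSupersolvable_quotient hX _) p
        (fun r hr hrd => hmin r hr (hrd.trans (card_quotient_dvd_card _))))
    intro hd
    obtain ⟨k, hk⟩ := P.isPGroup'.exists_card_eq
    exact hqp ((Nat.prime_dvd_prime_iff_eq hp.out hq.1).1 (hp.out.dvd_of_dvd_pow (hk ▸ hd))).symm

/-- The main induction. -/
theorem supersolvable_aux : ∀ (n : ℕ) (G : Type u) [Group G] [Finite G], Nat.card G ≤ n →
    Hyp G → Cfsg.IsSupersolvable G := by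
  intro n
  induction n with
  | zero => intro G _ _ hc; exact absurd hc (Nat.not_le.2 Nat.card_pos)
  | succ n ih =>
    intro G _ _ hc hG
    rcases subsingleton_or_nontrivial G with hs | hs
    · exact H30.isSupersolvable_of_subsingleton
    have hsub : ∀ K : Subgroup G, K ≠ ⊤ → Cfsg.IsSupersolvable K := fun K hK => ih K (by
      have h1 : Nat.card K ≠ Nat.card G := fun h => hK (eq_top_of_card_eq K h)
      have := Nat.lt_of_le_of_ne (Nat.le_of_dvd Nat.card_pos (card_subgroup_dvd_card K)) h1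
      omega) (hyp_of_injective hG K.subtype K.subtype_injective)
    obtain ⟨N, -, hNmin⟩ := Finite.exists_le_minimal
      (p := fun N : Subgroup G => N.Normal ∧ N ≠ ⊥) (a := (⊤ : Subgroup G)) ⟨inferInstance, top_ne_bot⟩
    obtain ⟨hNn, hN1⟩ := hNmin.1
    haveI := hNn
    have hmin : ∀ W : Subgroup G, W.Normal → W ≤ N → W = ⊥ ∨ W = N := fun W h1 h2 => by
      by_cases h : W = ⊥
      · exact .inl h
      · exact .inr (le_antisymm h2 (hNmin.2 ⟨h1, h⟩ h2))
    by_cases hNtop : N = ⊤
    · -- no proper nontrivial normal subgroup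
      set p := (Nat.card G).minFac
      have hne : Nat.card G ≠ 1 := Finite.one_lt_card.ne'
      haveI : Fact p.Prime := ⟨Nat.minFac_prime hne⟩
      have hpG : p ∣ Nat.card G := Nat.minFac_dvd _
      suffices h : IsPGroup p G from H30.isSupersolvable_isPGroup h
      by_cases hG' : Cfsg.HasNormalPComplement p G
      · obtain ⟨P, K, hKn, hK⟩ := hG'
        rcases hmin K hKn (hNtop ▸ le_top) with h | h
        · subst h
          have : (P : Subgroup G) = ⊤ := Subgroup.isComplement'_bot_left.1 hK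
          exact (IsPGroup.iff_card.2 (by
            obtain ⟨k, hk⟩ := P.isPGroup'.exists_card_eq
            exact ⟨k, by rw [← hk, this, card_top]⟩))
        · exfalso
          refine Fusion.not_dvd_card_of_isComplement' P hK ?_
          rw [h, hNtop, card_top]; exact hpG
      · obtain ⟨-, -, hP⟩ := S0132.result hG' fun K hK =>
          hasNormalPComplement_of_supersolvable _ K le_rfl (hsub K hK) p (fun r hr hrd =>
            Nat.minFac_le_of_dvd hr.two_le (hrd.trans (card_subgroup_dvd_card K)))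
        obtain ⟨P⟩ := Sylow.nonempty (p := p) (G := G)
        rcases hmin _ (hP P) (hNtop ▸ le_top) with h | h
        · exfalso; exact P.not_dvd_index (by rw [h, index_bot]; exact hpG)
        · obtain ⟨k, hk⟩ := P.isPGroup'.exists_card_eq
          exact IsPGroup.of_card (n := k) (by rw [← hk, h, hNtop, card_top])
    have hQ : Cfsg.IsSupersolvable (G ⧸ N) := ih _ (by
      have := H30.card_quotient_lt N hN1; omega)
      (hyp_of_surjective hG _ (QuotientGroup.mk'_surjective N))
    -- `N` is elementary abelian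
    haveI := H30.isSolvable_of_isSupersolvable (hsub N hNtop)
    haveI : Nontrivial N := (nontrivial_iff_ne_bot N).2 hN1
    have hcomm : ∀ a b : N, a * b = b * a := by
      rcases hmin ((_root_.commutator N).map N.subtype) inferInstance (map_subtype_le _) with h | h
      · rw [map_eq_bot_iff_of_injective _ N.subtype_injective, commutator_eq_bot_iff_center_eq_top] at h
        exact fun a b => (mem_center_iff.1 (h ▸ mem_top b : b ∈ center N) a)
      · exfalso
        have h1 : (_root_.commutator N) = ⊤ := map_injective N.subtype_injective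
          (by rw [h, ← MonoidHom.range_eq_map, range_subtype])
        exact (Group.IsSolvable.commutator_lt_top_of_nontrivial N).ne h1
    obtain ⟨p, hp, hpd⟩ := Nat.exists_prime_and_dvd (Finite.one_lt_card (α := N)).ne'
    haveI := Fact.mk hp
    have hexp : ∀ v : N, v ^ p = 1 := by
      let E : Subgroup G :=
        { carrier := {x | x ∈ N ∧ x ^ p = 1}
          one_mem' := ⟨N.one_mem, one_pow p⟩
          mul_mem' := fun {a b} ha hb => ⟨N.mul_mem ha.1 hb.1, by
            have hc : Commute a b := congrArg Subtype.val (hcomm ⟨a, ha.1⟩ ⟨b, hb.1⟩)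
            rw [hc.mul_pow, ha.2, hb.2, one_mul]⟩
          inv_mem' := fun {a} ha => ⟨N.inv_mem ha.1, by rw [inv_pow, ha.2, inv_one]⟩ }
      haveI hEn : E.Normal := ⟨fun x hx g => ⟨hNn.conj_mem x hx.1 g, by rw [conj_pow, hx.2]; group⟩⟩
      rcases hmin E hEn (fun x hx => hx.1) with h | h
      · exfalso
        obtain ⟨z, hz⟩ := exists_prime_orderOf_dvd_card' p hpd
        have h1 : (z : G) ∈ E := ⟨z.2, by rw [← hz, ← orderOf_coe z, pow_orderOf_eq_one]⟩
        rw [h, mem_bot] at h1
        exact hp.ne_one (by rw [← hz, ← orderOf_coe z, h1, orderOf_one])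
      · intro v
        have h1 : (v : G) ∈ E := h.symm ▸ v.2
        exact Subtype.ext h1.2
    set φ : G →* MulAut N := MulAut.conjNormal with hφ
    have hφN : N ≤ φ.ker := fun g hg => by
      rw [MonoidHom.mem_ker]
      refine MulEquiv.ext fun v => Subtype.ext ?_
      show g * (v : G) * g⁻¹ = v
      rw [show g * (v : G) = v * g from congrArg Subtype.val (hcomm ⟨g, hg⟩ v), mul_inv_cancel_right]
    have hS : Setting p φ.range := by
      refine ⟨hcomm, hexp, ?_, fun W hW => ?_, hyp_of_surjective hG φ.rangeRestrict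
        φ.rangeRestrict_surjective, ?_⟩
      · refine H30.isSupersolvable_of_surjective hQ
          (QuotientGroup.lift N φ.rangeRestrict (by rw [MonoidHom.ker_rangeRestrict]; exact hφN)) ?_
        intro y
        obtain ⟨g, rfl⟩ := φ.rangeRestrict_surjective y
        exact ⟨g, rfl⟩
      · have hWn : (W.map N.subtype).Normal := ⟨by
          rintro _ ⟨w, hw, rfl⟩ g
          exact ⟨φ g w, hW _ ⟨g, rfl⟩ w hw, rfl⟩⟩
        rcases hmin _ hWn (map_subtype_le W) with h | h
        · exact .inl ((map_eq_bot_iff_of_injective W N.subtype_injective).1 h)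
        · exact .inr (map_injective N.subtype_injective
            (by rw [h, ← MonoidHom.range_eq_map, range_subtype]))
      · rintro _ ⟨g₀, rfl⟩ r hr hrp hpow v
        haveI := Fact.mk hr
        obtain ⟨g, -, hg, hge⟩ := H40.exists_isPElem_lift φ (M := ⊤) (y := φ g₀)
          ⟨g₀, trivial, rfl⟩ (isPElem_of_orderOf hpow)
        rw [← hge]
        set w := v * (φ g v)⁻¹ with hw
        by_contra hmem
        have hw1 : w ≠ 1 := fun h => hmem (by rw [h, map_one]; exact one_mem _)
        have hcw : (w : G) = (v : G) * g * (v : G)⁻¹ * g⁻¹ := by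
          show (v : G) * (g * (v : G) * g⁻¹)⁻¹ = _
          group
        set K := zpowers g ⊔ zpowers ((v : G) * g * (v : G)⁻¹) with hK
        have hgK : g ∈ K := mem_sup_left (mem_zpowers g)
        have hwK : (w : G) ∈ K := by
          rw [hcw]; exact mul_mem (mem_sup_right (mem_zpowers _)) (inv_mem hgK)
        have hd := sq_dvd_of_two hp hwK (w := ((φ g w : N) : G))
          (mul_mem (mul_mem hgK hwK) (inv_mem hgK))
          (by rw [orderOf_coe]; exact orderOf_eq_prime (hexp w) hw1)
          (by rw [orderOf_coe]; exact orderOf_eq_prime (hexp _) (fun h => hw1 (by simpa using h)))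
          (congrArg Subtype.val (hcomm w (φ g w)))
          (fun h => hmem (by
            obtain ⟨m, hm⟩ := h
            exact ⟨m, Subtype.ext (by simpa using hm)⟩))
        refine hG r p hr hp hrp g v (orderOf_of_isPElem hg) (orderOf_of_isPElem ⟨1, ?_⟩) hd
        rw [pow_one]
        exact congrArg Subtype.val (hexp v)
    exact H30.isSupersolvable_of_quotient_cyclic N (isCyclic_of_setting hS) hQ

/-- The criterion. -/
theorem supersolvable_of_hyp {G : Type u} [Group G] [Finite G] (h : Hyp G) :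
    Cfsg.IsSupersolvable G :=
  supersolvable_aux _ G le_rfl h

end Cfsg.Agent.H62.SupersolvableTwoGen
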