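/-
A 2-group of exponent 4 on which the symmetric group of degree 3 acts, the elements of order 3 without
fixed points and all `n * τ n` squaring to 1, is elementary abelian.
-/
import Mathlib

set_option autoImplicit false

namespace Cfsg.Agent.H62.SymThreeFpf

open Subgroup
open scoped commutatorElement

variable {N : Type*} [Group N]

theorem comm_mul_left (hcl : commutator N ≤ center N) (a b y : N) : ⁅a * b, y⁆ = ⁅a, y⁆ * ⁅b, y⁆ := by
  have hc : ⁅b, y⁆ ∈ center N := hcl (commutator_mem_commutator (mem_top b) (mem_top y))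
  calc ⁅a * b, y⁆ = a * ⁅b, y⁆ * a⁻¹ * ⁅a, y⁆ := by simp [commutatorElement_def, mul_assoc]
    _ = ⁅b, y⁆ * ⁅a, y⁆ := by rw [mem_center_iff.1 hc a, mul_inv_cancel_right]
    _ = ⁅a, y⁆ * ⁅b, y⁆ := (mem_center_iff.1 hc _).symm

theorem comm_mul_right (hcl : commutator N ≤ center N) (x a b : N) : ⁅x, a * b⁆ = ⁅x, a⁆ * ⁅x, b⁆ := by
  have hc : ⁅x, b⁆ ∈ center N := hcl (commutator_mem_commutator (mem_top x) (mem_top b))
  calc ⁅x, a * b⁆ = ⁅x, a⁆ * (a * ⁅x, b⁆ * a⁻¹) := by simp [commutatorElement_def, mul_assoc]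
    _ = ⁅x, a⁆ * ⁅x, b⁆ := by rw [mem_center_iff.1 hc a, mul_inv_cancel_right]

variable (σ τ : N ≃* N)

theorem sq_eq_one_abelian {M : Type*} [CommGroup M] (f g : M →* M) (hf : ∀ x, f (f (f x)) = x)
    (hrel : ∀ x, g (f x) = f (f (g x))) (hnorm : ∀ x, x * f x * f (f x) = 1)
    (hsq : ∀ x, (x * g x) ^ 2 = 1) (h4 : ∀ x : M, x ^ 4 = 1) (n : M) : n ^ 2 = 1 := by
  have hw : ∀ m : M, g (m ^ 2) = (m ^ 2)⁻¹ := fun m => by
    rw [eq_inv_iff_mul_eq_one, map_pow, ← mul_pow, mul_comm]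
    exact hsq m
  set w := n ^ 2 with hwdef
  have h1 : g (f w) = (f w)⁻¹ := by rw [hwdef, map_pow f]; exact hw (f n)
  rw [hrel, hw, map_inv, map_inv, inv_inj] at h1
  have h2 : f w = w := by
    have := congrArg f h1
    simp only [hf, hwdef, map_pow] at this h1 ⊢
    exact h1.symm.trans this.symm
  have h3 := hnorm w
  rw [h2, h2] at h3
  have h4' := h4 w
  rw [pow_succ, pow_three', h3, one_mul] at h4'
  exact h4'

theorem comm_and_sq (hσ : ∀ x, σ (σ (σ x)) = x) (hτ : ∀ x, τ (τ x) = x) (hrel : ∀ x, τ (σ x) = σ (σ (τ x)))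
    (hnorm : ∀ x, x * σ x * σ (σ x) = 1) (hsq : ∀ n, (n * τ n) ^ 2 = 1) (h4 : ∀ x : N, x ^ 4 = 1)
    (hcl : commutator N ≤ center N) : (∀ x y : N, x * y = y * x) ∧ ∀ x : N, x ^ 2 = 1 := by
  have hker : ∀ x : N, Abelianization.of x = 1 ↔ x ∈ commutator N := fun x =>
    QuotientGroup.eq_one_iff x
  -- squares lie in the derived group
  have hab : ∀ m : Abelianization N, m ^ 2 = 1 := by
    refine sq_eq_one_abelian (Abelianization.map σ.toMonoidHom) (Abelianization.map τ.toMonoidHom)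
      ?_ ?_ ?_ ?_ ?_
    all_goals intro m; obtain ⟨x, rfl⟩ := QuotientGroup.mk_surjective m
    · exact congrArg Abelianization.of (hσ x)
    · exact congrArg Abelianization.of (hrel x)
    · exact (congrArg Abelianization.of (hnorm x)).trans (map_one _)
    · exact (congrArg Abelianization.of (hsq x)).trans (map_one _)
    · exact (congrArg Abelianization.of (h4 x)).trans (map_one _)
  have hsqD : ∀ x : N, x * x ∈ commutator N := fun x => by
    rw [← hker, map_mul, ← sq]; exact hab _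
  have hcc : ∀ c ∈ commutator N, ∀ x : N, c * x = x * c := fun c hc x => (mem_center_iff.1 (hcl hc) x).symm
  -- commutators square to one
  have hcom2 : ∀ x y : N, ⁅x, y⁆ * ⁅x, y⁆ = 1 := fun x y => by
    rw [← comm_mul_left hcl, commutatorElement_eq_one_iff_mul_comm]
    exact hcc _ (hsqD x) y
  have hD2 : ∀ c ∈ commutator N, c * c = 1 := by
    intro c hc
    rw [commutator_eq_closure] at hc
    have key : c * c = 1 ∧ c ∈ center N := by
      induction hc using closure_induction with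
      | mem x hx =>
        obtain ⟨a, b, rfl⟩ := hx
        exact ⟨hcom2 a b, hcl (commutator_mem_commutator (mem_top a) (mem_top b))⟩
      | one => exact ⟨one_mul _, one_mem _⟩
      | mul x y _ _ hx hy =>
        refine ⟨?_, mul_mem hx.2 hy.2⟩
        rw [show x * y * (x * y) = x * (y * x) * y by group, mem_center_iff.1 hx.2 y,
          show x * (x * y) * y = (x * x) * (y * y) by group, hx.1, hy.1, mul_one]
      | inv x _ hx => exact ⟨by rw [← mul_inv_rev, hx.1, inv_one], inv_mem hx.2⟩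
    exact key.1
  have hσD : ∀ c ∈ commutator N, σ c ∈ commutator N := fun c hc => by
    rw [← hker] at hc ⊢
    exact (Abelianization.map_of (f := σ.toMonoidHom) c).symm.trans (by rw [hc, map_one])
  -- the fixed points modulo the derived group
  set A : Set N := {x | ∃ c ∈ commutator N, τ x = x * c} with hA
  have hA2 : ∀ x ∈ A, x * x = 1 := by
    rintro x ⟨c, hc, hx⟩
    have h1 := hsq (σ x)
    rw [hrel, hx, map_mul, map_mul, ← mul_assoc] at h1
    have h2 : σ x * σ (σ x) = x⁻¹ := eq_inv_of_mul_eq_one_right (by rw [← mul_assoc]; exact hnorm x)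
    have hc' := hσD _ (hσD c hc)
    rw [h2, sq, show x⁻¹ * σ (σ c) * (x⁻¹ * σ (σ c)) = x⁻¹ * (σ (σ c) * x⁻¹) * σ (σ c) by group,
      hcc _ hc', show x⁻¹ * (x⁻¹ * σ (σ c)) * σ (σ c) = (x * x)⁻¹ * (σ (σ c) * σ (σ c)) by group,
      hD2 _ hc', mul_one, inv_eq_one] at h1
    exact h1
  have hAmul : ∀ x ∈ A, ∀ y ∈ A, x * y ∈ A := by
    rintro x ⟨c, hc, hx⟩ y ⟨d, hd, hy⟩
    refine ⟨c * d, mul_mem hc hd, ?_⟩
    rw [map_mul, hx, hy, mul_assoc, ← mul_assoc c y d, hcc c hc y, mul_assoc y c d, ← mul_assoc]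
  have hAcomm : ∀ x ∈ A, ∀ y ∈ A, x * y = y * x := fun x hx y hy => by
    calc x * y = x * ((x * y) * (x * y)) * y := by rw [hA2 _ (hAmul x hx y hy), mul_one]
      _ = (x * x) * (y * x) * (y * y) := by group
      _ = y * x := by rw [hA2 x hx, hA2 y hy, one_mul, mul_one]
  have hτσ : ∀ x, τ (σ (σ x)) = σ (τ x) := fun x => by rw [hrel, hrel, hσ]
  have hofA : ∀ x : N, Abelianization.of (τ x) = Abelianization.of x → x ∈ A := fun x hx =>
    ⟨x⁻¹ * τ x, by rw [← hker, map_mul, map_inv, hx, inv_mul_cancel], (mul_inv_cancel_left x _).symm⟩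
  have hpA : ∀ x, x * τ x ∈ A := fun x => hofA _ (by rw [map_mul, map_mul, map_mul, hτ, mul_comm])
  have hdec : ∀ v : N, ∃ a ∈ A, ∃ b ∈ A, ∃ d ∈ commutator N, v = a * σ b * d := by
    intro v
    set a := v * τ v * (σ v * τ (σ v)) with ha
    set b := v * τ v with hb
    refine ⟨a, hAmul _ (hpA v) _ (hpA (σ v)), b, hpA v, (a * σ b)⁻¹ * v, ?_, (mul_inv_cancel_left _ _).symm⟩
    rw [← hker, map_mul, map_inv, inv_mul_eq_one]
    have h1 : Abelianization.of (τ v) * Abelianization.of (σ (τ v)) * Abelianization.of (σ (σ (τ v))) = 1 := by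
      rw [← map_mul, ← map_mul, hnorm, map_one]
    have h2 := hab (Abelianization.of (σ v))
    rw [ha, hb, hrel]
    simp only [map_mul]
    calc _ = Abelianization.of v * (Abelianization.of (τ v) * Abelianization.of (σ (τ v)) *
          Abelianization.of (σ (σ (τ v)))) * (Abelianization.of (σ v) ^ 2) := by rw [sq]; ac_rfl
      _ = _ := by rw [h1, h2, mul_one, mul_one]
  -- basic commutators are fixed by `τ`
  have hfix : ∀ a ∈ A, ∀ b ∈ A, τ ⁅a, σ b⁆ = ⁅a, σ b⁆ := by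
    intro a ha b hb
    obtain ⟨c, hc, hca⟩ := ha
    obtain ⟨d, hd, hdb⟩ := hb
    have hab1 : ⁅a, b⁆ = 1 :=
      commutatorElement_eq_one_iff_mul_comm.2 (hAcomm a ⟨c, hc, hca⟩ b ⟨d, hd, hdb⟩)
    have h1 : σ (σ b) = (b * σ b)⁻¹ := eq_inv_of_mul_eq_one_right (hnorm b)
    have hzero : ∀ (x z : N), z ∈ commutator N → ⁅x, z⁆ = 1 ∧ ⁅z, x⁆ = 1 := fun x z hz =>
      ⟨commutatorElement_eq_one_iff_mul_comm.2 (hcc z hz x).symm,
        commutatorElement_eq_one_iff_mul_comm.2 (hcc z hz x)⟩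
    rw [map_commutatorElement, hca, hrel, hdb, map_mul, map_mul, comm_mul_left hcl,
      (hzero _ c hc).2, mul_one, comm_mul_right hcl, (hzero _ _ (hσD _ (hσD d hd))).1, mul_one, h1]
    have h2 : ⁅a, (b * σ b)⁻¹⁆ * ⁅a, b * σ b⁆ = 1 := by
      rw [← comm_mul_right hcl, inv_mul_cancel, commutatorElement_one_right]
    rw [comm_mul_right hcl, hab1, one_mul] at h2
    exact mul_right_cancel (h2.trans (hcom2 a (σ b)).symm)
  have hinv2 : ∀ x y : N, ⁅y, x⁆ = ⁅x, y⁆ := fun x y => by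
    rw [← commutatorElement_inv]; exact inv_eq_of_mul_eq_one_right (hcom2 x y)
  have hfixall : ∀ x y : N, τ ⁅x, y⁆ = ⁅x, y⁆ := by
    intro x y
    obtain ⟨a, ha, b, hb, d, hd, rfl⟩ := hdec x
    obtain ⟨a', ha', b', hb', d', hd', rfl⟩ := hdec y
    have hz : ∀ (x z : N), z ∈ commutator N → ⁅x, z⁆ = 1 ∧ ⁅z, x⁆ = 1 := fun x z hz =>
      ⟨commutatorElement_eq_one_iff_mul_comm.2 (hcc z hz x).symm,
        commutatorElement_eq_one_iff_mul_comm.2 (hcc z hz x)⟩
    have haa : ⁅a, a'⁆ = 1 := commutatorElement_eq_one_iff_mul_comm.2 (hAcomm a ha a' ha')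
    have hbb : ⁅σ b, σ b'⁆ = 1 := by
      rw [← map_commutatorElement, commutatorElement_eq_one_iff_mul_comm.2 (hAcomm b hb b' hb'), map_one]
    simp only [comm_mul_left hcl, comm_mul_right hcl, (hz _ d hd).2, (hz _ d' hd').1, haa, hbb,
      mul_one, one_mul]
    rw [hinv2 a' (σ b), map_mul, hfix a ha b' hb', hfix a' ha' b hb]
  have hzero : ∀ x y : N, ⁅x, y⁆ = 1 := by
    intro x y
    have h1 : τ (σ ⁅x, y⁆) = σ ⁅x, y⁆ := by rw [map_commutatorElement σ x y]; exact hfixall _ _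
    rw [hrel, hfixall] at h1
    have h2 : σ ⁅x, y⁆ = ⁅x, y⁆ := σ.injective h1
    have h3 := hnorm ⁅x, y⁆
    rw [h2, h2, hcom2, one_mul] at h3
    exact h3
  refine ⟨fun x y => commutatorElement_eq_one_iff_mul_comm.1 (hzero x y), fun x => ?_⟩
  have hD : commutator N = ⊥ := by
    rw [commutator_eq_closure, closure_eq_bot_iff]
    rintro c ⟨a, b, rfl⟩
    exact hzero a b
  have := hsqD x
  rwa [hD, mem_bot, ← sq] at this

end Cfsg.Agent.H62.SymThreeFpf
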