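/-
The normal subgroup generated by commutators and `(p-1)`-th powers, and supersolvable embedding of a normal `p`-subgroup.
-/
import Cfsg.Agent.H62.HSubgroups
import Cfsg.Agent.Coprime.Centralize
import Cfsg.Agent.PGroups.Basic
import Cfsg.Agent.H30.Supersolvable

set_option autoImplicit false
open scoped commutatorElement

namespace Cfsg.Agent.H62

universe u

/-- Generated by all commutators and all `(p-1)`-th powers. -/
def tameSub (p : ℕ) (G : Type*) [Group G] : Subgroup G :=
  Subgroup.normalClosure ({g : G | ∃ a b : G, g = ⁅a, b⁆} ∪ {g : G | ∃ a : G, g = a ^ (p - 1)})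

/-- The `p'`-elements of `tameSub p G` centralize `N`. -/
def TameCentralizes (p : ℕ) {G : Type*} [Group G] (N : Subgroup G) : Prop :=
  ∀ h ∈ tameSub p G, (orderOf h).Coprime p → ∀ x ∈ N, h * x * h⁻¹ = x

variable {G : Type*} [Group G] [Finite G] {p : ℕ} [Fact p.Prime]

instance tameSub_normal {H : Type*} [Group H] (q : ℕ) : (tameSub q H).Normal := Subgroup.normalClosure_normal

theorem tameSub_map_le {H : Type*} [Group H] (f : G →* H) :
    (tameSub p G).map f ≤ tameSub p H := by
  rw [Subgroup.map_le_iff_le_comap]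
  refine Subgroup.normalClosure_le_normal ?_
  rintro g (⟨a, b, rfl⟩ | ⟨a, rfl⟩)
  · exact Subgroup.subset_normalClosure (Or.inl ⟨f a, f b, map_commutatorElement f a b⟩)
  · exact Subgroup.subset_normalClosure (Or.inr ⟨f a, map_pow f a _⟩)

theorem le_map_tameSub {H : Type*} [Group H] {f : G →* H} (hf : Function.Surjective f) :
    tameSub p H ≤ (tameSub p G).map f := by
  have : ((tameSub p G).map f).Normal :=
    Subgroup.Normal.map (by unfold tameSub; infer_instance) f hf
  refine Subgroup.normalClosure_le_normal ?_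
  rintro g (⟨a, b, rfl⟩ | ⟨a, rfl⟩)
  · obtain ⟨a, rfl⟩ := hf a
    obtain ⟨b, rfl⟩ := hf b
    exact ⟨⁅a, b⁆, Subgroup.subset_normalClosure (Or.inl ⟨a, b, rfl⟩), map_commutatorElement f a b⟩
  · obtain ⟨a, rfl⟩ := hf a
    exact ⟨a ^ (p - 1), Subgroup.subset_normalClosure (Or.inr ⟨a, rfl⟩), map_pow f a _⟩

theorem tame_cyclic (X : Subgroup G) [X.Normal] [IsCyclic X] {k : ℕ} (hX : Nat.card X = p ^ k) {h : G}
    (hh : h ∈ tameSub p G) (hc : (orderOf h).Coprime p) {x : G} (hx : x ∈ X) : h * x * h⁻¹ = x := by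
  have hp := (Fact.out : p.Prime)
  let θ : G →* MulAut X := MulAut.conjNormal
  have hcomm : ∀ a b : MulAut X, a * b = b * a := fun a b => by
    apply (IsCyclic.mulAutMulEquiv X).injective
    rw [map_mul, map_mul, mul_comm]
  let S : Subgroup G :=
    { carrier := {g | θ g ^ (p ^ k) = 1}
      one_mem' := by simp
      mul_mem' := fun {a b} ha hb => by
        simp only [Set.mem_setOf_eq] at *
        rw [map_mul, Commute.mul_pow (hcomm (θ a) (θ b)), ha, hb, one_mul]
      inv_mem' := fun {a} ha => by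
        simp only [Set.mem_setOf_eq] at *
        rw [map_inv, inv_pow, ha, inv_one] }
  have : S.Normal := ⟨fun s hs g => by
    show θ (g * s * g⁻¹) ^ (p ^ k) = 1
    have : θ (g * s * g⁻¹) = θ s := by rw [map_mul, map_mul, map_inv, hcomm (θ g), mul_inv_cancel_right]
    rw [this]; exact hs⟩
  have hle : tameSub p G ≤ S := by
    refine Subgroup.normalClosure_le_normal ?_
    rintro g (⟨a, b, rfl⟩ | ⟨a, rfl⟩)
    · show θ ⁅a, b⁆ ^ (p ^ k) = 1
      rw [map_commutatorElement, commutatorElement_eq_one_iff_mul_comm.mpr (hcomm _ _), one_pow]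
    · show θ (a ^ (p - 1)) ^ (p ^ k) = 1
      rw [map_pow, ← pow_mul]
      refine orderOf_dvd_iff_pow_eq_one.mp (dvd_trans (orderOf_dvd_natCard _) ?_)
      rw [IsCyclic.card_mulAut, hX]
      rcases Nat.eq_zero_or_pos k with rfl | hk
      · simp
      · rw [Nat.totient_prime_pow hp hk, mul_comm (p - 1)]
        exact Nat.mul_dvd_mul_right (pow_dvd_pow p (Nat.sub_le k 1)) _
  have h1 : θ h ^ (p ^ k) = 1 := hle hh
  have h2 : θ h ^ orderOf h = 1 := by rw [← map_pow, pow_orderOf_eq_one, map_one]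
  have h3 := Nat.dvd_gcd (orderOf_dvd_of_pow_eq_one h2) (orderOf_dvd_of_pow_eq_one h1)
  rw [(hc.pow_right k).gcd_eq_one, Nat.dvd_one] at h3
  have h4 := congrArg (fun a : MulAut X => ((a ⟨x, hx⟩ : X) : G)) (orderOf_eq_one_iff.mp h3)
  exact h4

theorem tame_section {A B : Subgroup G} [A.Normal] [B.Normal] (hidx : B.relIndex A ∣ p)
    {h : G} (hh : h ∈ tameSub p G) (hc : (orderOf h).Coprime p) {x : G} (hx : x ∈ A) :
    h * x * h⁻¹ * x⁻¹ ∈ B := by
  have hp := (Fact.out : p.Prime)
  let π := QuotientGroup.mk' B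
  have hXn : (A.map π).Normal := Subgroup.Normal.map inferInstance _ (QuotientGroup.mk'_surjective B)
  have hcard : Nat.card (A.map π) = B.relIndex A := by
    rw [← Subgroup.relIndex_ker, QuotientGroup.ker_mk']
  obtain ⟨j, hj, hj'⟩ := (Nat.dvd_prime_pow hp).mp (show B.relIndex A ∣ p ^ 1 by rwa [pow_one])
  rw [hj'] at hcard
  have : IsCyclic (A.map π) := by
    interval_cases j
    · have : Subsingleton (A.map π) := (Nat.card_eq_one_iff_unique.mp (by simpa using hcard)).1
      exact isCyclic_of_subsingleton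
    · exact isCyclic_of_prime_card (p := p) (by simpa using hcard)
  have key := tame_cyclic (A.map π) hcard (tameSub_map_le π ⟨h, hh, rfl⟩)
    (hc.coprime_dvd_left (orderOf_map_dvd π h)) ⟨x, hx, rfl⟩
  rw [← map_inv, ← map_mul, ← map_mul] at key
  have h2 : π (h * x * h⁻¹ * x⁻¹) = 1 := by rw [map_mul, map_inv π x, key, mul_inv_cancel]
  exact (QuotientGroup.eq_one_iff _).mp h2

theorem tameCentralizes_of_cyclic (N : Subgroup G) [N.Normal] (hN : IsPGroup p N) [IsCyclic N] :
    TameCentralizes p N := by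
  obtain ⟨k, hk⟩ := IsPGroup.iff_card.mp hN
  exact fun h hh hc x hx => tame_cyclic N hk hh hc hx

section Hyp

variable {N : Subgroup G} [N.Normal] {k : ℕ}

theorem tame_comm_mem (hN : IsPGroup p N) (hk : p ^ k < Nat.card N)
    (hE : ∀ E : Subgroup G, E ≤ N → Nat.card E = p ^ k → E.Normal)
    {h : G} (hh : h ∈ tameSub p G) (hc : (orderOf h).Coprime p)
    {x : G} (hxN : x ∈ N) (hxk : x ^ (p ^ k) = 1) {E : Subgroup G} (hEN : E ≤ N) (hEc : Nat.card E = p ^ k) :
    h * x * h⁻¹ * x⁻¹ ∈ E := by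
  have hp := (Fact.out : p.Prime)
  obtain ⟨F, hFN, hxF, hF⟩ := exists_le_card hN hk.le hxN hxk
  induction hm : p ^ k - Nat.card ↥(E ⊓ F) using Nat.strong_induction_on generalizing E with
  | _ m ih =>
  have := hE E hEN hEc
  have := hE F hFN hF
  obtain ⟨i, hik, hi⟩ := (Nat.dvd_prime_pow hp).mp (hEc ▸ Subgroup.card_dvd_of_le (inf_le_left : E ⊓ F ≤ E))
  rcases eq_or_lt_of_le hik with rfl | hik
  · have e1 : E ⊓ F = E := Subgroup.eq_of_le_of_card_ge inf_le_left (by rw [hi, hEc])
    have e2 : E ⊓ F = F := Subgroup.eq_of_le_of_card_ge inf_le_right (by rw [hi, hF])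
    have : E = F := e1.symm.trans e2
    subst this
    exact E.mul_mem ((inferInstance : E.Normal).conj_mem x hxF h) (E.inv_mem hxF)
  obtain ⟨R, hR1, hR2, hR⟩ := exists_between (p := p) (inf_le_right : E ⊓ F ≤ F) (m := i + 1) hi hF (by omega) (by omega)
  have hER : E ⊓ R = E ⊓ F := le_antisymm (inf_le_inf_left E hR2) (le_inf inf_le_left hR1)
  have hcardT : Nat.card ↥(E ⊔ R) = p ^ (k + 1) := by
    have h := card_prod_mul_card_inf E R
    rw [← Subgroup.normal_mul E R, hER, hi, hEc, hR,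
      ← pow_add, show k + (i + 1) = (k + 1) + i by omega, pow_add p (k + 1)] at h
    exact Nat.eq_of_mul_eq_mul_right (Nat.pow_pos hp.pos) h
  obtain ⟨F', hF'1, hF'2, hF'⟩ := exists_between (p := p) (le_sup_right : R ≤ E ⊔ R) (m := k) hR hcardT (by omega) (by omega)
  have hF'N : F' ≤ N := hF'2.trans (sup_le hEN (hR2.trans hFN))
  have := hE F' hF'N hF'
  have hlt : p ^ k - Nat.card ↥(F' ⊓ F) < m := by
    have h1 : p ^ (i + 1) ≤ Nat.card ↥(F' ⊓ F) := hR ▸ Subgroup.card_le_of_le (le_inf hF'1 hR2)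
    have h2 : p ^ i < p ^ (i + 1) := Nat.pow_lt_pow_right hp.one_lt (by omega)
    have h3 : p ^ i < p ^ k := Nat.pow_lt_pow_right hp.one_lt hik
    omega
  have hcF' := ih _ hlt hF'N hF' rfl
  have hne : ¬ F' ≤ E := fun hle => by
    have := Subgroup.card_le_of_le (le_inf (hF'1.trans hle) hR2 : R ≤ E ⊓ F)
    rw [hR, hi] at this
    have := Nat.pow_lt_pow_right hp.one_lt (show i < i + 1 by omega)
    omega
  have hadj : E.relIndex F' ∣ p := by
    have h1 : E ⊔ F' ≤ E ⊔ R := sup_le le_sup_left hF'2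
    have h2 := Subgroup.relIndex_dvd_of_le_left (E ⊔ R) (le_refl E)
    have h3 : E.relIndex F' = E.relIndex (F' ⊔ E) := (Subgroup.relIndex_sup_right F' E).symm
    have h4 : E.relIndex (E ⊔ R) = p := by
      have h5 := Subgroup.relIndex_mul_relIndex ⊥ E (E ⊔ R) bot_le le_sup_left
      rw [Subgroup.relIndex_bot_left, Subgroup.relIndex_bot_left, hEc, hcardT, pow_succ] at h5
      exact Nat.eq_of_mul_eq_mul_left (Nat.pow_pos hp.pos) h5
    rw [h3, sup_comm]
    have h6 := Subgroup.relIndex_mul_relIndex E (E ⊔ F') (E ⊔ R) le_sup_left h1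
    rw [h4] at h6
    exact Dvd.intro _ h6
  have : (E.subgroupOf N).Normal := (inferInstance : E.Normal).subgroupOf N
  let a : MulAut N := MulAut.conjNormal h
  let f : N →* ↥N ⧸ E.subgroupOf N := QuotientGroup.mk' _
  have hfix : ∀ z : N, (z : G) ∈ F' → ((a z : N) : G) ∈ F' ∧ f (a z) = f z := by
    intro z hz
    refine ⟨(inferInstance : F'.Normal).conj_mem _ hz h, ?_⟩
    exact mk_eq_mk_of_mul_inv_mem (tame_section hadj hh hc hz)
  have hcN : h * x * h⁻¹ * x⁻¹ ∈ N := N.mul_mem ((inferInstance : N.Normal).conj_mem x hxN h) (N.inv_mem hxN)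
  have hpush := push_eq_one (hN.to_quotient (E.subgroupOf N)) hc a
    (by rw [← map_pow, pow_orderOf_eq_one, map_one]) f
    (u := ⟨x, hxN⟩) (c := ⟨_, hcN⟩) (Subtype.ext (by simp [a, MulAut.conjNormal_apply])) ?_
  · exact (QuotientGroup.eq_one_iff (⟨_, hcN⟩ : N)).mp hpush
  · intro j
    have key : (((a ^ j) ⟨_, hcN⟩ : N) : G) ∈ F' ∧ f ((a ^ j) ⟨_, hcN⟩) = f ⟨_, hcN⟩ := by
      induction j with
      | zero => exact ⟨hcF', rfl⟩
      | succ j ihj =>
        rw [pow_succ', MulAut.mul_apply]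
        exact ⟨(hfix _ ihj.1).1, (hfix _ ihj.1).2.trans ihj.2⟩
    exact key.2

theorem tameCentralizes_of_hyp (hN : IsPGroup p N) (hk0 : 1 ≤ k) (hk : p ^ k < Nat.card N)
    (hE : ∀ E : Subgroup G, E ≤ N → (Nat.card E = p ^ k ∨ (p ^ k = 2 ∧ Nat.card E = 4)) → E.Normal) :
    TameCentralizes p N := by
  have hp := (Fact.out : p.Prime)
  obtain ⟨n, hn⟩ := IsPGroup.iff_card.mp hN
  have hkn : k < n := (Nat.pow_lt_pow_iff_right hp.one_lt).mp (hn ▸ hk)
  have hE' : ∀ E : Subgroup G, E ≤ N → Nat.card E = p ^ k → E.Normal := fun E h1 h2 => hE E h1 (Or.inl h2)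
  intro h hh hc
  by_cases hall : ∀ x ∈ N, x ^ (p ^ k) = 1
  · have hcen : Subgroup.zpowers h ≤ Subgroup.centralizer (N : Set G) := by
      have hpk : ∃ j, Nat.card (frattini N) = p ^ j := IsPGroup.iff_card.mp (hN.to_subgroup _)
      obtain ⟨j, hj⟩ := hpk
      refine Coprime.le_centralizer_of_frattini (fun y _ => (Subgroup.normalizer_eq_top_iff.mpr ‹N.Normal›).symm ▸ Subgroup.mem_top y) ?_ ?_
      · rw [Nat.card_zpowers, hj]
        exact hc.pow_right j
      · intro a ha x hx
        have haW : a ∈ tameSub p G := (Subgroup.zpowers_le.mpr hh) ha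
        have hac : (orderOf a).Coprime p := hc.coprime_dvd_left (orderOf_dvd_of_mem_zpowers ha)
        have haN : a * x * a⁻¹ * x⁻¹ ∈ N := N.mul_mem ((inferInstance : N.Normal).conj_mem x hx a) (N.inv_mem hx)
        refine ⟨⟨_, haN⟩, ?_, rfl⟩
        simp only [frattini, Order.radical, SetLike.mem_coe, Subgroup.mem_iInf, Set.mem_setOf_eq]
        intro M hM
        obtain ⟨E, -, hEM, hEc⟩ := exists_between (p := p) (bot_le : (⊥ : Subgroup G) ≤ M.map N.subtype)
          (i := 0) (m := k) (l := n - 1) (by simp) (by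
            rw [Subgroup.card_map_of_injective N.subtype_injective]
            have h1 := Subgroup.card_mul_index M
            rw [PGroups.index_eq_of_isCoatom hN hM, hn, show n = (n - 1) + 1 by omega, pow_succ] at h1
            exact Nat.eq_of_mul_eq_mul_right hp.pos h1) (Nat.zero_le _) (by omega)
        obtain ⟨y, hy, hyv⟩ := hEM (tame_comm_mem hN hk hE' haW hac hx (hall x hx) (hEM.trans (Subgroup.map_subtype_le M)) hEc)
        exact (Subtype.ext hyv : y = ⟨_, haN⟩) ▸ hy
    intro x hx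
    rw [← Subgroup.mem_centralizer_iff.mp (hcen (Subgroup.mem_zpowers h)) x hx, mul_inv_cancel_right]
  · simp only [not_forall] at hall
    obtain ⟨x₀, hx₀, hbig⟩ := hall
    obtain ⟨j₀, hj₀⟩ := hN ⟨x₀, hx₀⟩
    obtain ⟨l, hl, hxl⟩ := (Nat.dvd_prime_pow hp).mp (orderOf_dvd_of_pow_eq_one (congrArg Subtype.val hj₀ : x₀ ^ (p ^ j₀) = 1))
    have hkl : k < l := by
      by_contra hle
      exact hbig (orderOf_dvd_iff_pow_eq_one.mp (hxl ▸ pow_dvd_pow p (not_lt.mp hle)))
    set E₀ := Subgroup.zpowers (x₀ ^ (p ^ (l - k))) with hE₀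
    have hE₀N : E₀ ≤ N := Subgroup.zpowers_le.mpr (N.pow_mem hx₀ _)
    have hE₀c : Nat.card E₀ = p ^ k := by
      rw [hE₀, Nat.card_zpowers, orderOf_pow' _ (pow_ne_zero _ hp.ne_zero), hxl,
        Nat.gcd_eq_right (pow_dvd_pow p (Nat.sub_le l k)), Nat.pow_div (Nat.sub_le l k) hp.pos]
      congr 1
      omega
    have := hE' E₀ hE₀N hE₀c
    let a : MulAut N := MulAut.conjNormal h
    have han : a ^ orderOf h = 1 := by rw [← map_pow, pow_orderOf_eq_one, map_one]
    have hsmall : ∀ x : N, (x : G) ^ (p ^ k) = 1 → a x = x := by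
      intro x hx
      set c : N := a x * x⁻¹ with hcdef
      have hcE : (c : G) ∈ E₀ := tame_comm_mem hN hk hE' hh hc x.2 hx hE₀N hE₀c
      have hcfix : a c = c := Subtype.ext (tame_cyclic E₀ hE₀c hh hc hcE)
      have h1 := push_eq_one hN hc a han (MonoidHom.id N) (u := x) (c := c) (by rw [hcdef]; group) fun m => by
        induction m with
        | zero => rfl
        | succ m ihm => rw [pow_succ, MulAut.mul_apply, hcfix]; exact ihm
      exact mul_inv_eq_one.mp (show c = 1 from h1)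
    have ha1 : a = 1 := by
      refine fix_all hN a hc han (fun x hx => hsmall x ?_) (fun hp2 x hx => ?_)
      · have h1 : (x : G) ^ p = 1 := congrArg Subtype.val hx
        rw [show p ^ k = p * p ^ (k - 1) by rw [← pow_succ']; congr 1; omega, pow_mul, h1, one_pow]
      · subst hp2
        have h1 : (x : G) ^ 4 = 1 := congrArg Subtype.val hx
        rcases eq_or_lt_of_le hk0 with rfl | hk2
        · by_cases hx2 : (x : G) ^ 2 = 1
          · exact hsmall x (by rwa [pow_one])
          have hord : orderOf (x : G) = 4 := orderOf_eq_prime_pow (p := 2) (n := 1) hx2 h1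
          have hXN : Subgroup.zpowers (x : G) ≤ N := Subgroup.zpowers_le.mpr x.2
          have hXc : Nat.card (Subgroup.zpowers (x : G)) = 2 ^ 2 := by rw [Nat.card_zpowers, hord]; norm_num
          have := hE _ hXN (Or.inr ⟨by norm_num, by rw [hXc]; norm_num⟩)
          exact Subtype.ext (tame_cyclic (Subgroup.zpowers (x : G)) hXc hh hc (Subgroup.mem_zpowers _))
        · refine hsmall x ?_
          rw [show 2 ^ k = 4 * 2 ^ (k - 2) by rw [show (4:ℕ) = 2 ^ 2 by norm_num, ← pow_add]; congr 1; omega, pow_mul, h1, one_pow]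
    intro x hx
    have := congrArg (fun b : MulAut N => ((b ⟨x, hx⟩ : N) : G)) ha1
    exact this

end Hyp

theorem exists_ppow_prime_part {x : G} : ∃ a : ℕ, (orderOf (x ^ (p ^ a))).Coprime p := by
  refine ⟨(orderOf x).factorization p, ?_⟩
  rw [orderOf_pow' _ (pow_ne_zero _ (Fact.out : p.Prime).ne_zero), Nat.gcd_eq_right (Nat.ordProj_dvd _ _)]
  exact (Nat.coprime_ordCompl (Fact.out : p.Prime) (orderOf_pos x).ne').symm

theorem tameCentralizes_quotient {N : Subgroup G} (hW : TameCentralizes p N) (X : Subgroup G) [X.Normal] :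
    TameCentralizes p (N.map (QuotientGroup.mk' X)) := by
  rintro _ hh hc _ ⟨x, hx, rfl⟩
  obtain ⟨h, hh', rfl⟩ := le_map_tameSub (QuotientGroup.mk'_surjective X) hh
  obtain ⟨a, ha⟩ := exists_ppow_prime_part (p := p) (x := h)
  obtain ⟨m, hm⟩ := exists_pow_eq_self_of_coprime (x := QuotientGroup.mk' X h) (n := p ^ a) (hc.symm.pow_left a)
  have h1 : (h ^ (p ^ a)) ^ m ∈ tameSub p G := (tameSub p G).pow_mem ((tameSub p G).pow_mem hh' _) _
  have h2 := hW _ h1 (ha.coprime_dvd_left (orderOf_pow_dvd m)) x hx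
  rw [← hm, ← map_pow, ← map_pow, ← map_inv, ← map_mul, ← map_mul, h2]

/-- An automorphism of order dividing `p - 1` of an elementary abelian `p`-group has an eigenvector. -/
theorem exists_eigen_aux {V : Type*} [AddCommGroup V] [Module (ZMod p) V] (A : Module.End (ZMod p) V)
    (hA : A ^ (p - 1) = 1) {v : V} (hv : v ≠ 0) : ∃ c : ℕ, ∃ w : V, w ≠ 0 ∧ A w = c • w := by
  have hp := (Fact.out : p.Prime)
  let e : (ZMod p)ˣ → V := fun i => ∑ j ∈ Finset.range (p - 1), ((((i⁻¹ : (ZMod p)ˣ) : ZMod p)) ^ j) • (A ^ j) v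
  have he : ∀ i, A (e i) = (i : ZMod p) • e i := by
    intro i
    set f : ℕ → V := fun j => ((((i⁻¹ : (ZMod p)ˣ) : ZMod p)) ^ j) • (A ^ j) v with hf
    have hper : f (p - 1) = f 0 := by
      simp only [hf, hA, pow_zero, one_smul]
      rw [← Units.val_pow_eq_pow_val, ZMod.units_pow_card_sub_one_eq_one, Units.val_one, one_smul]
    have hshift : ∑ j ∈ Finset.range (p - 1), f (j + 1) = ∑ j ∈ Finset.range (p - 1), f j := by
      have h1 := Finset.sum_range_succ f (p - 1)
      rw [Finset.sum_range_succ' f (p - 1), hper] at h1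
      exact add_right_cancel h1
    show A (∑ j ∈ Finset.range (p - 1), f j) = (i : ZMod p) • ∑ j ∈ Finset.range (p - 1), f j
    conv_rhs => rw [← hshift]
    rw [map_sum, Finset.smul_sum]
    refine Finset.sum_congr rfl fun j _ => ?_
    simp only [hf, map_smul, smul_smul]
    rw [← Module.End.mul_apply, ← pow_succ']
    congr 1
    rw [pow_succ', ← mul_assoc, ← Units.val_mul, mul_inv_cancel, Units.val_one, one_mul]
  obtain ⟨i, hi⟩ : ∃ i, e i ≠ 0 := by
    by_contra hcon
    simp only [not_exists, not_not] at hcon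
    have hsum : ∑ i, e i = -v := by
      simp only [e]
      rw [Finset.sum_comm, Finset.sum_eq_single 0]
      · simp only [pow_zero, one_smul, Module.End.one_apply, Finset.sum_const, Finset.card_univ,
          ZMod.card_units p]
        rw [← Nat.cast_smul_eq_nsmul (ZMod p), Nat.cast_sub hp.one_le, ZMod.natCast_self, Nat.cast_one, zero_sub,
          neg_one_smul]
      · intro j hj hj0
        rw [← Finset.sum_smul]
        have h1 : ∑ x : (ZMod p)ˣ, (((x⁻¹ : (ZMod p)ˣ) : ZMod p) ^ j) = ∑ x : (ZMod p)ˣ, ((x : ZMod p) ^ j) :=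
          Equiv.sum_comp (Equiv.inv (ZMod p)ˣ) (fun x => (x : ZMod p) ^ j)
        rw [h1, FiniteField.sum_pow_units, if_neg, zero_smul]
        rw [ZMod.card]
        exact fun hd => hj0 (Nat.eq_zero_of_dvd_of_lt hd (Finset.mem_range.mp hj))
      · intro h0
        simp only [Finset.mem_range, not_lt, Nat.le_zero] at h0
        exact absurd h0 (Nat.sub_ne_zero_of_lt hp.one_lt)
    rw [Finset.sum_eq_zero (fun i _ => hcon i)] at hsum
    exact hv (neg_eq_zero.mp hsum.symm)
  refine ⟨(i : ZMod p).val, e i, hi, ?_⟩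
  rw [he, ← Nat.cast_smul_eq_nsmul (ZMod p), ZMod.natCast_zmod_val]

/-- Multiplicative form of `exists_eigen_aux`. -/
theorem exists_eigen {X : Type*} [CommGroup X] (hexp : ∀ x : X, x ^ p = 1) [Nontrivial X]
    (a : MulAut X) (ha : a ^ (p - 1) = 1) : ∃ c : ℕ, ∃ w : X, w ≠ 1 ∧ a w = w ^ c := by
  have hexp' : ∀ v : Additive X, p • v = 0 := fun v => by
    apply Additive.toMul.injective
    rw [toMul_nsmul, toMul_zero]
    exact hexp _
  have : Module (ZMod p) (Additive X) := AddCommGroup.zmodModule hexp'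
  obtain ⟨x, hx⟩ := exists_ne (1 : X)
  let A : Module.End (ZMod p) (Additive X) :=
    AddMonoidHom.toZModLinearMap p (MonoidHom.toAdditive a.toMonoidHom)
  have hA : ∀ (j : ℕ) (v : Additive X), Additive.toMul ((A ^ j) v) = (a ^ j) (Additive.toMul v) := by
    intro j v
    induction j with
    | zero => simp
    | succ j ihj =>
      rw [pow_succ', pow_succ', Module.End.mul_apply, MulAut.mul_apply, ← ihj]
      rfl
  have hA1 : A ^ (p - 1) = 1 := LinearMap.ext fun v => Additive.toMul.injective (by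
    rw [hA, ha]; rfl)
  obtain ⟨c, w, hw, hwc⟩ := exists_eigen_aux A hA1 (v := Additive.ofMul x)
    (fun e => hx (congrArg Additive.toMul e))
  refine ⟨c, Additive.toMul w, fun e => hw (Additive.toMul.injective e), ?_⟩
  have h := congrArg Additive.toMul hwc
  rw [toMul_nsmul] at h
  exact h

theorem exists_prime_normal_le {N : Subgroup G} [N.Normal] (hN : IsPGroup p N) (hne : N ≠ ⊥)
    (hW : TameCentralizes p N) : ∃ X : Subgroup G, X.Normal ∧ X ≤ N ∧ Nat.card X = p := by
  have hp := (Fact.out : p.Prime)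
  obtain ⟨X, ⟨hXn, hXN, hXne⟩, hmin⟩ := (Set.toFinite {X : Subgroup G | X.Normal ∧ X ≤ N ∧ X ≠ ⊥}).exists_minimal
    ⟨N, ‹_›, le_rfl, hne⟩
  have hmin' : ∀ Y : Subgroup G, Y.Normal → Y ≤ X → Y ≠ ⊥ → Y = X := fun Y h1 h2 h3 =>
    le_antisymm h2 (hmin ⟨h1, h2.trans hXN, h3⟩ h2)
  refine ⟨X, hXn, hXN, ?_⟩
  have hXp : IsPGroup p X := hN.to_le hXN
  have hXcomm : ∀ a ∈ X, ∀ b ∈ X, a * b = b * a := by
    have hn : (X ⊓ Subgroup.centralizer (N : Set G)).Normal := inferInstance
    have hne' : X ⊓ Subgroup.centralizer (N : Set G) ≠ ⊥ := by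
      have : (X.subgroupOf N).Normal := hXn.subgroupOf N
      have h1 := PGroups.inf_center_ne_bot hN (X.subgroupOf N)
        (fun e => hXne (by simpa [Subgroup.subgroupOf_map_subtype, inf_eq_left.mpr hXN] using congrArg (Subgroup.map N.subtype) e))
      obtain ⟨z, ⟨hz1, hz2⟩, hz⟩ := (Subgroup.bot_or_exists_ne_one _).resolve_left h1
      intro e
      have : (z : G) ∈ X ⊓ Subgroup.centralizer (N : Set G) :=
        ⟨hz1, fun y hy => congrArg Subtype.val (Subgroup.mem_center_iff.mp hz2 ⟨y, hy⟩)⟩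
      rw [e, Subgroup.mem_bot] at this
      exact hz (Subtype.ext this)
    have h := hmin' _ hn inf_le_left hne'
    intro a ha b hb
    exact ((h.symm ▸ hb : b ∈ X ⊓ Subgroup.centralizer (N : Set G)).2 a (hXN ha))
  have hexp : ∀ a ∈ X, a ^ p = 1 := by
    let Y : Subgroup G :=
      { carrier := {a | a ∈ X ∧ a ^ p = 1}
        one_mem' := ⟨X.one_mem, one_pow _⟩
        mul_mem' := fun {a b} ha hb => ⟨X.mul_mem ha.1 hb.1, by
          rw [Commute.mul_pow (hXcomm a ha.1 b hb.1), ha.2, hb.2, one_mul]⟩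
        inv_mem' := fun {a} ha => ⟨X.inv_mem ha.1, by rw [inv_pow, ha.2, inv_one]⟩ }
    have hYn : Y.Normal := ⟨fun a ha g => ⟨hXn.conj_mem a ha.1 g, by rw [conj_pow, ha.2, mul_one, mul_inv_cancel]⟩⟩
    have hYne : Y ≠ ⊥ := by
      obtain ⟨z, hz, hzo⟩ := PGroups.exists_orderOf_eq hN
        (H := X.subgroupOf N) (fun e => hXne (by simpa [Subgroup.subgroupOf_map_subtype, inf_eq_left.mpr hXN] using congrArg (Subgroup.map N.subtype) e))
      intro e
      have : (z : G) ∈ Y := ⟨hz, by rw [← hzo, ← Subgroup.orderOf_coe]; exact pow_orderOf_eq_one _⟩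
      rw [e, Subgroup.mem_bot] at this
      rw [show z = 1 from Subtype.ext this, orderOf_one] at hzo
      exact hp.ne_one hzo.symm
    have h := hmin' Y hYn (fun a ha => ha.1) hYne
    exact fun a ha => (h.symm ▸ ha : a ∈ Y).2
  have hfixW : ∀ w ∈ tameSub p G, ∀ x ∈ X, w * x * w⁻¹ = x := by
    let θ : G →* MulAut X := MulAut.conjNormal
    have hR : IsPGroup p ((tameSub p G).map θ) := by
      rintro ⟨_, w, hw, rfl⟩
      obtain ⟨a, ha⟩ := exists_ppow_prime_part (p := p) (x := w)
      refine ⟨a, Subtype.ext ?_⟩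
      show θ w ^ (p ^ a) = 1
      rw [← map_pow]
      ext x
      exact hW _ ((tameSub p G).pow_mem hw _) ha x (hXN x.2)
    have hdvd : p ∣ Nat.card X := by
      rcases hXp.card_eq_or_dvd with h | h
      · exact absurd (Subgroup.card_eq_one.mp h) hXne
      · exact h
    obtain ⟨b, hb, hb1⟩ := hR.exists_fixed_point_of_prime_dvd_card_of_fixed_point X hdvd (a := 1)
      (fun r => map_one (r : MulAut X))
    have hn : (tameSub p G).Normal := by unfold tameSub; infer_instance
    have hYn : (X ⊓ Subgroup.centralizer (tameSub p G : Set G)).Normal := inferInstance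
    have hYne : X ⊓ Subgroup.centralizer (tameSub p G : Set G) ≠ ⊥ := by
      intro e
      have : (b : G) ∈ X ⊓ Subgroup.centralizer (tameSub p G : Set G) := by
        refine ⟨b.2, fun w hw => ?_⟩
        have h1 : w * (b : G) * w⁻¹ = b := congrArg Subtype.val (hb ⟨θ w, w, hw, rfl⟩)
        calc w * (b : G) = w * b * w⁻¹ * w := by group
          _ = b * w := by rw [h1]
      rw [e, Subgroup.mem_bot] at this
      exact hb1 (Subtype.ext this).symm
    have h := hmin' _ hYn inf_le_left hYne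
    intro w hw x hx
    rw [(h.symm ▸ hx : x ∈ X ⊓ Subgroup.centralizer (tameSub p G : Set G)).2 w hw, mul_inv_cancel_right]
  -- every element of `G` acts on `X` as a power map
  have heig : ∀ g : G, ∃ i : ℕ, ∀ x ∈ X, g * x * g⁻¹ = x ^ i := by
    intro g
    letI : CommGroup X := { (inferInstance : Group X) with mul_comm := fun a b => Subtype.ext (hXcomm a a.2 b b.2) }
    have : Nontrivial X := (Subgroup.nontrivial_iff_ne_bot X).mpr hXne
    obtain ⟨c, w, hw1, hw⟩ := exists_eigen (X := X) (fun y => Subtype.ext (hexp _ y.2)) (MulAut.conjNormal g) (by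
      rw [← map_pow]
      ext x
      exact hfixW _ (Subgroup.subset_normalClosure (Or.inr ⟨g, rfl⟩)) _ x.2)
    refine ⟨c, ?_⟩
    let Y : Subgroup G :=
      { carrier := {x | x ∈ X ∧ g * x * g⁻¹ = x ^ c}
        one_mem' := ⟨X.one_mem, by simp⟩
        mul_mem' := fun {a b} ha hb => ⟨X.mul_mem ha.1 hb.1, by
          rw [Commute.mul_pow (hXcomm a ha.1 b hb.1), ← ha.2, ← hb.2]; group⟩
        inv_mem' := fun {a} ha => ⟨X.inv_mem ha.1, by rw [inv_pow, ← ha.2]; group⟩ }
    have hYn : Y.Normal := ⟨fun a ha f => ⟨hXn.conj_mem a ha.1 f, by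
      have hw : ⁅g⁻¹, f⁻¹⁆ ∈ tameSub p G := Subgroup.subset_normalClosure (Or.inl ⟨_, _, rfl⟩)
      calc g * (f * a * f⁻¹) * g⁻¹ = f * (g * (⁅g⁻¹, f⁻¹⁆ * a * ⁅g⁻¹, f⁻¹⁆⁻¹) * g⁻¹) * f⁻¹ := by
            simp only [commutatorElement_def]; group
        _ = f * a ^ c * f⁻¹ := by rw [hfixW _ hw a ha.1, ha.2]
        _ = (f * a * f⁻¹) ^ c := conj_pow.symm⟩⟩
    have hYne : Y ≠ ⊥ := fun hbot => hw1 (Subtype.ext ((Subgroup.eq_bot_iff_forall Y).mp hbot _
      ⟨w.2, congrArg Subtype.val hw⟩))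
    have h := hmin' Y hYn (fun a ha => ha.1) hYne
    exact fun x hx => (h.symm ▸ hx : x ∈ Y).2
  obtain ⟨x, hx, hx1⟩ := (Subgroup.bot_or_exists_ne_one X).resolve_left hXne
  have hZn : (Subgroup.zpowers x).Normal := ⟨fun y hy g => by
    obtain ⟨i, hi⟩ := heig g
    obtain ⟨m, rfl⟩ := Subgroup.mem_zpowers_iff.mp hy
    rw [← conj_zpow, hi x hx]
    exact Subgroup.zpow_mem _ (Subgroup.pow_mem _ (Subgroup.mem_zpowers x) i) m⟩
  have hZ := hmin' _ hZn (Subgroup.zpowers_le.mpr hx) (fun e => hx1 (Subgroup.zpowers_eq_bot.mp e))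
  rw [← hZ, Nat.card_zpowers]
  exact orderOf_eq_prime (hexp x hx) hx1

/-- A normal `p`-subgroup centralized by the `p'`-part of `tameSub` with supersolvable quotient. -/
theorem supersolvable_of_tame {p : ℕ} [Fact p.Prime] {G : Type u} [Group G] [Finite G] (N : Subgroup G) [hNn : N.Normal]
    (hN : IsPGroup p N) (hW : TameCentralizes p N) (hQ : IsSupersolvable (G ⧸ N)) : IsSupersolvable G := by
  induction h : Nat.card G using Nat.strong_induction_on generalizing G with
  | _ m ih =>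
  subst h
  by_cases hne : N = ⊥
  · subst hne
    exact H30.isSupersolvable_congr QuotientGroup.quotientBot hQ
  obtain ⟨X, hXn, hXN, hXc⟩ := exists_prime_normal_le hN hne hW
  have hXcyc : IsCyclic X := isCyclic_of_prime_card (p := p) hXc
  refine H30.isSupersolvable_of_quotient_cyclic X hXcyc ?_
  have hXne : X ≠ ⊥ := H30.ne_bot_of_prime_card (hXc ▸ (Fact.out : p.Prime))
  exact ih _ (H30.card_quotient_lt X hXne) (hNn := hNn.map _ (QuotientGroup.mk'_surjective X))
    (N.map (QuotientGroup.mk' X)) (hN.map _) (tameCentralizes_quotient hW X)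
    (H30.isSupersolvable_congr (QuotientGroup.quotientQuotientEquivQuotient X N hXN).symm hQ) rfl

end Cfsg.Agent.H62
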