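import Mathlib
import Cfsg.Agent.Hall.CardForms

/-!
A finite group in which every proper subgroup is contained in a conjugate of one of two fixed
proper subgroups is solvable.
-/

set_option autoImplicit false

open MulAction Subgroup
open scoped Pointwise

namespace Cfsg.Agent.H62.TwoClasses

variable {G : Type*} [Group G] [Finite G]

/-- Every proper subgroup fixes a point of `G ⧸ A` or of `G ⧸ B`. -/
def Covers (A B : Subgroup G) : Prop :=
  ∀ H : Subgroup G, H ≠ ⊤ →
    (∃ q : G ⧸ A, H ≤ stabilizer G q) ∨ ∃ q : G ⧸ B, H ≤ stabilizer G q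

omit [Finite G] in
theorem Covers.symm {A B : Subgroup G} (h : Covers A B) : Covers B A := fun H hH => (h H hH).symm

omit [Finite G] in
theorem stabilizer_mk (A : Subgroup G) (g : G) :
    stabilizer G (g : G ⧸ A) = MulAut.conj g • A := by
  ext x
  rw [mem_stabilizer_iff, Subgroup.mem_pointwise_smul_iff_inv_smul_mem, ← map_inv,
    MulAut.smul_def, MulAut.conj_apply, inv_inv, MulAction.Quotient.smul_coe, eq_comm,
    QuotientGroup.eq, smul_eq_mul, mul_assoc]

omit [Finite G] in
theorem card_stabilizer (A : Subgroup G) (q : G ⧸ A) :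
    Nat.card (stabilizer G q) = Nat.card A := by
  induction q using QuotientGroup.induction_on with
  | H g =>
    rw [stabilizer_mk]
    exact (Nat.card_congr (Subgroup.equivSMul (MulAut.conj g) A).toEquiv).symm

theorem factorization_eq_of_not_dvd {A : Subgroup G} {p : ℕ} (hp : p.Prime) (hpA : ¬ p ∣ A.index) :
    (Nat.card A).factorization p = (Nat.card G).factorization p := by
  rw [← Subgroup.card_mul_index A,
    Nat.factorization_mul Nat.card_pos.ne' Subgroup.index_ne_zero_of_finite, Finsupp.add_apply,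
    Nat.factorization_eq_zero_of_not_dvd hpA, add_zero]

/-- Two distinct points of `G ⧸ A` fixed by a non-trivial `p`-subgroup, `p` prime to the index of
`A`, force that subgroup to fix a point of `G ⧸ B`. -/
theorem exists_fixed_of_two {A B : Subgroup G} (hsimple : ∀ N : Subgroup G, N.Normal → N = ⊥ ∨ N = ⊤)
    (hA : A ≠ ⊤) (hcov : Covers A B) {p : ℕ} [Fact p.Prime] (hpA : ¬ p ∣ A.index)
    (R : Subgroup G) (hR : IsPGroup p R) (a b : G ⧸ A) (hab : a ≠ b)
    (hRa : R ≤ stabilizer G a) (hRb : R ≤ stabilizer G b) :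
    ∃ q : G ⧸ B, R ≤ stabilizer G q := by
  rcases eq_or_ne R ⊥ with rfl | hR0
  · exact ⟨((1 : G) : G ⧸ B), bot_le⟩
  obtain ⟨Q, hRQ, hQmax⟩ := Finite.exists_le_maximal
    (p := fun Q : Subgroup G => IsPGroup p Q ∧
      ∃ a b : G ⧸ A, a ≠ b ∧ Q ≤ stabilizer G a ∧ Q ≤ stabilizer G b)
    (a := R) ⟨hR, a, b, hab, hRa, hRb⟩
  obtain ⟨hQp, a, b, hab, hQa, hQb⟩ := hQmax.prop
  have hQ0 : Q ≠ ⊥ := fun h => hR0 (le_bot_iff.mp (h ▸ hRQ))
  have hN : normalizer (Q : Set G) ≠ ⊤ := by
    intro h
    rcases hsimple Q (normalizer_eq_top_iff.mp h) with h | h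
    · exact hQ0 h
    · refine hA (Subgroup.eq_top_of_card_eq _ ?_)
      have : stabilizer G a = ⊤ := top_le_iff.mp (h ▸ hQa)
      rw [← card_stabilizer A a, this, Subgroup.card_top]
  rcases hcov _ hN with ⟨c, hc⟩ | ⟨c, hc⟩
  swap
  · exact ⟨c, hRQ.trans (Subgroup.le_normalizer.trans hc)⟩
  exfalso
  obtain ⟨a, hac, hQa⟩ : ∃ a : G ⧸ A, a ≠ c ∧ Q ≤ stabilizer G a := by
    by_cases h : a = c
    · exact ⟨b, fun h' => hab (h.trans h'.symm), hQb⟩
    · exact ⟨a, h, hQa⟩
  have hQc : Q ≤ stabilizer G c := Subgroup.le_normalizer.trans hc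
  obtain ⟨P, hP⟩ := (hQp.comap_subtype (K := stabilizer G a)).exists_le_sylow
  let P' : Subgroup G := P.toSubgroup.map (stabilizer G a).subtype
  have hP'p : IsPGroup p P' := P.isPGroup'.map _
  have hP'a : P' ≤ stabilizer G a := map_subtype_le _
  have hQP' : Q ≤ P' := fun x hx => ⟨⟨x, hQa hx⟩, hP hx, rfl⟩
  rcases hQP'.eq_or_lt with hEq | hLt
  · have hcard : Nat.card Q = p ^ (Nat.card G).factorization p := by
      rw [hEq, card_map_of_injective (subtype_injective _), P.card_eq_multiplicity,
        card_stabilizer, factorization_eq_of_not_dvd Fact.out hpA]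
    let S : Sylow p G := Sylow.ofCard Q hcard
    obtain ⟨g, hg⟩ := MulAction.exists_smul_eq G c a
    have hgS : ((g • S : Sylow p G) : Subgroup G) ≤ stabilizer G a := by
      rw [← hg, stabilizer_smul_eq_stabilizer_map_conj]
      exact Subgroup.map_mono (show (S : Subgroup G) ≤ stabilizer G c from hQc)
    obtain ⟨h, hh⟩ := MulAction.exists_smul_eq (stabilizer G a) ((g • S).subtype hgS)
      (S.subtype (show (S : Subgroup G) ≤ stabilizer G a from hQa))
    simp_rw [Sylow.smul_subtype, Subgroup.smul_def, smul_smul] at hh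
    have hmem : (h : G) * g ∈ normalizer (Q : Set G) :=
      Sylow.smul_eq_iff_mem_normalizer.mp (Sylow.subtype_injective hh)
    apply hac
    calc a = (h : G) • a := h.2.symm
      _ = ((h : G) * g) • c := by rw [mul_smul, hg]
      _ = c := hc hmem
  · haveI : Group.IsNilpotent P' := hP'p.isNilpotent
    have hlt : Q.subgroupOf P' < ⊤ := by
      rw [lt_top_iff_ne_top, Ne, Subgroup.subgroupOf_eq_top]
      exact not_le_of_gt hLt
    have hstep := normalizerCondition_of_isNilpotent (G := P') (Q.subgroupOf P') hlt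
    rw [← subgroupOf_normalizer_eq hQP'] at hstep
    obtain ⟨x, hxN, hxQ⟩ := SetLike.exists_of_lt hstep
    have hle : Q ≤ P' ⊓ normalizer (Q : Set G) := le_inf hQP' Subgroup.le_normalizer
    have hT : P' ⊓ normalizer (Q : Set G) ≤ Q := hQmax.2
      ⟨hP'p.to_le inf_le_left, a, c, hac, inf_le_left.trans hP'a, inf_le_right.trans hc⟩ hle
    exact hxQ (hT ⟨x.2, hxN⟩)

theorem index_ne_one {A : Subgroup G} (hA : A ≠ ⊤) : A.index ≠ 1 := fun h =>
  hA (Subgroup.index_eq_one.mp h)

/-- In a simple group with two classes covering all proper subgroups, every suborbit on `G ⧸ A`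
has length divisible by the index of `B`. -/
theorem index_modEq_one {A B : Subgroup G} (hsimple : ∀ N : Subgroup G, N.Normal → N = ⊥ ∨ N = ⊤)
    (hA : A ≠ ⊤) (hcov : Covers A B) (hcop : A.index.Coprime B.index) :
    (A.index : ZMod B.index) = 1 := by
  classical
  have key : ∀ K : Subgroup G, (∃ a b : G ⧸ A, a ≠ b ∧ K ≤ stabilizer G a ∧ K ≤ stabilizer G b) →
      Nat.card K * B.index ∣ Nat.card A := by
    rintro K ⟨a, b, hab, hKa, hKb⟩
    have hKA : Nat.card K ∣ Nat.card A :=
      card_stabilizer A a ▸ Subgroup.card_dvd_of_le hKa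
    have hKB : Nat.card K ∣ Nat.card B := by
      rw [Nat.dvd_iff_prime_pow_dvd_dvd]
      intro p k hp hpk
      haveI := Fact.mk hp
      by_cases hpB : p ∣ B.index
      · have hpA : ¬ p ∣ A.index := fun h => hp.ne_one (Nat.eq_one_of_dvd_coprimes hcop h hpB)
        obtain ⟨R₀, hR₀⟩ := Sylow.exists_subgroup_card_pow_prime p hpk
        have hRc : Nat.card (R₀.map K.subtype) = p ^ k := by
          rw [card_map_of_injective (subtype_injective _), hR₀]
        obtain ⟨q, hq⟩ := exists_fixed_of_two hsimple hA hcov hpA (R₀.map K.subtype)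
          (IsPGroup.of_card hRc) a b hab ((map_subtype_le _).trans hKa)
          ((map_subtype_le _).trans hKb)
        rw [← hRc, ← card_stabilizer B q]
        exact Subgroup.card_dvd_of_le hq
      · have : p ^ k ∣ Nat.card B * B.index := by
          rw [Subgroup.card_mul_index]
          exact (hpk.trans hKA).trans (Subgroup.card_subgroup_dvd_card A)
        exact (((hp.coprime_iff_not_dvd).mpr hpB).pow_left k).dvd_of_dvd_mul_right this
    have hmul : Nat.card A * A.index = Nat.card B * B.index := by
      rw [Subgroup.card_mul_index, Subgroup.card_mul_index]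
    obtain ⟨d, hd⟩ : B.index ∣ Nat.card A :=
      hcop.symm.dvd_of_dvd_mul_right (Dvd.intro_left _ hmul.symm)
    have hB : Nat.card B = d * A.index := by
      have h2 : B.index * (d * A.index) = B.index * Nat.card B := by
        rw [← mul_assoc, ← hd, hmul, mul_comm]
      exact (Nat.eq_of_mul_eq_mul_left (Nat.pos_of_ne_zero Subgroup.index_ne_zero_of_finite) h2).symm
    have hKd : Nat.card K ∣ d := by
      have h1 : Nat.card K ∣ Nat.gcd (d * A.index) (d * B.index) :=
        Nat.dvd_gcd (hB ▸ hKB) (by rw [mul_comm d, ← hd]; exact hKA)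
      rwa [Nat.gcd_mul_left, hcop.gcd_eq_one, mul_one] at h1
    rw [hd, mul_comm B.index]
    exact Nat.mul_dvd_mul_right hKd _
  haveI : Fintype (orbitRel.Quotient A (G ⧸ A)) := Fintype.ofFinite _
  let base : G ⧸ A := ((1 : G) : G ⧸ A)
  have hbase : ∀ x : A, x • base = base := fun x => by
    change (x : G) • base = base
    rw [← mem_stabilizer_iff, stabilizer_mk, map_one, one_smul]
    exact x.2
  have horb : ∀ ω : orbitRel.Quotient A (G ⧸ A),
      (Nat.card ω.orbit : ZMod B.index) = if ω = Quotient.mk'' base then 1 else 0 := by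
    intro ω
    induction ω using Quotient.inductionOn' with | h q => ?_
    rw [orbitRel.Quotient.orbit_mk]
    split_ifs with h
    · have hq : q = base := by
        obtain ⟨x, hx⟩ := orbitRel_apply.mp (Quotient.eq''.mp h)
        exact hx.symm.trans (hbase x)
      subst hq
      have : orbit A base = {base} := by
        ext y
        exact ⟨by rintro ⟨x, rfl⟩; exact hbase x, by rintro rfl; exact mem_orbit_self _⟩
      rw [this]
      simp
    · have hq : q ≠ base := fun hq => h (congrArg Quotient.mk'' hq)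
      have hstab : (stabilizer A q) = (stabilizer G q).subgroupOf A := by
        ext x
        rw [mem_subgroupOf, mem_stabilizer_iff, mem_stabilizer_iff]
        rfl
      have hK : Nat.card (stabilizer A q) * B.index ∣ Nat.card A := by
        rw [hstab, ← card_map_of_injective
          (K := (stabilizer G q).subgroupOf A) A.subtype_injective, subgroupOf_map_subtype]
        refine key _ ⟨q, base, hq, inf_le_left, ?_⟩
        rw [stabilizer_mk, map_one, one_smul]
        exact inf_le_right
      rw [ZMod.natCast_eq_zero_iff]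
      have hindex : Nat.card (stabilizer A q) * (stabilizer A q).index = Nat.card A :=
        Subgroup.card_mul_index _
      rw [Nat.card_coe_set_eq, ← index_stabilizer]
      exact Nat.dvd_of_mul_dvd_mul_left Nat.card_pos (hindex.symm ▸ hK)
  change ((Nat.card (G ⧸ A) : ℕ) : ZMod B.index) = 1
  rw [Nat.card_congr (selfEquivSigmaOrbits' A (G ⧸ A)), Nat.card_sigma,
    Nat.cast_sum, Finset.sum_congr rfl fun ω _ => horb ω]
  simp

theorem Covers.exists_le {A B : Subgroup G} (h : Covers A B) {H : Subgroup G} (hH : H ≠ ⊤) :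
    ∃ g : G, H ≤ MulAut.conj g • A ∨ H ≤ MulAut.conj g • B := by
  rcases h H hH with ⟨q, hq⟩ | ⟨q, hq⟩ <;>
  · induction q using QuotientGroup.induction_on with
    | H g =>
      rw [stabilizer_mk] at hq
      exact ⟨g, by tauto⟩

theorem not_covers_of_simple (hsol : ¬ Group.IsSolvable G)
    (hsimple : ∀ N : Subgroup G, N.Normal → N = ⊥ ∨ N = ⊤)
    {A B : Subgroup G} (hA : A ≠ ⊤) (hB : B ≠ ⊤) (hcov : Covers A B) : False := by
  have hcop : A.index.Coprime B.index := by
    apply Nat.coprime_of_dvd
    intro p hp hpA hpB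
    haveI := Fact.mk hp
    obtain ⟨P⟩ := (inferInstance : Nonempty (Sylow p G))
    have hP : (P : Subgroup G) ≠ ⊤ := by
      intro h
      haveI : Group.IsNilpotent G :=
        (IsPGroup.of_equiv P.isPGroup' ((MulEquiv.subgroupCongr h).trans topEquiv)).isNilpotent
      exact hsol inferInstance
    have hnd : ¬ p ∣ (P : Subgroup G).index := P.not_dvd_index
    rcases hcov _ hP with ⟨q, hq⟩ | ⟨q, hq⟩
    · refine hnd (hpA.trans ?_)
      change Nat.card (G ⧸ _) ∣ _
      rw [← index_stabilizer_of_transitive G q]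
      exact Subgroup.index_dvd_of_le hq
    · refine hnd (hpB.trans ?_)
      change Nat.card (G ⧸ _) ∣ _
      rw [← index_stabilizer_of_transitive G q]
      exact Subgroup.index_dvd_of_le hq
  have h1 : B.index ∣ A.index - 1 := by
    rw [← Nat.modEq_iff_dvd' (Nat.pos_of_ne_zero Subgroup.index_ne_zero_of_finite),
      ← ZMod.natCast_eq_natCast_iff, Nat.cast_one]
    exact (index_modEq_one hsimple hA hcov hcop).symm
  have h2 : A.index ∣ B.index - 1 := by
    rw [← Nat.modEq_iff_dvd' (Nat.pos_of_ne_zero Subgroup.index_ne_zero_of_finite),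
      ← ZMod.natCast_eq_natCast_iff, Nat.cast_one]
    exact (index_modEq_one hsimple hB hcov.symm hcop.symm).symm
  have a2 : 2 ≤ A.index :=
    Nat.two_le_iff _ |>.mpr ⟨Subgroup.index_ne_zero_of_finite, index_ne_one hA⟩
  have b2 : 2 ≤ B.index :=
    Nat.two_le_iff _ |>.mpr ⟨Subgroup.index_ne_zero_of_finite, index_ne_one hB⟩
  have := Nat.le_of_dvd (by omega) h1
  have := Nat.le_of_dvd (by omega) h2
  omega

/-- A finite group whose proper subgroups all lie in conjugates of two proper subgroups is
solvable. -/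
theorem isSolvable_of_covers : ∀ (n : ℕ) {G : Type*} [Group G] [Finite G], Nat.card G = n →
    ∀ A B : Subgroup G, A ≠ ⊤ → B ≠ ⊤ → Covers A B → Group.IsSolvable G := by
  intro n
  induction n using Nat.strong_induction_on with
  | _ n IH =>
  intro G _ _ hn A B hA hB hcov
  by_contra hsol
  have hconj : ∀ (g : G) (C : Subgroup G), C ≠ ⊤ → MulAut.conj g • C ≠ ⊤ := by
    intro g C hC h
    refine hC (Subgroup.eq_top_of_card_eq _ ?_)
    rw [← card_stabilizer C (g : G ⧸ C), stabilizer_mk, h, Subgroup.card_top]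
  have hnone : ∀ (g : G) (C N : Subgroup G), N.Normal → N ≤ C → N ≤ MulAut.conj g • C := by
    intro g C N hN hNC x hx
    rw [Subgroup.mem_pointwise_smul_iff_inv_smul_mem, ← map_inv, MulAut.smul_def,
      MulAut.conj_apply, inv_inv]
    exact hNC (by simpa using hN.conj_mem x hx g⁻¹)
  -- no non-trivial solvable normal subgroup
  have hrad : ∀ N : Subgroup G, N.Normal → Group.IsSolvable N → N = ⊥ := by
    intro N hN hNs
    by_contra hN0
    haveI := hN
    have hlt : Nat.card (G ⧸ N) < n := by
      rw [← hn, Subgroup.card_eq_card_quotient_mul_card_subgroup N]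
      exact lt_mul_of_one_lt_right Nat.card_pos (Finite.one_lt_card_iff_nontrivial.mpr
        ((Subgroup.nontrivial_iff_ne_bot N).mpr hN0))
    have hNtop : N ≠ ⊤ := by
      rintro rfl
      exact hsol (Group.isSolvable_of_surjective (f := (topEquiv : (⊤ : Subgroup G) ≃* G).toMonoidHom)
        topEquiv.surjective)
    -- choose images of two covering subgroups containing `N`
    obtain ⟨A', B', hA', hB', hNA, hNB, hcov'⟩ : ∃ A' B' : Subgroup G, A' ≠ ⊤ ∧ B' ≠ ⊤ ∧
        N ≤ A' ∧ N ≤ B' ∧ ∀ H : Subgroup G, H ≠ ⊤ → N ≤ H →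
          ∃ g : G, H ≤ MulAut.conj g • A' ∨ H ≤ MulAut.conj g • B' := by
      have hback : ∀ (g : G) (C : Subgroup G), N ≤ MulAut.conj g • C → N ≤ C := by
        intro g C h
        have := hnone g⁻¹ _ N hN h
        rwa [map_inv, inv_smul_smul] at this
      obtain ⟨g₀, hg₀⟩ := hcov.exists_le hNtop
      by_cases ha : N ≤ A <;> by_cases hb : N ≤ B
      · exact ⟨A, B, hA, hB, ha, hb, fun H hH _ => hcov.exists_le hH⟩
      · refine ⟨A, A, hA, hA, ha, ha, fun H hH hNH => ?_⟩
        obtain ⟨g, hg | hg⟩ := hcov.exists_le hH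
        · exact ⟨g, Or.inl hg⟩
        · exact (hb (hback g B (hNH.trans hg))).elim
      · refine ⟨B, B, hB, hB, hb, hb, fun H hH hNH => ?_⟩
        obtain ⟨g, hg | hg⟩ := hcov.exists_le hH
        · exact (ha (hback g A (hNH.trans hg))).elim
        · exact ⟨g, Or.inl hg⟩
      · exact hg₀.elim (fun h => (ha (hback _ _ h)).elim) fun h => (hb (hback _ _ h)).elim
    let π := QuotientGroup.mk' N
    have hπ : Function.Surjective π := QuotientGroup.mk'_surjective N
    have himg : ∀ C : Subgroup G, N ≤ C → C ≠ ⊤ → C.map π ≠ ⊤ := by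
      intro C hNC hC h
      apply hC
      rw [← comap_map_eq_self (f := π) (H := C) (by rw [QuotientGroup.ker_mk']; exact hNC), h, comap_top]
    have hq : Group.IsSolvable (G ⧸ N) := by
      refine IH _ hlt rfl (A'.map π) (B'.map π) (himg _ hNA hA') (himg _ hNB hB') ?_
      intro H hH
      have h1 : H.comap π ≠ ⊤ := fun h => hH (by
        rw [← map_comap_eq_self_of_surjective hπ H, h, map_top_of_surjective π hπ])
      have h2 : N ≤ H.comap π := fun x hx => by
        rw [mem_comap, QuotientGroup.mk'_apply, (QuotientGroup.eq_one_iff x).mpr hx]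
        exact one_mem H
      have hsm : ∀ (g : G) (C : Subgroup G), H.comap π ≤ MulAut.conj g • C →
          H ≤ MulAut.conj (π g) • C.map π := by
        intro g C h y hy
        obtain ⟨x, rfl⟩ := hπ y
        have hx := h (show x ∈ H.comap π from hy)
        rw [Subgroup.mem_pointwise_smul_iff_inv_smul_mem, ← map_inv, MulAut.smul_def,
          MulAut.conj_apply] at hx ⊢
        exact ⟨_, hx, by simp⟩
      obtain ⟨g, hg | hg⟩ := hcov' _ h1 h2
      · exact Or.inl ⟨π g, (hsm g A' hg).trans (stabilizer_mk _ _).ge⟩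
      · exact Or.inr ⟨π g, (hsm g B' hg).trans (stabilizer_mk _ _).ge⟩
    exact hsol (Group.isSolvable_of_ker_le_range N.subtype π
      (by rw [QuotientGroup.ker_mk', range_subtype]))
  refine not_covers_of_simple hsol (fun N hN => ?_) hA hB hcov
  by_contra hN'
  rw [not_or] at hN'
  haveI := hN
  -- `N` is contained in one of the subgroups, say `B`, and the Frattini argument gives a
  -- contradiction
  have hfr : ∀ A B : Subgroup G, A ≠ ⊤ → B ≠ ⊤ → Covers A B → N ≤ B → False := by
    intro A B hA hB hcov hNB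
    have hAll : ∀ p : ℕ, p.Prime → ∀ P : Sylow p N, ∃ g : G,
        (P : Subgroup N).map N.subtype ≤ MulAut.conj g • A := by
      intro p hp P
      haveI := Fact.mk hp
      by_cases hne : normalizer (((P : Subgroup N).map N.subtype : Subgroup G) : Set G) = ⊤
      · have hn' : ((P : Subgroup N).map N.subtype).Normal := normalizer_eq_top_iff.mp hne
        haveI : Group.IsNilpotent ((P : Subgroup N).map N.subtype) :=
          (P.isPGroup'.map _).isNilpotent
        exact ⟨1, (hrad _ hn' inferInstance).le.trans bot_le⟩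
      · obtain ⟨g, hg | hg⟩ := hcov.exists_le hne
        · exact ⟨g, Subgroup.le_normalizer.trans hg⟩
        · exfalso
          apply hconj g B hB
          rw [← top_le_iff, ← Sylow.normalizer_sup_eq_top P]
          exact sup_le hg (hnone g B N hN hNB)
    have hdvd : Nat.card N ∣ Nat.card (A ⊓ N : Subgroup G) := by
      rw [Nat.dvd_iff_prime_pow_dvd_dvd]
      intro p k hp hpk
      haveI := Fact.mk hp
      obtain ⟨P⟩ := (inferInstance : Nonempty (Sylow p N))
      obtain ⟨g, hg⟩ := hAll p hp P
      have h1 : p ^ k ∣ Nat.card ((P : Subgroup N).map N.subtype) := by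
        rw [card_map_of_injective (subtype_injective _)]
        exact P.pow_dvd_card_of_pow_dvd_card hpk
      refine h1.trans ?_
      have h2 : MulAut.conj g⁻¹ • ((P : Subgroup N).map N.subtype) ≤ A ⊓ N := by
        refine le_inf ?_ ?_
        · rw [map_inv, Subgroup.pointwise_smul_subset_iff, inv_inv]
          exact hg
        · rw [map_inv, Subgroup.pointwise_smul_subset_iff, inv_inv]
          exact (map_subtype_le _).trans (hnone g N N hN le_rfl)
      rw [Nat.card_congr (Subgroup.equivSMul (MulAut.conj g⁻¹)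
        ((P : Subgroup N).map N.subtype)).toEquiv]
      exact Subgroup.card_dvd_of_le h2
    have hNA : N ≤ A := by
      have := Subgroup.eq_of_le_of_card_ge (inf_le_right : A ⊓ N ≤ N)
        (Nat.le_of_dvd Nat.card_pos hdvd)
      exact inf_eq_right.mp this
    -- now `N` lies in both subgroups
    obtain ⟨p, hp, hpdvd⟩ := Nat.exists_prime_and_dvd (n := Nat.card N) (by
      intro h
      exact hN'.1 (Subgroup.eq_bot_of_card_eq N h))
    haveI := Fact.mk hp
    obtain ⟨P⟩ := (inferInstance : Nonempty (Sylow p N))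
    have hPne : (P : Subgroup N).map N.subtype ≠ ⊥ := fun h =>
      P.ne_bot_of_dvd_card hpdvd ((map_eq_bot_iff_of_injective _ N.subtype_injective).mp h)
    have hne : normalizer (((P : Subgroup N).map N.subtype : Subgroup G) : Set G) ≠ ⊤ := by
      intro h
      haveI : Group.IsNilpotent ((P : Subgroup N).map N.subtype) :=
        (P.isPGroup'.map _).isNilpotent
      exact hPne (hrad _ (normalizer_eq_top_iff.mp h) inferInstance)
    obtain ⟨g, hg⟩ := hcov.exists_le hne
    rcases hg with hg | hg
    · apply hconj g A hA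
      rw [← top_le_iff, ← Sylow.normalizer_sup_eq_top P]
      exact sup_le hg (hnone g A N hN hNA)
    · apply hconj g B hB
      rw [← top_le_iff, ← Sylow.normalizer_sup_eq_top P]
      exact sup_le hg (hnone g B N hN hNB)
  obtain ⟨g, hg | hg⟩ := hcov.exists_le hN'.2
  · refine hfr B A hB hA hcov.symm ?_
    have := hnone g⁻¹ _ N hN hg
    rwa [map_inv, inv_smul_smul] at this
  · refine hfr A B hA hB hcov ?_
    have := hnone g⁻¹ _ N hN hg
    rwa [map_inv, inv_smul_smul] at this

end Cfsg.Agent.H62.TwoClasses
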